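import Cfsg.Agent.Rf.M1

/-! S5262, slice B: coordinates of commutators and squares in `U`. -/

set_option autoImplicit false
set_option maxRecDepth 8000
set_option linter.unusedSimpArgs false

namespace Cfsg.Agent.Rf.U

open scoped commutatorElement

variable {K : Type*} [Field K] [TF K]

/-- a coordinate of the commutator -/
def cy1 (a b : U K) : K := 0
/-- a coordinate of the commutator -/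
def cx1 (a b : U K) : K := φ a.y1 * b.y1 + a.y1 * φ b.y1
/-- a coordinate of the commutator -/
def cx2 (a b : U K) : K := φ a.x1 * b.x8 + a.x1 * b.y7 + a.x8 * φ b.x1 + a.x8 * b.y1 ^ 2 * φ b.y1 + a.y1 * b.y3 +
    a.y1 ^ 2 * φ a.y1 * b.x8 + a.y3 * b.y1 + a.y7 * b.x1 + a.x1 * a.x8 * b.y1 + a.x1 * a.y1 * b.x8 +
    a.x1 * b.x8 * b.y1 + a.x8 * φ a.y1 * b.y1 ^ 2 + a.x8 * a.y1 * b.x1 + a.x8 * b.x1 * b.y1 +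
    φ a.y1 * b.y1 * b.y7 + a.y1 * a.y7 * φ b.y1 + a.y1 * b.x1 * b.x8 + a.y1 * φ a.y1 * b.x8 * b.y1
/-- a coordinate of the commutator -/
def cy3 (a b : U K) : K := a.x1 * b.x8 + a.x8 * b.x1 + a.x8 * b.y1 * φ b.y1 + φ a.y1 * b.y7 + a.y1 * φ a.y1 * b.x8 + a.y7 * φ b.y1 +
    a.x8 * φ a.y1 * b.y1 + a.y1 * b.x8 * φ b.y1
/-- a coordinate of the commutator -/
def cx3 (a b : U K) : K := φ a.x1 * b.x7 + a.x1 * b.x6 + a.x1 * φ a.x1 * b.x8 * φ b.x8 + φ a.x2 * b.y7 + a.x2 * b.y5 + a.x4 * b.y1 +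
    a.x6 * b.x1 + a.x7 * φ b.x1 + a.x7 * b.y1 ^ 2 * φ b.y1 + a.x8 * φ a.x8 * b.x1 * φ b.x1 + a.y1 * b.x4 +
    a.y1 ^ 2 * φ a.y1 * b.x7 + φ a.y3 * b.y3 + a.y3 * φ b.y3 + a.y5 * b.x2 + a.y7 * φ b.x2 +
    a.y7 * φ a.y7 * b.y1 ^ 2 * φ b.y1 + φ a.x1 * φ a.x8 * b.y3 + φ a.x1 * a.x8 * b.y5 +
    φ a.x1 * a.x8 * φ a.x8 * b.x1 + φ a.x1 * a.y3 * φ b.x8 + φ a.x1 * a.y5 * b.x8 + φ a.x1 * φ a.y7 * b.y7 +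
    φ a.x1 * a.y7 * φ b.y7 + φ a.x1 * b.x1 * b.x8 * φ b.x8 + φ a.x1 * φ b.x8 * b.y3 + φ a.x1 * b.x8 * b.y5 +
    a.x1 * a.x2 * φ b.x8 + a.x1 * a.x7 * b.y1 + a.x1 * φ a.x8 * b.x2 + a.x1 * a.x8 * φ b.y3 +
    a.x1 * a.x8 * φ a.x8 * φ b.x1 + a.x1 * a.x8 * φ a.x8 * b.y1 ^ 2 * φ b.y1 + a.x1 * a.y1 * b.x7 +
    a.x1 * a.y1 * b.y7 * φ b.y7 + a.x1 * a.y1 ^ 2 * φ a.y1 * b.x8 * φ b.x8 + a.x1 * φ a.y3 * b.x8 +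
    a.x1 * a.y5 * b.y7 + a.x1 * a.y7 * b.y5 + a.x1 * φ b.x1 * b.x8 * φ b.x8 + a.x1 * b.x2 * φ b.x8 +
    a.x1 * b.x7 * b.y1 + a.x1 * b.x8 * φ b.y3 + a.x1 * b.x8 * φ b.x8 * b.y1 ^ 2 * φ b.y1 +
    a.x1 * b.y1 * b.y7 * φ b.y7 + a.x1 * b.y5 * b.y7 + a.x1 ^ 2 * a.y1 * b.x8 * φ b.x8 +
    a.x1 ^ 2 * φ b.x8 * b.y7 + a.x1 ^ 2 * b.x8 * φ b.x8 * b.y1 + φ a.x2 * a.x8 * b.y1 +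
    φ a.x2 * a.y1 * b.x8 + φ a.x2 * b.x8 * b.y1 + a.x2 * φ a.x8 * b.x1 + a.x2 * a.y1 * φ b.y7 +
    a.x2 * φ a.y7 * b.y1 + a.x2 * b.x1 * φ b.x8 + a.x2 * b.y1 * φ b.y7 + a.x6 * a.y1 * φ b.y1 +
    a.x7 * φ a.y1 * b.y1 ^ 2 + a.x7 * a.y1 * b.x1 + a.x7 * b.x1 * b.y1 + φ a.x8 * a.y1 ^ 2 * φ a.y1 * b.y3 +
    φ a.x8 * a.y3 * φ b.x1 + φ a.x8 * a.y3 * b.y1 ^ 2 * φ b.y1 + φ a.x8 * a.y7 * b.y1 ^ 2 * φ b.y1 ^ 2 +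
    φ a.x8 * φ b.x1 * b.y3 + φ a.x8 * b.x1 * b.x2 + φ a.x8 * b.y1 ^ 2 * φ b.y1 * b.y3 +
    a.x8 * a.y1 * φ b.x2 + a.x8 * a.y1 ^ 2 * φ a.y1 * b.y5 + a.x8 * φ a.y3 * b.x1 + a.x8 * a.y5 * φ b.x1 +
    a.x8 * a.y5 * b.y1 ^ 2 * φ b.y1 + a.x8 * φ a.y7 * b.y1 ^ 3 * φ b.y1 + a.x8 * φ b.x1 * b.y5 +
    a.x8 * b.x1 * φ b.y3 + a.x8 * φ b.x2 * b.y1 + a.x8 * b.y1 ^ 2 * φ b.y1 * b.y5 +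
    a.x8 * φ a.x8 * φ a.y1 * b.y1 ^ 3 * φ b.y1 + a.x8 * φ a.x8 * a.y1 * b.y1 ^ 2 * φ b.y1 ^ 2 +
    a.x8 * φ a.x8 * a.y1 * φ a.y1 * b.y1 ^ 2 * φ b.y1 + a.x8 * φ a.x8 * a.y1 ^ 2 * φ a.y1 * b.x1 +
    a.x8 * φ a.x8 * b.x1 * b.y1 ^ 2 * φ b.y1 + a.x8 * φ a.x8 * b.x1 ^ 2 * b.y1 + φ a.y1 * b.x6 * b.y1 +
    φ a.y1 * φ b.y3 * b.y7 + a.y1 * a.y3 * b.y5 + a.y1 * a.y5 * b.y3 + a.y1 * φ a.y7 * b.x2 +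
    a.y1 * a.y7 * φ a.y7 * b.x1 + a.y1 * b.x1 * b.x7 + a.y1 * φ b.x2 * b.x8 + a.y1 * b.x2 * φ b.y7 +
    a.y1 * φ a.y1 * φ b.x1 * b.x8 * φ b.x8 + a.y1 * φ a.y1 * b.x7 * b.y1 + a.y1 * φ a.y1 * b.x8 * φ b.y3 +
    a.y1 * φ a.y1 * b.x8 * φ b.x8 * b.y1 ^ 2 * φ b.y1 + a.y1 * φ a.y1 * b.y1 * b.y7 * φ b.y7 +
    a.y1 * φ a.y1 ^ 2 * b.x8 * φ b.x8 * b.y1 ^ 2 + a.y1 ^ 2 * b.y3 * φ b.y7 +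
    a.y1 ^ 2 * φ a.y1 * a.y3 * φ b.x8 + a.y1 ^ 2 * φ a.y1 * a.y5 * b.x8 + a.y1 ^ 2 * φ a.y1 * φ a.y7 * b.y7 +
    a.y1 ^ 2 * φ a.y1 * a.y7 * φ b.y7 + a.y1 ^ 2 * φ a.y1 * b.x1 * b.x8 * φ b.x8 +
    a.y1 ^ 2 * φ a.y1 * φ b.x8 * b.y3 + a.y1 ^ 2 * φ a.y1 * b.x8 * b.y5 +
    a.y1 ^ 2 * φ a.y1 ^ 2 * b.x8 * φ b.x8 * b.y1 + a.y1 ^ 3 * φ a.y1 * b.x8 * φ b.y7 +
    φ a.y3 * a.y7 * φ b.y1 + φ a.y3 * b.x1 * b.x8 + a.y3 * φ b.x1 * φ b.x8 +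
    a.y3 * φ b.x8 * b.y1 ^ 2 * φ b.y1 + a.y3 * b.y1 * b.y5 + a.y5 * a.y7 * b.x1 + a.y5 * φ b.x1 * b.x8 +
    a.y5 * b.x1 * b.y7 + a.y5 * b.x8 * b.y1 ^ 2 * φ b.y1 + a.y5 * b.y1 * b.y3 + φ a.y7 * φ b.x1 * b.y7 +
    φ a.y7 * b.x2 * b.y1 + φ a.y7 * b.y1 ^ 2 * φ b.y1 * b.y7 + a.y7 * φ b.x1 * φ b.y7 + a.y7 * b.x1 * b.y5 +
    a.y7 * b.y1 ^ 2 * φ b.y1 * φ b.y7 + φ a.x1 * φ a.x8 * a.y7 * φ b.y1 + φ a.x1 * φ a.x8 * b.x1 * b.x8 +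
    φ a.x1 * a.x8 * φ a.y7 * b.y1 + φ a.x1 * a.x8 * b.x1 * φ b.x8 + φ a.x1 * a.x8 * b.y1 * φ b.y7 +
    φ a.x1 * φ a.y1 * b.x8 * φ b.x8 * b.y1 + φ a.x1 * a.y1 * b.x8 * φ b.y7 + φ a.x1 * φ a.y7 * b.x8 * b.y1 +
    φ a.x1 * a.y7 * φ b.x8 * φ b.y1 + φ a.x1 * b.x8 * b.y1 * φ b.y7 + a.x1 * φ a.x8 * a.y1 * b.y3 +
    a.x1 * φ a.x8 * a.y7 * b.x1 + a.x1 * φ a.x8 * b.x1 * b.y7 + a.x1 * φ a.x8 * b.y1 * b.y3 +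
    a.x1 * a.x8 * a.y1 * b.y5 + a.x1 * a.x8 * a.y5 * b.y1 + a.x1 * a.x8 * b.y1 * b.y5 +
    a.x1 * a.x8 * φ a.x8 * a.y1 * b.x1 + a.x1 * a.x8 * φ a.x8 * a.y1 * b.y1 * φ b.y1 +
    a.x1 * a.x8 * φ a.x8 * b.x1 * b.y1 + a.x1 * φ a.y1 * b.x8 * φ b.x8 * b.y1 ^ 2 +
    a.x1 * a.y1 * a.y3 * φ b.x8 + a.x1 * a.y1 * a.y5 * b.x8 + a.x1 * a.y1 * φ a.y7 * b.y7 +
    a.x1 * a.y1 * a.y7 * φ b.y7 + a.x1 * a.y1 * b.x8 * b.y5 + a.x1 * a.y1 ^ 2 * b.x8 * φ b.y7 +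
    a.x1 * a.y3 * φ b.x8 * b.y1 + a.x1 * a.y5 * b.x8 * b.y1 + a.x1 * φ a.y7 * b.x8 * b.y1 ^ 2 +
    a.x1 * a.y7 * b.y1 * φ b.y7 + a.x1 * b.x1 * φ b.x8 * b.y7 + a.x1 * b.x1 * b.x8 * φ b.x8 * b.y1 +
    a.x1 * φ b.x8 * b.y1 * b.y3 + a.x1 * b.x8 * b.y1 * b.y5 + a.x1 ^ 2 * a.x8 * φ b.x8 * b.y1 +
    a.x2 * φ a.x8 * a.y1 * φ b.y1 + a.x2 * φ a.y1 * φ b.x8 * b.y1 +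
    φ a.x8 * φ a.y1 * a.y7 * b.y1 ^ 2 * φ b.y1 + φ a.x8 * φ a.y1 * b.x2 * b.y1 +
    φ a.x8 * a.y1 * a.y3 * b.x1 + φ a.x8 * a.y1 * a.y3 * b.y1 * φ b.y1 + φ a.x8 * a.y1 * b.x1 ^ 2 * b.x8 +
    φ a.x8 * a.y1 * φ a.y1 * a.y7 * b.y1 * φ b.y1 + φ a.x8 * a.y1 * φ a.y1 * b.y1 * b.y3 +
    φ a.x8 * a.y1 * φ a.y1 * b.y1 * φ b.y1 * b.y7 + φ a.x8 * a.y1 ^ 2 * a.y7 * φ b.y1 ^ 2 +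
    φ a.x8 * a.y1 ^ 2 * φ b.y1 * b.y3 + φ a.x8 * a.y1 ^ 2 * φ a.y1 * a.y7 * φ b.y1 +
    φ a.x8 * a.y1 ^ 2 * φ a.y1 * b.x1 * b.x8 + φ a.x8 * a.y1 ^ 2 * φ a.y1 * b.x8 * b.y1 * φ b.y1 +
    φ a.x8 * a.y1 ^ 3 * φ a.y1 * b.x8 * φ b.y1 + φ a.x8 * a.y3 * b.x1 * b.y1 +
    φ a.x8 * a.y7 * φ b.x1 * φ b.y1 + φ a.x8 * b.x1 * b.y1 * b.y3 + a.x8 * φ a.y1 * a.y5 * b.y1 ^ 2 +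
    a.x8 * φ a.y1 * φ a.y7 * b.y1 ^ 3 + a.x8 * φ a.y1 * φ b.x8 * b.y1 ^ 3 * φ b.y1 +
    a.x8 * φ a.y1 ^ 2 * φ b.x8 * b.y1 ^ 3 + a.x8 * a.y1 * a.y5 * b.x1 + a.x8 * a.y1 * φ a.y7 * φ b.x1 +
    a.x8 * a.y1 * φ a.y7 * b.y1 ^ 2 * φ b.y1 + a.x8 * a.y1 * b.x1 * b.y5 +
    a.x8 * a.y1 * φ a.y1 * φ a.y7 * b.y1 ^ 2 + a.x8 * a.y1 * φ a.y1 * b.y1 * b.y5 +
    a.x8 * a.y1 ^ 2 * b.x1 * φ b.y7 + a.x8 * a.y1 ^ 2 * φ a.y1 * φ a.y7 * b.y1 +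
    a.x8 * a.y1 ^ 2 * φ a.y1 * b.x1 * φ b.x8 + a.x8 * a.y1 ^ 2 * φ a.y1 * b.y1 * φ b.y7 +
    a.x8 * a.y5 * b.x1 * b.y1 + a.x8 * φ a.y7 * φ b.x1 * b.y1 + a.x8 * φ a.y7 * b.x1 * b.y1 ^ 2 +
    a.x8 * b.x1 * b.y1 * b.y5 + a.x8 * φ a.x8 * φ a.y1 * φ b.x1 * b.y1 +
    a.x8 * φ a.x8 * a.y1 * φ b.x1 * φ b.y1 + a.x8 * φ a.x8 * a.y1 * b.x1 * b.y1 * φ b.y1 +
    a.x8 * φ a.x8 * a.y1 * φ a.y1 * b.x1 * b.y1 + a.x8 * φ a.x8 * a.y1 ^ 2 * b.x1 * φ b.y1 +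
    φ a.y1 * φ a.y3 * b.x8 * b.y1 + φ a.y1 * a.y5 * b.y1 * b.y7 + φ a.y1 * φ a.y7 * b.y1 ^ 2 * b.y7 +
    φ a.y1 * a.y7 * φ b.x8 * b.y1 ^ 2 * φ b.y1 + φ a.y1 * a.y7 * b.y1 * b.y5 +
    φ a.y1 * φ b.x1 * φ b.x8 * b.y7 + φ a.y1 * b.x2 * φ b.x8 * b.y1 +
    φ a.y1 * φ b.x8 * b.y1 ^ 2 * φ b.y1 * b.y7 + φ a.y1 * b.y1 * b.y5 * b.y7 +
    φ a.y1 ^ 2 * φ b.x8 * b.y1 ^ 2 * b.y7 + a.y1 * a.y3 * φ a.y7 * b.y1 + a.y1 * a.y3 * b.x1 * φ b.x8 +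
    a.y1 * a.y5 * a.y7 * φ b.y1 + a.y1 * a.y5 * b.x1 * b.x8 + a.y1 * φ a.y7 * b.x1 * b.y7 +
    a.y1 * φ a.y7 * b.y1 * b.y3 + a.y1 * a.y7 * b.x1 * φ b.y7 + a.y1 * φ b.x1 * b.x8 * φ b.y7 +
    a.y1 * b.x1 * b.x8 * b.y5 + a.y1 * b.x8 * b.y1 ^ 2 * φ b.y1 * φ b.y7 + a.y1 * b.y1 * b.y3 * φ b.y7 +
    a.y1 * φ a.y1 * a.y3 * φ b.x8 * b.y1 + a.y1 * φ a.y1 * a.y5 * b.x8 * b.y1 +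
    a.y1 * φ a.y1 * φ a.y7 * b.x8 * b.y1 ^ 2 + a.y1 * φ a.y1 * φ a.y7 * b.y1 * b.y7 +
    a.y1 * φ a.y1 * a.y7 * b.y1 * φ b.y7 + a.y1 * φ a.y1 * b.x8 * b.y1 * b.y5 +
    a.y1 ^ 2 * a.y7 * φ b.y1 * φ b.y7 + a.y1 ^ 2 * b.x1 * b.x8 * φ b.y7 +
    a.y1 ^ 2 * φ a.y1 * φ a.y7 * b.x8 * b.y1 + a.y1 ^ 2 * φ a.y1 * a.y7 * φ b.x8 * φ b.y1 +
    a.y3 * b.x1 * φ b.x8 * b.y1 + a.y5 * b.x1 * b.x8 * b.y1 + φ a.y7 * b.x1 * b.y1 * b.y7 +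
    a.y7 * b.x1 * b.y1 * φ b.y7 + φ a.x1 * φ a.x8 * a.y1 * b.x8 * φ b.y1 +
    a.x1 * φ a.x8 * a.y1 * a.y7 * φ b.y1 + a.x1 * φ a.x8 * a.y1 * b.x1 * b.x8 +
    a.x1 * φ a.x8 * a.y1 * b.x8 * b.y1 * φ b.y1 + a.x1 * φ a.x8 * a.y1 * φ b.y1 * b.y7 +
    a.x1 * φ a.x8 * a.y1 ^ 2 * b.x8 * φ b.y1 + a.x1 * φ a.x8 * b.x1 * b.x8 * b.y1 +
    a.x1 * a.x8 * a.y1 * φ a.y7 * b.y1 + a.x1 * a.y1 * φ a.y7 * b.x8 * b.y1 +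
    φ a.x8 * φ a.y1 * a.y7 * b.x1 * b.y1 + φ a.x8 * φ a.y1 * b.x1 * b.y1 * b.y7 +
    φ a.x8 * a.y1 * a.y7 * b.x1 * φ b.y1 + φ a.x8 * a.y1 * φ a.y1 * b.x1 * b.x8 * b.y1 +
    φ a.x8 * a.y1 ^ 2 * b.x1 * b.x8 * φ b.y1 + a.x8 * φ a.y1 * φ b.x1 * φ b.x8 * b.y1 +
    a.x8 * φ a.y1 * b.x1 * φ b.x8 * b.y1 ^ 2 + a.x8 * a.y1 * φ a.y7 * b.x1 * b.y1 +
    φ a.y1 * b.x1 * φ b.x8 * b.y1 * b.y7 + a.y1 * φ a.y7 * b.x1 * b.x8 * b.y1 +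
    a.y1 * b.x1 * b.x8 * b.y1 * φ b.y7
/-- a coordinate of the commutator -/
def cx4 (a b : U K) : K := a.x1 * b.x7 + a.x1 * b.y7 * φ b.y7 + a.x1 ^ 2 * b.x8 * φ b.x8 + φ a.x2 * b.x8 + a.x2 * φ b.y7 +
    a.x6 * φ b.y1 + a.x7 * b.x1 + a.x7 * b.y1 * φ b.y1 + a.x8 * φ b.x2 + φ a.y1 * b.x6 +
    a.y1 * φ a.y1 * b.x7 + a.y1 * φ a.y1 * b.y7 * φ b.y7 + a.y1 ^ 2 * φ a.y1 ^ 2 * b.x8 * φ b.x8 +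
    a.y3 * b.y5 + a.y5 * b.y3 + φ a.y7 * b.x2 + a.y7 * φ a.y7 * b.x1 + φ a.x1 * φ a.y1 * b.x8 * φ b.x8 +
    φ a.x1 * b.x8 * φ b.y7 + φ a.x1 * b.x8 * φ b.x8 * φ b.y1 + a.x1 * φ a.x8 * b.y3 + a.x1 * a.x8 * b.y5 +
    a.x1 * a.x8 * φ a.x8 * b.x1 + a.x1 * a.x8 * φ a.x8 * b.y1 * φ b.y1 + a.x1 * a.y3 * φ b.x8 +
    a.x1 * a.y5 * b.x8 + a.x1 * φ a.y7 * b.y7 + a.x1 * a.y7 * φ b.y7 + a.x1 * b.x1 * b.x8 * φ b.x8 +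
    a.x1 * φ b.x8 * b.y3 + a.x1 * b.x8 * b.y5 + a.x1 * b.x8 * φ b.x8 * b.y1 * φ b.y1 +
    a.x2 * φ a.x8 * φ b.y1 + a.x2 * φ a.y1 * φ b.x8 + a.x2 * φ b.x8 * φ b.y1 + a.x7 * φ a.y1 * b.y1 +
    φ a.x8 * φ a.y1 * b.x2 + φ a.x8 * a.y1 * φ a.y1 * b.y3 + φ a.x8 * a.y3 * b.x1 +
    φ a.x8 * a.y3 * b.y1 * φ b.y1 + φ a.x8 * b.x1 * b.y3 + φ a.x8 * b.x2 * φ b.y1 +
    φ a.x8 * b.y1 * φ b.y1 * b.y3 + a.x8 * φ a.y1 * φ b.y3 + a.x8 * a.y1 * φ a.y1 * b.y5 +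
    a.x8 * a.y5 * b.x1 + a.x8 * a.y5 * b.y1 * φ b.y1 + a.x8 * φ a.y7 * φ b.x1 +
    a.x8 * φ a.y7 * b.y1 ^ 2 * φ b.y1 + a.x8 * b.x1 * b.y5 + a.x8 * φ b.y1 * φ b.y3 +
    a.x8 * b.y1 * φ b.y1 * b.y5 + a.x8 * φ a.x8 * φ a.y1 * φ b.x1 +
    a.x8 * φ a.x8 * a.y1 * b.y1 * φ b.y1 ^ 2 + a.x8 * φ a.x8 * a.y1 * φ a.y1 * b.x1 +
    a.x8 * φ a.x8 * a.y1 * φ a.y1 * b.y1 * φ b.y1 + φ a.y1 * φ a.y3 * b.x8 + φ a.y1 * a.y5 * b.y7 +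
    φ a.y1 * a.y7 * b.y5 + φ a.y1 * b.x2 * φ b.x8 + φ a.y1 * b.y5 * b.y7 + a.y1 * b.x7 * φ b.y1 +
    a.y1 * b.y3 * φ b.y7 + a.y1 * φ a.y1 * a.y3 * φ b.x8 + a.y1 * φ a.y1 * a.y5 * b.x8 +
    a.y1 * φ a.y1 * φ a.y7 * b.y7 + a.y1 * φ a.y1 * a.y7 * φ b.y7 + a.y1 * φ a.y1 * b.x8 * b.y5 +
    a.y1 ^ 2 * φ a.y1 * b.x8 * φ b.x8 * φ b.y1 + φ a.y3 * b.x8 * φ b.y1 + a.y3 * φ a.y7 * b.y1 +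
    a.y3 * b.x1 * φ b.x8 + a.y3 * φ b.x8 * b.y1 * φ b.y1 + a.y5 * a.y7 * φ b.y1 + a.y5 * b.x1 * b.x8 +
    a.y5 * b.x8 * b.y1 * φ b.y1 + a.y5 * φ b.y1 * b.y7 + φ a.y7 * b.x1 * b.y7 +
    φ a.y7 * b.y1 * φ b.y1 * b.y7 + a.y7 * b.x1 * φ b.y7 + a.y7 * φ b.y1 * b.y5 +
    a.y7 * b.y1 * φ b.y1 * φ b.y7 + φ a.x1 * φ a.x8 * b.x8 * φ b.y1 + a.x1 * φ a.x8 * a.y7 * φ b.y1 +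
    a.x1 * φ a.x8 * b.x1 * b.x8 + a.x1 * φ a.x8 * b.x8 * b.y1 * φ b.y1 + a.x1 * φ a.x8 * φ b.y1 * b.y7 +
    a.x1 * a.x8 * φ a.y7 * b.y1 + a.x1 * φ a.y7 * b.x8 * b.y1 + a.x1 * φ b.x8 * φ b.y1 * b.y7 +
    φ a.x8 * φ a.y1 * a.y7 * b.x1 + φ a.x8 * φ a.y1 * a.y7 * b.y1 * φ b.y1 + φ a.x8 * φ a.y1 * b.x1 * b.y7 +
    φ a.x8 * φ a.y1 * b.y1 * φ b.y1 * b.y7 + φ a.x8 * a.y1 * a.y7 * φ b.y1 ^ 2 +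
    φ a.x8 * a.y1 * φ a.y1 * a.y7 * φ b.y1 + φ a.x8 * a.y1 * φ a.y1 * b.x1 * b.x8 +
    φ a.x8 * a.y1 * φ a.y1 * b.x8 * b.y1 * φ b.y1 + φ a.x8 * a.y1 * φ a.y1 * φ b.y1 * b.y7 +
    φ a.x8 * a.y1 ^ 2 * b.x8 * φ b.y1 ^ 2 + a.x8 * φ a.y1 * a.y5 * b.y1 + a.x8 * φ a.y1 * φ a.y7 * b.y1 ^ 2 +
    a.x8 * a.y1 * φ a.y7 * b.y1 * φ b.y1 + a.x8 * a.y1 * φ b.y1 * b.y5 +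
    a.x8 * a.y1 * φ a.y1 * φ a.y7 * b.y1 + a.x8 * φ a.y7 * b.x1 * b.y1 +
    a.x8 * φ a.x8 * a.y1 * b.x1 * φ b.y1 + φ a.y1 * φ a.y7 * b.y1 * b.y7 + φ a.y1 * b.x1 * φ b.x8 * b.y7 +
    φ a.y1 * φ b.x8 * b.y1 * φ b.y1 * b.y7 + a.y1 * a.y3 * φ b.x8 * φ b.y1 + a.y1 * a.y5 * b.x8 * φ b.y1 +
    a.y1 * φ a.y7 * b.x8 * b.y1 * φ b.y1 + a.y1 * φ a.y7 * φ b.y1 * b.y7 + a.y1 * a.y7 * φ b.y1 * φ b.y7 +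
    a.y1 * b.x1 * b.x8 * φ b.y7 + a.y1 * b.x8 * φ b.y1 * b.y5 + a.y1 * b.x8 * b.y1 * φ b.y1 * φ b.y7 +
    a.y1 * φ a.y1 * φ a.y7 * b.x8 * b.y1 + a.y1 ^ 2 * b.x8 * φ b.y1 * φ b.y7
/-- a coordinate of the commutator -/
def cy5 (a b : U K) : K := a.x1 * φ b.x8 + φ a.x8 * b.x1 + a.y1 * φ b.y7 + φ a.y7 * b.y1 + φ a.x8 * a.y1 * φ b.y1 +
    φ a.y1 * φ b.x8 * b.y1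
/-- a coordinate of the commutator -/
def cx5 (a b : U K) : K := a.x1 * φ b.x7 + a.x1 * b.y7 ^ 2 * φ b.y7 + a.x2 * b.x7 + a.x3 * b.x8 + a.x4 * b.y7 + φ a.x6 * b.y1 +
    a.x6 * b.y3 + φ a.x7 * b.x1 + a.x7 * b.x2 + a.x8 * b.x3 + a.x8 ^ 2 * φ a.x8 * b.x1 * φ b.x1 +
    a.x8 ^ 2 * φ a.x8 * b.y1 ^ 3 * φ b.y1 ^ 2 + a.y1 * φ b.x6 + a.y1 * φ a.y1 * b.y7 ^ 2 * φ b.y7 +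
    a.y1 ^ 3 * φ a.y1 ^ 2 * b.x8 ^ 2 * φ b.x8 + a.y3 * b.x6 + φ a.y5 * b.y5 + a.y5 * φ b.y5 + a.y7 * b.x4 +
    a.y7 ^ 2 * φ a.y7 * b.x1 + φ a.x1 * a.y1 * φ a.y1 * b.x8 ^ 2 * φ b.x8 + φ a.x1 * a.y3 * b.x8 * φ b.x8 +
    φ a.x1 * a.y5 * b.x8 ^ 2 + φ a.x1 * b.x1 * b.x8 ^ 2 * φ b.x8 + φ a.x1 * b.x7 * b.x8 +
    φ a.x1 * b.x8 * φ b.x8 * b.y3 + φ a.x1 * b.x8 ^ 2 * b.y5 + a.x1 * a.x2 * b.x8 * φ b.x8 +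
    a.x1 * φ a.x8 * φ b.y5 + a.x1 * a.x8 ^ 2 * φ b.y3 + a.x1 * a.x8 ^ 2 * φ a.x8 * φ b.x1 +
    a.x1 * a.x8 ^ 2 * φ a.x8 * b.y1 ^ 2 * φ b.y1 + a.x1 * φ a.y5 * φ b.x8 + a.x1 * a.y7 * b.y7 * φ b.y7 +
    a.x1 * a.y7 ^ 2 * φ b.y7 + a.x1 * b.x2 * b.x8 * φ b.x8 + a.x1 * b.x6 * b.x8 + a.x1 * b.x7 * b.y7 +
    a.x1 * φ b.x8 * φ b.y5 + a.x1 ^ 2 * a.y1 * b.x8 ^ 2 * φ b.x8 + a.x1 ^ 2 * b.x8 * φ b.x8 * b.y7 +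
    a.x1 ^ 2 * b.x8 ^ 2 * φ b.x8 * b.y1 + φ a.x2 * a.y1 * b.x8 ^ 2 + φ a.x2 * b.x8 * b.y7 +
    φ a.x2 * b.x8 ^ 2 * b.y1 + a.x2 * φ a.x8 * b.y3 + a.x2 * a.x8 * b.y5 + a.x2 * a.x8 * φ a.x8 * b.x1 +
    a.x2 * a.y1 * φ a.y1 * b.x8 * φ b.x8 + a.x2 * a.y3 * φ b.x8 + a.x2 * a.y5 * b.x8 + a.x2 * φ a.y7 * b.y7 +
    a.x2 * a.y7 * φ b.y7 + a.x2 * φ b.x8 * b.y3 + a.x4 * a.x8 * b.y1 + a.x6 * a.x8 * b.x1 +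
    a.x6 * a.y7 * φ b.y1 + φ a.x7 * a.y1 * φ b.y1 + a.x7 * a.x8 * φ b.x1 + a.x7 * a.y3 * b.y1 +
    a.x7 * a.y7 * b.x1 + φ a.x8 * a.y3 * b.x2 + φ a.x8 * φ a.y5 * b.x1 + φ a.x8 * b.x1 * φ b.y5 +
    φ a.x8 * b.x2 * b.y3 + φ a.x8 * b.y1 * b.y3 ^ 2 + a.x8 * a.y3 * φ b.y3 + a.x8 * a.y7 * φ b.x2 +
    a.x8 * b.x2 * b.y5 + a.x8 * φ a.x8 * a.y3 * φ b.x1 + a.x8 * φ a.x8 * a.y3 * b.y1 ^ 2 * φ b.y1 +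
    a.x8 * φ a.x8 * a.y7 * b.x1 ^ 2 + a.x8 * φ a.x8 * a.y7 * b.y1 ^ 2 * φ b.y1 ^ 2 +
    a.x8 * φ a.x8 * b.x2 * b.y1 * φ b.y1 + a.x8 * φ a.x8 * b.y1 ^ 2 * φ b.y1 * b.y3 +
    a.x8 ^ 2 * a.y1 * φ b.x2 + a.x8 ^ 2 * a.y5 * φ b.x1 + a.x8 ^ 2 * b.x1 * φ b.y3 +
    a.x8 ^ 2 * b.y1 * φ b.y1 * φ b.y3 + a.x8 ^ 2 * b.y1 ^ 2 * φ b.y1 * b.y5 +
    a.x8 ^ 2 * φ a.x8 * a.y1 * b.x1 ^ 2 + a.x8 ^ 2 * φ a.x8 * a.y1 * φ a.y1 * b.y1 ^ 2 * φ b.y1 +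
    a.x8 ^ 2 * φ a.x8 * φ b.x1 * b.y1 * φ b.y1 + a.x8 ^ 2 * φ a.x8 * b.x1 ^ 2 * b.y1 +
    φ a.y1 * a.y5 * b.y7 ^ 2 + φ a.y1 * b.x6 * b.y7 + φ a.y1 * φ b.x7 * b.y1 + φ a.y1 * b.y5 * b.y7 ^ 2 +
    a.y1 * a.y3 ^ 2 * φ b.x8 + a.y1 * φ a.y5 * φ b.y7 + a.y1 * φ a.y7 * φ b.y5 + a.y1 * b.x4 * b.x8 +
    a.y1 * b.x7 * b.y3 + a.y1 * φ b.y5 * φ b.y7 + a.y1 * φ a.y1 * φ a.y3 * b.x8 ^ 2 +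
    a.y1 * φ a.y1 * φ a.y7 * b.y7 ^ 2 + a.y1 * φ a.y1 * a.y7 * b.y7 * φ b.y7 +
    a.y1 * φ a.y1 * b.x2 * b.x8 * φ b.x8 + a.y1 * φ a.y1 * b.x6 * b.x8 + a.y1 * φ a.y1 * b.x7 * b.y7 +
    a.y1 ^ 2 * φ a.y1 * b.x1 * b.x8 ^ 2 * φ b.x8 + a.y1 ^ 2 * φ a.y1 * b.x8 * φ b.x8 * b.y3 +
    a.y1 ^ 2 * φ a.y1 ^ 2 * b.x8 * φ b.x8 * b.y7 + a.y1 ^ 2 * φ a.y1 ^ 2 * b.x8 ^ 2 * φ b.x8 * b.y1 +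
    a.y1 ^ 3 * φ a.y1 * b.x8 ^ 2 * φ b.x8 * φ b.y1 + φ a.y3 * b.x1 * b.x8 ^ 2 + φ a.y3 * b.x8 * b.y3 +
    a.y3 * a.y5 * b.y7 + a.y3 * a.y7 * b.y5 + a.y3 * b.x2 * φ b.x8 + a.y3 ^ 2 * φ b.x8 * b.y1 +
    φ a.y5 * φ a.y7 * b.y1 + φ a.y5 * b.x1 * φ b.x8 + φ a.y5 * b.y1 * φ b.y7 + a.y5 * a.y7 ^ 2 * φ b.y1 +
    a.y5 * b.x2 * b.x8 + a.y5 * b.y3 * b.y7 + φ a.y7 * b.x1 * b.y7 ^ 2 + φ a.y7 * b.x2 * b.y7 +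
    φ a.y7 * b.y1 * φ b.y5 + a.y7 * b.x2 * φ b.y7 + a.y7 * b.y3 * b.y5 + a.y7 ^ 2 * b.x1 * φ b.y7 +
    φ a.x1 * φ a.x8 * b.x1 * b.x8 ^ 2 + φ a.x1 * φ a.x8 * b.x8 * b.y3 + φ a.x1 * a.x8 * b.x8 * b.y5 +
    φ a.x1 * a.x8 * b.x8 * φ b.x8 * b.y1 * φ b.y1 + φ a.x1 * a.x8 * φ a.x8 * b.x1 * b.x8 +
    φ a.x1 * φ a.y1 * b.x8 * φ b.x8 * b.y7 + φ a.x1 * φ a.y1 * b.x8 ^ 2 * φ b.x8 * b.y1 +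
    φ a.x1 * a.y1 * b.x8 ^ 2 * φ b.y7 + φ a.x1 * a.y1 * b.x8 ^ 2 * φ b.x8 * φ b.y1 +
    φ a.x1 * φ a.y7 * b.x8 * b.y7 + φ a.x1 * φ a.y7 * b.x8 ^ 2 * b.y1 + φ a.x1 * a.y7 * b.x8 * φ b.y7 +
    φ a.x1 * b.x8 ^ 2 * b.y1 * φ b.y7 + a.x1 * a.x7 * b.x8 * b.y1 + a.x1 * φ a.x8 * a.y7 ^ 2 * φ b.y1 +
    a.x1 * φ a.x8 * b.x2 * b.x8 + a.x1 * φ a.x8 * b.y3 * b.y7 + a.x1 * a.x8 * b.x7 * b.y1 +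
    a.x1 * a.x8 * b.x8 * φ b.y3 + a.x1 * a.x8 * b.x8 * φ b.x8 * b.y1 ^ 2 * φ b.y1 +
    a.x1 * a.x8 * b.y1 * b.y7 * φ b.y7 + a.x1 * a.x8 * b.y5 * b.y7 +
    a.x1 * a.x8 * φ a.x8 * a.y7 * b.y1 * φ b.y1 + a.x1 * a.x8 * φ a.x8 * φ b.x1 * b.x8 +
    a.x1 * a.x8 * φ a.x8 * b.x1 * b.y7 + a.x1 * a.x8 * φ a.x8 * b.x8 * b.y1 ^ 2 * φ b.y1 +
    a.x1 * a.x8 * φ a.x8 * b.y1 * b.y3 + a.x1 * a.x8 ^ 2 * b.y1 * b.y5 +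
    a.x1 * a.x8 ^ 2 * φ a.x8 * b.x1 * b.y1 + a.x1 * a.y1 * b.x1 * b.x8 ^ 2 * φ b.x8 +
    a.x1 * a.y1 * b.x8 * φ b.x8 * b.y3 + a.x1 * a.y1 * b.x8 ^ 2 * φ b.x8 * b.y1 * φ b.y1 +
    a.x1 * a.y3 * φ b.x8 * b.y7 + a.x1 * a.y7 * b.x8 * b.y5 + a.x1 * φ b.x8 * b.y3 * b.y7 +
    a.x1 ^ 2 * a.x8 * b.x8 * φ b.x8 * b.y1 + φ a.x2 * a.x8 * b.x8 * b.y1 + a.x2 * φ a.x8 * a.y7 * φ b.y1 +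
    a.x2 * a.x8 * φ a.y7 * b.y1 + a.x2 * a.x8 * φ b.x8 * b.y1 * φ b.y1 + a.x2 * a.x8 * b.y1 * φ b.y7 +
    a.x2 * φ a.y1 * φ b.x8 * b.y7 + a.x2 * a.y1 * b.x8 * φ b.x8 * φ b.y1 + a.x7 * a.x8 * φ a.y1 * b.y1 ^ 2 +
    a.x7 * φ a.y1 * b.y1 * b.y7 + a.x7 * a.y1 * b.x8 * b.y1 * φ b.y1 + a.x7 * a.y1 * φ a.y1 * b.x8 * b.y1 +
    φ a.x8 * φ a.y1 * a.y7 ^ 2 * b.y1 * φ b.y1 + φ a.x8 * φ a.y1 * b.x1 * b.y7 ^ 2 +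
    φ a.x8 * φ a.y1 * b.x2 * b.y7 + φ a.x8 * φ a.y1 * b.y1 * φ b.y5 + φ a.x8 * a.y1 * φ a.y5 * φ b.y1 +
    φ a.x8 * a.y1 * φ a.y1 * b.x2 * b.x8 + φ a.x8 * a.y1 * φ a.y1 * φ b.y1 * b.y7 ^ 2 +
    φ a.x8 * a.y1 * φ a.y1 * b.y3 * b.y7 + φ a.x8 * a.y1 ^ 3 * b.x8 ^ 2 * φ b.y1 ^ 2 +
    φ a.x8 * a.y3 * a.y7 * b.x1 + φ a.x8 * a.y3 * a.y7 * b.y1 * φ b.y1 + φ a.x8 * a.y7 ^ 2 * b.x1 * φ b.y1 +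
    a.x8 * φ a.y1 * b.x6 * b.y1 + a.x8 * φ a.y1 * φ b.y3 * b.y7 + a.x8 * a.y1 * b.x7 * b.y1 * φ b.y1 +
    a.x8 * a.y1 * b.y3 * b.y5 + a.x8 * a.y1 * φ a.y1 * b.x7 * b.y1 + a.x8 * a.y1 * φ a.y1 * b.x8 * φ b.y3 +
    a.x8 * a.y1 * φ a.y1 * b.y1 * b.y7 * φ b.y7 + a.x8 * a.y1 * φ a.y1 * b.y5 * b.y7 +
    a.x8 * a.y1 ^ 2 * φ a.y1 * b.x8 * φ b.x8 * b.y1 * φ b.y1 +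
    a.x8 * a.y1 ^ 2 * φ a.y1 ^ 2 * b.x8 * φ b.x8 * b.y1 + a.x8 * φ a.y3 * b.x8 * b.y1 * φ b.y1 +
    a.x8 * a.y3 * a.y5 * b.y1 + a.x8 * a.y3 * φ b.x8 * b.y1 ^ 2 * φ b.y1 + a.x8 * a.y3 * b.y1 * b.y5 +
    a.x8 * a.y5 * b.x8 * b.y1 ^ 2 * φ b.y1 + a.x8 * a.y5 * b.y1 * b.y3 + a.x8 * a.y5 * b.y1 * φ b.y1 * b.y7 +
    a.x8 * φ a.y7 * b.x2 * b.y1 + a.x8 * φ a.y7 * b.y1 ^ 2 * φ b.y1 * b.y7 +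
    a.x8 * a.y7 * b.y1 * φ b.y1 * b.y5 + a.x8 * a.y7 * b.y1 ^ 2 * φ b.y1 * φ b.y7 +
    a.x8 * φ a.x8 * φ a.y1 * a.y7 * b.y1 ^ 2 * φ b.y1 + a.x8 * φ a.x8 * φ a.y1 * φ b.x1 * b.y7 +
    a.x8 * φ a.x8 * φ a.y1 * b.x2 * b.y1 + a.x8 * φ a.x8 * φ a.y1 * b.y1 ^ 2 * φ b.y1 * b.y7 +
    a.x8 * φ a.x8 * a.y1 * a.y7 * b.y1 * φ b.y1 ^ 2 + a.x8 * φ a.x8 * a.y1 * b.x1 * b.y3 +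
    a.x8 * φ a.x8 * a.y1 * b.x1 ^ 2 * b.x8 + a.x8 * φ a.x8 * a.y1 * b.x8 * b.y1 ^ 2 * φ b.y1 ^ 2 +
    a.x8 * φ a.x8 * a.y1 * b.y1 * φ b.y1 * b.y3 + a.x8 * φ a.x8 * a.y1 * φ a.y1 * a.y7 * b.y1 * φ b.y1 +
    a.x8 * φ a.x8 * a.y1 * φ a.y1 * φ b.x1 * b.x8 + a.x8 * φ a.x8 * a.y1 * φ a.y1 * b.x1 * b.y7 +
    a.x8 * φ a.x8 * a.y1 * φ a.y1 * b.x8 * b.y1 ^ 2 * φ b.y1 + a.x8 * φ a.x8 * a.y1 * φ a.y1 * b.y1 * b.y3 +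
    a.x8 * φ a.x8 * a.y3 * b.x1 * b.y1 + a.x8 * φ a.x8 * a.y7 * φ b.x1 * φ b.y1 +
    a.x8 * φ a.x8 * b.x1 * b.y1 * b.y3 + a.x8 ^ 2 * φ a.y1 * a.y5 * b.y1 ^ 2 +
    a.x8 ^ 2 * a.y1 * φ a.y7 * φ b.x1 + a.x8 ^ 2 * a.y1 * b.y1 * φ b.y1 * b.y5 +
    a.x8 ^ 2 * a.y1 * φ a.y1 * φ a.y7 * b.y1 ^ 2 + a.x8 ^ 2 * a.y1 * φ a.y1 * b.y1 * b.y5 +
    a.x8 ^ 2 * b.x1 * b.y1 * b.y5 + a.x8 ^ 2 * φ a.x8 * a.y1 * φ b.x1 * φ b.y1 +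
    a.x8 ^ 2 * φ a.x8 * a.y1 * b.x1 * b.y1 * φ b.y1 + a.x8 ^ 2 * φ a.x8 * a.y1 * φ a.y1 * b.x1 * b.y1 +
    φ a.y1 * φ a.y3 * b.x8 * b.y7 + φ a.y1 * φ a.y3 * b.x8 ^ 2 * b.y1 + φ a.y1 * φ a.y5 * φ b.x8 * b.y1 +
    φ a.y1 * a.y7 * b.y5 * b.y7 + φ a.y1 * a.y7 ^ 2 * b.y1 * φ b.y7 + φ a.y1 * b.x1 * φ b.x8 * b.y7 ^ 2 +
    φ a.y1 * b.x2 * φ b.x8 * b.y7 + φ a.y1 * φ b.x8 * b.y1 * φ b.y5 + a.y1 * φ a.y3 * b.x8 ^ 2 * φ b.y1 +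
    a.y1 * a.y3 * b.x1 * b.x8 * φ b.x8 + a.y1 * a.y3 * φ b.x8 * b.y3 +
    a.y1 * a.y3 * b.x8 * φ b.x8 * b.y1 * φ b.y1 + a.y1 * a.y5 * b.x1 * b.x8 ^ 2 + a.y1 * a.y5 * b.x8 * b.y3 +
    a.y1 * a.y5 * b.x8 ^ 2 * b.y1 * φ b.y1 + a.y1 * φ a.y7 * b.y3 * b.y7 + a.y1 * a.y7 * b.y3 * φ b.y7 +
    a.y1 * b.x2 * b.x8 * φ b.y7 + a.y1 * b.x8 * b.y3 * b.y5 + a.y1 * φ a.y1 * a.y3 * φ b.x8 * b.y7 +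
    a.y1 * φ a.y1 * a.y7 * b.x8 * b.y5 + a.y1 * φ a.y1 * b.x1 * b.x8 * φ b.x8 * b.y7 +
    a.y1 * φ a.y1 * b.x8 * φ b.x8 * b.y1 * φ b.y1 * b.y7 + a.y1 ^ 2 * a.y3 * b.x8 * φ b.x8 * φ b.y1 +
    a.y1 ^ 2 * a.y5 * b.x8 ^ 2 * φ b.y1 + a.y1 ^ 2 * φ a.y7 * b.x8 ^ 2 * b.y1 * φ b.y1 +
    a.y1 ^ 2 * b.x7 * b.x8 * φ b.y1 + a.y1 ^ 2 * b.x8 ^ 2 * φ b.y1 * b.y5 +
    a.y1 ^ 2 * b.x8 ^ 2 * b.y1 * φ b.y1 * φ b.y7 + a.y1 ^ 3 * b.x8 ^ 2 * φ b.y1 * φ b.y7 +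
    φ a.x1 * φ a.x8 * a.y1 * b.x8 ^ 2 * φ b.y1 + φ a.x1 * φ a.x8 * a.y7 * b.x8 * φ b.y1 +
    φ a.x1 * a.x8 * φ a.y1 * b.x8 * φ b.x8 * b.y1 + φ a.x1 * a.x8 * φ a.y7 * b.x8 * b.y1 +
    φ a.x1 * a.x8 * b.x8 * b.y1 * φ b.y7 + a.x1 * φ a.x8 * a.y7 * b.x1 * b.x8 +
    a.x1 * φ a.x8 * a.y7 * b.x8 * b.y1 * φ b.y1 + a.x1 * φ a.x8 * a.y7 * φ b.y1 * b.y7 +
    a.x1 * a.x8 * a.y3 * φ b.x8 * b.y1 + a.x1 * a.x8 * a.y7 * b.y1 * φ b.y7 +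
    a.x1 * a.x8 * b.x1 * b.x8 * φ b.x8 * b.y1 + a.x1 * a.x8 * φ b.x8 * b.y1 * b.y3 +
    a.x1 * a.x8 * φ b.x8 * b.y1 * φ b.y1 * b.y7 + a.x1 * a.x8 * b.x8 * b.y1 * b.y5 +
    a.x1 * a.x8 * φ a.x8 * b.x1 * b.x8 * b.y1 + a.x1 * a.y1 * b.x8 * φ b.x8 * φ b.y1 * b.y7 +
    a.x2 * a.x8 * φ a.y1 * φ b.x8 * b.y1 + φ a.x8 * φ a.y1 * a.y7 * b.x1 * b.y7 +
    φ a.x8 * φ a.y1 * a.y7 * b.y1 * φ b.y1 * b.y7 + φ a.x8 * a.y1 * a.y7 * φ b.y1 * b.y3 +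
    φ a.x8 * a.y1 * b.x1 * b.x8 * b.y3 + φ a.x8 * a.y1 * b.x2 * b.x8 * φ b.y1 +
    φ a.x8 * a.y1 * b.x8 * b.y1 * φ b.y1 * b.y3 + φ a.x8 * a.y1 * φ a.y1 * a.y7 * b.x1 * b.x8 +
    φ a.x8 * a.y1 * φ a.y1 * a.y7 * b.x8 * b.y1 * φ b.y1 + φ a.x8 * a.y1 * φ a.y1 * a.y7 * φ b.y1 * b.y7 +
    φ a.x8 * a.y1 ^ 2 * a.y7 * b.x8 * φ b.y1 ^ 2 + φ a.x8 * a.y1 ^ 2 * b.x1 * b.x8 ^ 2 * φ b.y1 +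
    φ a.x8 * a.y1 ^ 2 * b.x8 * φ b.y1 * b.y3 + a.x8 * φ a.y1 * φ a.y3 * b.x8 * b.y1 +
    a.x8 * φ a.y1 * a.y7 * b.y1 * b.y5 + a.x8 * φ a.y1 * b.x2 * φ b.x8 * b.y1 +
    a.x8 * φ a.y1 * φ b.x8 * b.y1 ^ 2 * φ b.y1 * b.y7 + a.x8 * φ a.y1 * b.y1 * b.y5 * b.y7 +
    a.x8 * a.y1 * a.y3 * φ b.x8 * b.y1 * φ b.y1 + a.x8 * a.y1 * φ a.y7 * b.x8 * b.y1 ^ 2 * φ b.y1 +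
    a.x8 * a.y1 * φ a.y7 * b.y1 * b.y3 + a.x8 * a.y1 * φ a.y7 * b.y1 * φ b.y1 * b.y7 +
    a.x8 * a.y1 * a.y7 * b.y1 * φ b.y1 * φ b.y7 + a.x8 * a.y1 * b.x1 * b.x8 * b.y5 +
    a.x8 * a.y1 * b.x8 * φ b.y1 * φ b.y3 + a.x8 * a.y1 * b.x8 * b.y1 ^ 2 * φ b.y1 * φ b.y7 +
    a.x8 * a.y1 * b.y1 * b.y3 * φ b.y7 + a.x8 * a.y1 * φ a.y1 * a.y3 * φ b.x8 * b.y1 +
    a.x8 * a.y1 * φ a.y1 * a.y7 * b.y1 * φ b.y7 + a.x8 * a.y1 * φ a.y1 * b.x8 * b.y1 * b.y5 +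
    a.x8 * a.y1 ^ 2 * φ a.y7 * b.x8 * b.y1 * φ b.y1 + a.x8 * a.y1 ^ 2 * b.x8 * φ b.y1 * b.y5 +
    a.x8 * a.y1 ^ 2 * b.x8 * b.y1 * φ b.y1 * φ b.y7 + a.x8 * a.y3 * b.x1 * φ b.x8 * b.y1 +
    a.x8 * a.y5 * b.x1 * b.x8 * b.y1 + a.x8 * φ a.y7 * b.x1 * b.y1 * b.y7 +
    a.x8 * a.y7 * b.x1 * b.y1 * φ b.y7 + a.x8 * φ a.x8 * φ a.y1 * a.y7 * b.x1 * b.y1 +
    a.x8 * φ a.x8 * φ a.y1 * b.x1 * b.y1 * b.y7 + a.x8 * φ a.x8 * a.y1 * φ b.x1 * b.x8 * φ b.y1 +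
    a.x8 * φ a.x8 * a.y1 * φ a.y1 * b.x1 * b.x8 * b.y1 + a.x8 * φ a.x8 * a.y1 ^ 2 * b.x1 * b.x8 * φ b.y1 +
    a.y1 * a.y5 * b.x8 * φ b.y1 * b.y7 + a.y1 * φ a.y7 * b.x1 * b.x8 * b.y7 +
    a.y1 * φ a.y7 * b.x8 * b.y1 * φ b.y1 * b.y7 + a.y1 * a.y7 * b.x1 * b.x8 * φ b.y7 +
    a.y1 * a.y7 * b.x8 * φ b.y1 * b.y5 + a.y1 * a.y7 * b.x8 * b.y1 * φ b.y1 * φ b.y7 +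
    a.y1 ^ 2 * φ a.y7 * b.x8 * φ b.y1 * b.y7 + a.y1 ^ 2 * a.y7 * b.x8 * φ b.y1 * φ b.y7 +
    a.x8 * φ a.y1 * b.x1 * φ b.x8 * b.y1 * b.y7 + a.x8 * a.y1 * φ a.y7 * b.x1 * b.x8 * b.y1 +
    a.x8 * a.y1 * b.x1 * b.x8 * b.y1 * φ b.y7
/-- a coordinate of the commutator -/
def cx6 (a b : U K) : K := φ a.x1 * b.x8 * φ b.x8 + a.x2 * φ b.x8 + a.x7 * b.y1 + φ a.x8 * b.x2 + a.x8 * φ b.y3 +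
    a.x8 * φ a.x8 * φ b.x1 + a.x8 * φ a.x8 * b.y1 ^ 2 * φ b.y1 + a.y1 * b.x7 +
    a.y1 ^ 2 * φ a.y1 * b.x8 * φ b.x8 + φ a.y3 * b.x8 + a.y5 * b.y7 + a.y7 * b.y5 +
    a.x1 * a.y1 * b.x8 * φ b.x8 + a.x1 * φ b.x8 * b.y7 + a.x1 * b.x8 * φ b.x8 * b.y1 + φ a.x8 * a.y1 * b.y3 +
    φ a.x8 * a.y7 * b.x1 + φ a.x8 * b.y1 * b.y3 + a.x8 * a.y1 * b.y5 + a.x8 * a.y5 * b.y1 +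
    a.x8 * φ a.y7 * b.y1 ^ 2 + a.x8 * b.y1 * b.y5 + a.x8 * φ a.x8 * a.y1 * b.x1 + a.y1 * a.y3 * φ b.x8 +
    a.y1 * a.y5 * b.x8 + a.y1 * φ a.y7 * b.y7 + a.y1 * a.y7 * φ b.y7 + a.y1 * b.x8 * b.y5 +
    a.y1 * φ a.y1 * b.x8 * φ b.x8 * b.y1 + a.y3 * φ b.x8 * b.y1 + a.y5 * b.x8 * b.y1 + φ a.y7 * b.y1 * b.y7 +
    a.y7 * b.y1 * φ b.y7 + a.x1 * a.x8 * φ b.x8 * b.y1 + φ a.x8 * a.y1 * a.y7 * φ b.y1 +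
    a.x8 * φ a.y1 * φ b.x8 * b.y1 ^ 2 + a.x8 * a.y1 * φ a.y7 * b.y1 + a.x8 * a.y1 * b.y1 * φ b.y7 +
    φ a.y1 * φ b.x8 * b.y1 * b.y7 + a.y1 * b.x8 * b.y1 * φ b.y7
/-- a coordinate of the commutator -/
def cy7 (a b : U K) : K := a.x8 * b.y1 + a.y1 * b.x8
/-- a coordinate of the commutator -/
def cx7 (a b : U K) : K := a.x1 * b.x8 * φ b.x8 + φ a.x8 * b.y3 + a.x8 * b.y5 + a.x8 * φ a.x8 * b.x1 +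
    a.y1 * φ a.y1 * b.x8 * φ b.x8 + a.y3 * φ b.x8 + a.y5 * b.x8 + φ a.y7 * b.y7 + a.y7 * φ b.y7 +
    φ a.x8 * a.y7 * φ b.y1 + a.x8 * φ a.y7 * b.y1 + φ a.y1 * φ b.x8 * b.y7 + a.y1 * b.x8 * φ b.y7 +
    a.x8 * φ a.y1 * φ b.x8 * b.y1
/-- a coordinate of the commutator -/
def cx8 (a b : U K) : K := 0

/-- the commutator -/
def cmU (a b : U K) : U K := ⟨cy1 a b, cx1 a b, cx2 a b, cy3 a b, cx3 a b, cx4 a b, cy5 a b, cx5 a b, cx6 a b, cy7 a b, cx7 a b, cx8 a b⟩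

theorem cmU_y1 (a b : U K) : (cmU a b).y1 = cy1 a b := rfl
theorem cmU_x1 (a b : U K) : (cmU a b).x1 = cx1 a b := rfl
theorem cmU_x2 (a b : U K) : (cmU a b).x2 = cx2 a b := rfl
theorem cmU_y3 (a b : U K) : (cmU a b).y3 = cy3 a b := rfl
theorem cmU_x3 (a b : U K) : (cmU a b).x3 = cx3 a b := rfl
theorem cmU_x4 (a b : U K) : (cmU a b).x4 = cx4 a b := rfl
theorem cmU_y5 (a b : U K) : (cmU a b).y5 = cy5 a b := rfl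
theorem cmU_x5 (a b : U K) : (cmU a b).x5 = cx5 a b := rfl
theorem cmU_x6 (a b : U K) : (cmU a b).x6 = cx6 a b := rfl
theorem cmU_y7 (a b : U K) : (cmU a b).y7 = cy7 a b := rfl
theorem cmU_x7 (a b : U K) : (cmU a b).x7 = cx7 a b := rfl
theorem cmU_x8 (a b : U K) : (cmU a b).x8 = cx8 a b := rfl

theorem cm_aux_y1 (a b : U K) : (cmU a b * (b * a)).y1 = (a * b).y1 := by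
  usimp
  simp only [cmU_y1, cmU_x1, cmU_x2, cmU_y3, cmU_x3, cmU_x4, cmU_y5, cmU_x5, cmU_x6, cmU_y7, cmU_x7, cmU_x8,
    cy1, cx1, cx2, cy3, cx3, cx4, cy5, cx5, cx6, cy7, cx7, cx8, map_add, map_mul, map_pow, map_zero, φφ]
  grind

theorem cm_aux_x1 (a b : U K) : (cmU a b * (b * a)).x1 = (a * b).x1 := by
  usimp
  simp only [cmU_y1, cmU_x1, cmU_x2, cmU_y3, cmU_x3, cmU_x4, cmU_y5, cmU_x5, cmU_x6, cmU_y7, cmU_x7, cmU_x8,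
    cy1, cx1, cx2, cy3, cx3, cx4, cy5, cx5, cx6, cy7, cx7, cx8, map_add, map_mul, map_pow, map_zero, φφ]
  grind

theorem cm_aux_x2 (a b : U K) : (cmU a b * (b * a)).x2 = (a * b).x2 := by
  usimp
  simp only [cmU_y1, cmU_x1, cmU_x2, cmU_y3, cmU_x3, cmU_x4, cmU_y5, cmU_x5, cmU_x6, cmU_y7, cmU_x7, cmU_x8,
    cy1, cx1, cx2, cy3, cx3, cx4, cy5, cx5, cx6, cy7, cx7, cx8, map_add, map_mul, map_pow, map_zero, φφ]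
  grind

theorem cm_aux_y3 (a b : U K) : (cmU a b * (b * a)).y3 = (a * b).y3 := by
  usimp
  simp only [cmU_y1, cmU_x1, cmU_x2, cmU_y3, cmU_x3, cmU_x4, cmU_y5, cmU_x5, cmU_x6, cmU_y7, cmU_x7, cmU_x8,
    cy1, cx1, cx2, cy3, cx3, cx4, cy5, cx5, cx6, cy7, cx7, cx8, map_add, map_mul, map_pow, map_zero, φφ]
  grind

theorem cm_aux_x3 (a b : U K) : (cmU a b * (b * a)).x3 = (a * b).x3 := by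
  usimp
  simp only [cmU_y1, cmU_x1, cmU_x2, cmU_y3, cmU_x3, cmU_x4, cmU_y5, cmU_x5, cmU_x6, cmU_y7, cmU_x7, cmU_x8,
    cy1, cx1, cx2, cy3, cx3, cx4, cy5, cx5, cx6, cy7, cx7, cx8, map_add, map_mul, map_pow, map_zero, φφ]
  grind

theorem cm_aux_x4 (a b : U K) : (cmU a b * (b * a)).x4 = (a * b).x4 := by
  usimp
  simp only [cmU_y1, cmU_x1, cmU_x2, cmU_y3, cmU_x3, cmU_x4, cmU_y5, cmU_x5, cmU_x6, cmU_y7, cmU_x7, cmU_x8,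
    cy1, cx1, cx2, cy3, cx3, cx4, cy5, cx5, cx6, cy7, cx7, cx8, map_add, map_mul, map_pow, map_zero, φφ]
  grind

theorem cm_aux_y5 (a b : U K) : (cmU a b * (b * a)).y5 = (a * b).y5 := by
  usimp
  simp only [cmU_y1, cmU_x1, cmU_x2, cmU_y3, cmU_x3, cmU_x4, cmU_y5, cmU_x5, cmU_x6, cmU_y7, cmU_x7, cmU_x8,
    cy1, cx1, cx2, cy3, cx3, cx4, cy5, cx5, cx6, cy7, cx7, cx8, map_add, map_mul, map_pow, map_zero, φφ]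
  grind

theorem cm_aux_x5 (a b : U K) : (cmU a b * (b * a)).x5 = (a * b).x5 := by
  usimp
  simp only [cmU_y1, cmU_x1, cmU_x2, cmU_y3, cmU_x3, cmU_x4, cmU_y5, cmU_x5, cmU_x6, cmU_y7, cmU_x7, cmU_x8,
    cy1, cx1, cx2, cy3, cx3, cx4, cy5, cx5, cx6, cy7, cx7, cx8, map_add, map_mul, map_pow, map_zero, φφ]
  grind

theorem cm_aux_x6 (a b : U K) : (cmU a b * (b * a)).x6 = (a * b).x6 := by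
  usimp
  simp only [cmU_y1, cmU_x1, cmU_x2, cmU_y3, cmU_x3, cmU_x4, cmU_y5, cmU_x5, cmU_x6, cmU_y7, cmU_x7, cmU_x8,
    cy1, cx1, cx2, cy3, cx3, cx4, cy5, cx5, cx6, cy7, cx7, cx8, map_add, map_mul, map_pow, map_zero, φφ]
  grind

theorem cm_aux_y7 (a b : U K) : (cmU a b * (b * a)).y7 = (a * b).y7 := by
  usimp
  simp only [cmU_y1, cmU_x1, cmU_x2, cmU_y3, cmU_x3, cmU_x4, cmU_y5, cmU_x5, cmU_x6, cmU_y7, cmU_x7, cmU_x8,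
    cy1, cx1, cx2, cy3, cx3, cx4, cy5, cx5, cx6, cy7, cx7, cx8, map_add, map_mul, map_pow, map_zero, φφ]
  grind

theorem cm_aux_x7 (a b : U K) : (cmU a b * (b * a)).x7 = (a * b).x7 := by
  usimp
  simp only [cmU_y1, cmU_x1, cmU_x2, cmU_y3, cmU_x3, cmU_x4, cmU_y5, cmU_x5, cmU_x6, cmU_y7, cmU_x7, cmU_x8,
    cy1, cx1, cx2, cy3, cx3, cx4, cy5, cx5, cx6, cy7, cx7, cx8, map_add, map_mul, map_pow, map_zero, φφ]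
  grind

theorem cm_aux_x8 (a b : U K) : (cmU a b * (b * a)).x8 = (a * b).x8 := by
  usimp
  simp only [cmU_y1, cmU_x1, cmU_x2, cmU_y3, cmU_x3, cmU_x4, cmU_y5, cmU_x5, cmU_x6, cmU_y7, cmU_x7, cmU_x8,
    cy1, cx1, cx2, cy3, cx3, cx4, cy5, cx5, cx6, cy7, cx7, cx8, map_add, map_mul, map_pow, map_zero, φφ]
  grind

theorem cm_eq (a b : U K) : ⁅a, b⁆ = cmU a b := by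
  have : cmU a b * (b * a) = a * b := U.ext (cm_aux_y1 a b) (cm_aux_x1 a b) (cm_aux_x2 a b) (cm_aux_y3 a b) (cm_aux_x3 a b) (cm_aux_x4 a b) (cm_aux_y5 a b) (cm_aux_x5 a b) (cm_aux_x6 a b) (cm_aux_y7 a b) (cm_aux_x7 a b) (cm_aux_x8 a b)
  rw [commutatorElement_def, ← this]; group

theorem cm_y1 (a b : U K) : ⁅a, b⁆.y1 = cy1 a b := by rw [cm_eq]; rfl
theorem cm_x1 (a b : U K) : ⁅a, b⁆.x1 = cx1 a b := by rw [cm_eq]; rfl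
theorem cm_x2 (a b : U K) : ⁅a, b⁆.x2 = cx2 a b := by rw [cm_eq]; rfl
theorem cm_y3 (a b : U K) : ⁅a, b⁆.y3 = cy3 a b := by rw [cm_eq]; rfl
theorem cm_x3 (a b : U K) : ⁅a, b⁆.x3 = cx3 a b := by rw [cm_eq]; rfl
theorem cm_x4 (a b : U K) : ⁅a, b⁆.x4 = cx4 a b := by rw [cm_eq]; rfl
theorem cm_y5 (a b : U K) : ⁅a, b⁆.y5 = cy5 a b := by rw [cm_eq]; rfl
theorem cm_x5 (a b : U K) : ⁅a, b⁆.x5 = cx5 a b := by rw [cm_eq]; rfl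
theorem cm_x6 (a b : U K) : ⁅a, b⁆.x6 = cx6 a b := by rw [cm_eq]; rfl
theorem cm_y7 (a b : U K) : ⁅a, b⁆.y7 = cy7 a b := by rw [cm_eq]; rfl
theorem cm_x7 (a b : U K) : ⁅a, b⁆.x7 = cx7 a b := by rw [cm_eq]; rfl
theorem cm_x8 (a b : U K) : ⁅a, b⁆.x8 = cx8 a b := by rw [cm_eq]; rfl

theorem sq_y1 (a : U K) : (a * a).y1 = 0 := by
  usimp; grind
theorem sq_x1 (a : U K) : (a * a).x1 = a.y1 * φ a.y1 := by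
  usimp; grind
theorem sq_x2 (a : U K) : (a * a).x2 = φ a.x1 * a.x8 + a.x1 * a.y7 + a.x8 * a.y1 ^ 2 * φ a.y1 + a.y1 * a.y3 + a.y1 * φ a.y1 * a.y7 +
    a.x1 * a.x8 * a.y1 := by
  usimp; grind
theorem sq_y3 (a : U K) : (a * a).y3 = a.x1 * a.x8 + φ a.y1 * a.y7 := by
  usimp; grind
theorem sq_x3 (a : U K) : (a * a).x3 = a.y3 * φ a.y3 + φ a.x1 * a.x7 + a.x1 * a.x6 + a.x1 * φ a.x1 * a.x8 * φ a.x8 + φ a.x2 * a.y7 +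
    a.x2 * a.y5 + a.x4 * a.y1 + a.x6 * a.y1 * φ a.y1 + a.x7 * a.y1 ^ 2 * φ a.y1 +
    a.x8 * φ a.x8 * a.y1 ^ 3 * φ a.y1 ^ 2 + a.y1 ^ 2 * φ a.y1 * a.y7 * φ a.y7 + φ a.x1 * φ a.x8 * a.y3 +
    φ a.x1 * a.x8 * a.y5 + φ a.x1 * a.x8 * φ a.x8 * a.y1 * φ a.y1 + a.x1 * a.x2 * φ a.x8 +
    a.x1 * a.x7 * a.y1 + a.x1 * a.x8 * φ a.y3 + a.x1 * a.y1 * a.y7 * φ a.y7 + a.x1 * a.y5 * a.y7 +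
    a.x1 ^ 2 * φ a.x8 * a.y7 + a.x1 ^ 2 * a.x8 * φ a.x8 * a.y1 + φ a.x2 * a.x8 * a.y1 +
    a.x2 * φ a.x8 * a.y1 * φ a.y1 + a.x2 * a.y1 * φ a.y7 + φ a.x8 * a.y1 ^ 2 * φ a.y1 ^ 2 * a.y7 +
    a.x8 * a.y1 ^ 2 * φ a.y1 * a.y5 + a.x8 * a.y1 ^ 3 * φ a.y1 * φ a.y7 + φ a.y1 * φ a.y3 * a.y7 +
    a.y1 * φ a.y1 * a.y5 * a.y7 + a.y1 ^ 2 * a.y3 * φ a.y7 + φ a.x1 * a.x8 * a.y1 * φ a.y7 +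
    a.x1 * a.x8 * a.y1 * a.y5 + a.x1 * a.x8 * a.y1 ^ 2 * φ a.y7 := by
  usimp; grind
theorem sq_x4 (a : U K) : (a * a).x4 = a.x1 * a.x7 + a.x1 * a.y7 * φ a.y7 + a.x1 ^ 2 * a.x8 * φ a.x8 + φ a.x2 * a.x8 + a.x2 * φ a.y7 +
    a.x6 * φ a.y1 + a.x8 * φ a.x8 * a.y1 ^ 2 * φ a.y1 ^ 2 + a.y3 * a.y5 + φ a.x1 * a.x8 * φ a.y7 +
    φ a.x1 * a.x8 * φ a.x8 * φ a.y1 + a.x1 * φ a.x8 * a.y3 + a.x1 * a.x8 * a.y5 + a.x2 * φ a.x8 * φ a.y1 +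
    φ a.x8 * a.y1 * φ a.y1 * a.y3 + a.x8 * a.y1 ^ 2 * φ a.y1 * φ a.y7 + φ a.y1 * a.y5 * a.y7 +
    a.y1 * a.y3 * φ a.y7 := by
  usimp; grind
theorem sq_y5 (a : U K) : (a * a).y5 = a.x1 * φ a.x8 + φ a.x8 * a.y1 * φ a.y1 + a.y1 * φ a.y7 := by
  usimp; grind
theorem sq_x5 (a : U K) : (a * a).x5 = a.y5 * φ a.y5 + a.x1 * φ a.x7 + a.x1 * a.y7 ^ 2 * φ a.y7 + a.x2 * a.x7 + a.x3 * a.x8 + a.x4 * a.y7 +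
    φ a.x6 * a.y1 + a.x6 * a.y3 + φ a.x7 * a.y1 * φ a.y1 + a.x8 * a.y3 * φ a.y3 +
    a.x8 ^ 2 * φ a.x8 * a.y1 ^ 3 * φ a.y1 ^ 2 + φ a.x1 * a.x7 * a.x8 + φ a.x1 * a.x8 * φ a.x8 * a.y3 +
    φ a.x1 * a.x8 ^ 2 * a.y5 + φ a.x1 * a.x8 ^ 2 * φ a.x8 * a.y1 * φ a.y1 + a.x1 * a.x2 * a.x8 * φ a.x8 +
    a.x1 * a.x6 * a.x8 + a.x1 * a.x7 * a.y7 + a.x1 * φ a.x8 * φ a.y5 + a.x1 ^ 2 * a.x8 * φ a.x8 * a.y7 +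
    a.x1 ^ 2 * a.x8 ^ 2 * φ a.x8 * a.y1 + φ a.x2 * a.x8 * a.y7 + φ a.x2 * a.x8 ^ 2 * a.y1 +
    a.x2 * φ a.x8 * a.y3 + a.x4 * a.x8 * a.y1 + a.x6 * φ a.y1 * a.y7 + a.x7 * a.x8 * a.y1 ^ 2 * φ a.y1 +
    a.x7 * a.y1 * a.y3 + φ a.x8 * a.y1 * φ a.y1 * φ a.y5 + a.x8 * φ a.x8 * a.y1 ^ 2 * φ a.y1 * a.y3 +
    a.x8 * φ a.x8 * a.y1 ^ 2 * φ a.y1 ^ 2 * a.y7 + a.x8 ^ 2 * a.y1 ^ 2 * φ a.y1 * a.y5 +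
    a.x8 ^ 2 * a.y1 ^ 3 * φ a.y1 * φ a.y7 + φ a.y1 * a.y5 * a.y7 ^ 2 + a.y1 * φ a.y5 * φ a.y7 +
    φ a.x1 * a.x8 * φ a.x8 * φ a.y1 * a.y7 + φ a.x1 * a.x8 ^ 2 * a.y1 * φ a.y7 +
    a.x1 * φ a.x8 * a.y3 * a.y7 + a.x1 * a.x8 * φ a.x8 * a.y1 * a.y3 + a.x2 * φ a.x8 * φ a.y1 * a.y7 +
    φ a.x8 * a.y1 * φ a.y1 * a.y3 * a.y7 := by
  usimp; grind
theorem sq_x6 (a : U K) : (a * a).x6 = φ a.x1 * a.x8 * φ a.x8 + a.x2 * φ a.x8 + a.x7 * a.y1 + a.x8 * φ a.y3 +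
    a.x8 * φ a.x8 * a.y1 ^ 2 * φ a.y1 + a.y5 * a.y7 + a.x1 * φ a.x8 * a.y7 + a.x1 * a.x8 * φ a.x8 * a.y1 +
    φ a.x8 * a.y1 * φ a.y1 * a.y7 + a.x8 * a.y1 * a.y5 := by
  usimp; grind
theorem sq_y7 (a : U K) : (a * a).y7 = a.x8 * a.y1 := by
  usimp; grind
theorem sq_x7 (a : U K) : (a * a).x7 = a.y7 * φ a.y7 + a.x1 * a.x8 * φ a.x8 + φ a.x8 * a.y3 + a.x8 * a.y5 + φ a.x8 * φ a.y1 * a.y7 +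
    a.x8 * a.y1 * φ a.y7 := by
  usimp; grind
theorem sq_x8 (a : U K) : (a * a).x8 = 0 := by
  usimp; grind

end Cfsg.Agent.Rf.U
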