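import Cfsg.Agent.Pu.E1
import Cfsg.Agent.H4.Sp4S

/-! S5262, slice B: tools for essential subgroups (invariant sets, chains, offenders). -/

set_option autoImplicit false
set_option linter.unusedSectionVars false

universe u

namespace Cfsg.Agent.Rf

open Subgroup Cfsg.Fus Cfsg.Agent.FT Cfsg.Agent.Sg Cfsg.Agent.Pu Equiv
open Cfsg.FusionSystem hiding inv_mem
open scoped commutatorElement

/-- two involutions modulo `N` on different sides of a strongly embedded subgroup have a product of odd order -/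
theorem odd_mul {G : Type*} [Group G] {N B Y : Subgroup G} (h : StrEmbMod 2 N B Y) (hB : FinMod N B) {a r : G}
    (ha : a ∈ Y) (ha1 : a ∉ N) (ha2 : a * a ∈ N) (hr : r ∈ B) (hr1 : r ∉ Y) (hr2 : r * r ∈ N) :
    ∃ n, Odd n ∧ (a * r) ^ n ∈ N := by
  have := hB.normal
  have := hB.finite
  let π := QuotientGroup.mk' (N.subgroupOf B)
  have hπ : ∀ b : B, π b = 1 ↔ (b : G) ∈ N := fun b => QuotientGroup.eq_one_iff b
  let a' : B := ⟨a, h.le ha⟩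
  let r' : B := ⟨r, hr⟩
  have a2 : π a' * π a' = 1 := by rw [← map_mul]; exact (hπ _).2 ha2
  have r2 : π r' * π r' = 1 := by rw [← map_mul]; exact (hπ _).2 hr2
  have hp := pow_orderOf_eq_one (π a' * π r')
  rcases Nat.even_or_odd (orderOf (π a' * π r')) with ⟨k, hk⟩ | ho
  swap
  · exact ⟨_, ho, (hπ ((a' * r') ^ _)).1 (by rw [map_pow, map_mul, hp])⟩
  exfalso
  set d := π a' * π r' with hd
  have k0 : d ^ k ≠ 1 := pow_ne_one_of_lt_orderOf (by have := orderOf_pos d; omega)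
    (by have := orderOf_pos d; omega)
  have k2 : d ^ k * d ^ k = 1 := by rw [← pow_add, ← hk, hp]
  have ia := eq_inv_of_mul_eq_one_left a2
  have ir := eq_inv_of_mul_eq_one_left r2
  have ik := eq_inv_of_mul_eq_one_left k2
  have ca : π a' * d ^ k * (π a')⁻¹ = d ^ k := by
    rw [← conj_pow, ik, ← inv_pow, hd, mul_inv_rev, ← ia, ← ir, ← mul_assoc, a2, one_mul]
  have cr : π r' * d ^ k * (π r')⁻¹ = d ^ k := by
    rw [← conj_pow, ik, ← inv_pow, hd, mul_inv_rev, ← ia, ← ir, mul_assoc, mul_assoc, r2, mul_one]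
  let w : B := (a' * r') ^ k
  have hw : π w = d ^ k := by rw [map_pow, map_mul]
  have inY : ∀ x y : B, π x = π y → (y : G) ∈ Y → (x : G) ∈ Y := fun x y e hy => by
    have := h.ge ⟨(hπ (y⁻¹ * x)).1 (by rw [map_mul, map_inv, e, inv_mul_cancel]), (y⁻¹ * x).2⟩
    simpa using Y.mul_mem hy this
  have w1 : (w : G) ∈ Y := h.mem a ha ha1 ⟨1, by simpa [pow_two] using ha2⟩ _ w.2
    (inY (w * a' * w⁻¹) a' (by
      rw [map_mul, map_mul, map_inv, hw, mul_inv_eq_iff_eq_mul]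
      conv_lhs => rw [← ca]
      group) ha)
  exact hr1 (h.mem w w1 (fun e => k0 (hw ▸ (hπ w).2 e)) ⟨1, by
    simpa [pow_two] using (hπ (w * w)).1 (by rw [map_mul, hw, k2])⟩ r hr
    (inY (r' * w * r'⁻¹) w (by rw [map_mul, map_mul, map_inv, hw, cr]) w1))

variable {Ω : Type u} [Group Ω] {S E A B C X : Subgroup Ω} {F : FusionSystem S} {s t r : Set Ω}
  {a b g x y z : Ω}

/-- subsets of `E` invariant under `Aut_F(E)` -/
def Iw (F : FusionSystem S) (E : Subgroup Ω) (s : Set Ω) : Prop :=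
  (∀ x ∈ s, x ∈ E) ∧ ∀ τ, F.Iso E E τ → ∀ x ∈ s, τ x ∈ s

namespace Iw

theorem top : Iw F E E := ⟨fun _ h => h, fun _ h _ hx => h.mem hx⟩

theorem bot : Iw F E (⊥ : Subgroup Ω) :=
  ⟨fun _ h => by rw [mem_bot.1 h]; exact one_mem _, fun τ h x hx => by
    rw [mem_bot.1 hx, h.homOn.map_one]; exact one_mem _⟩

theorem inter (hs : Iw F E s) (ht : Iw F E t) : Iw F E {x | x ∈ s ∧ x ∈ t} :=
  ⟨fun _ h => hs.1 _ h.1, fun τ h x hx => ⟨hs.2 τ h x hx.1, ht.2 τ h x hx.2⟩⟩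

theorem union (hs : Iw F E s) (ht : Iw F E t) : Iw F E {x | x ∈ s ∨ x ∈ t} :=
  ⟨fun _ h => h.elim (hs.1 _) (ht.1 _), fun τ h x hx => hx.imp (hs.2 τ h x) (ht.2 τ h x)⟩

theorem invol (hs : Iw F E s) : Iw F E {x | x ∈ s ∧ x * x = 1} :=
  ⟨fun _ h => hs.1 _ h.1, fun τ h x hx => ⟨hs.2 τ h x hx.1, by
    rw [← h.homOn.map_mul (hs.1 _ hx.1) (hs.1 _ hx.1), hx.2, h.homOn.map_one]⟩⟩

theorem cmm (hr : Iw F E r) (hs : Iw F E s) (ht : Iw F E t) : Iw F E {x | x ∈ r ∧ ∀ a ∈ s, ⁅x, a⁆ ∈ t} :=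
  ⟨fun _ h => hr.1 _ h.1, fun τ h x hx => ⟨hr.2 τ h x hx.1, fun a ha => by
    have h1 := hs.2 _ h.symm a ha
    have := ht.2 τ h _ (hx.2 _ h1)
    rwa [hom_cm h.homOn (hr.1 _ hx.1) (hs.1 _ h1), perm_apply_inv_self] at this⟩⟩

theorem cent (hr : Iw F E r) (hs : Iw F E s) : Iw F E {x | x ∈ r ∧ ∀ a ∈ s, x * a = a * x} := by
  simpa only [SetLike.mem_coe, mem_bot, commutatorElement_eq_one_iff_mul_comm] using hr.cmm hs bot

theorem comm (hs : Iw F E s) (ht : Iw F E t) : Iw F E {x | ∃ a ∈ s, ∃ b ∈ t, ⁅a, b⁆ = x} :=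
  ⟨by rintro _ ⟨a, ha, b, hb, rfl⟩
      exact mul_mem (mul_mem (mul_mem (hs.1 _ ha) (ht.1 _ hb)) (inv_mem (hs.1 _ ha))) (inv_mem (ht.1 _ hb)),
    by rintro τ h _ ⟨a, ha, b, hb, rfl⟩
       exact ⟨_, hs.2 τ h a ha, _, ht.2 τ h b hb, (hom_cm h.homOn (hs.1 _ ha) (ht.1 _ hb)).symm⟩⟩

theorem sq (hs : Iw F E s) : Iw F E {x | ∃ a ∈ s, a * a = x} :=
  ⟨by rintro _ ⟨a, ha, rfl⟩; exact mul_mem (hs.1 _ ha) (hs.1 _ ha),
    by rintro τ h _ ⟨a, ha, rfl⟩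
       exact ⟨_, hs.2 τ h a ha, (h.homOn.map_mul (hs.1 _ ha) (hs.1 _ ha)).symm⟩⟩

theorem mul (hs : Iw F E s) (ht : Iw F E t) : Iw F E {x | ∃ a ∈ s, ∃ b ∈ t, a * b = x} :=
  ⟨by rintro _ ⟨a, ha, b, hb, rfl⟩; exact mul_mem (hs.1 _ ha) (ht.1 _ hb),
    by rintro τ h _ ⟨a, ha, b, hb, rfl⟩
       exact ⟨_, hs.2 τ h a ha, _, ht.2 τ h b hb, (h.homOn.map_mul (hs.1 _ ha) (ht.1 _ hb)).symm⟩⟩

theorem clos (hs : Iw F E s) : Iw F E (closure s) := by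
  have le : closure s ≤ E := (closure_le _).2 hs.1
  refine ⟨le, fun τ h x hx => ?_⟩
  induction hx using closure_induction with
  | mem x hx => exact subset_closure (hs.2 τ h x hx)
  | one => rw [h.homOn.map_one]; exact one_mem _
  | mul x y hx hy i1 i2 => rw [h.homOn.map_mul (le hx) (le hy)]; exact mul_mem i1 i2
  | inv x hx i => rw [h.homOn.map_inv (le hx)]; exact inv_mem i

theorem of_eq (hs : Iw F E s) (h1 : ∀ x ∈ s, x ∈ t) (h2 : ∀ x ∈ t, x ∈ s) : Iw F E t :=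
  (Set.Subset.antisymm h1 h2 : s = t) ▸ hs

theorem of_cl (hs : Iw F E s) (h1 : ∀ x ∈ s, x ∈ X) (h2 : ∀ x ∈ X, x ∈ closure s) : Iw F E X :=
  hs.clos.of_eq (fun _ hx => (closure_le _).2 h1 hx) h2

end Iw

/-- `g` acts trivially on the factors of an invariant series ending in the given subgroup -/
inductive St (F : FusionSystem S) (E : Subgroup Ω) (g : Ω) : Subgroup Ω → Prop
  | bot : St F E g ⊥
  | step {A B : Subgroup Ω} : St F E g A → Iw F E B → (∀ x ∈ B, ⁅x, g⁆ ∈ A) → St F E g B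

theorem St.chain (h : St F E g A) : ∃ (n : ℕ) (C : ℕ → Subgroup Ω), C 0 = ⊥ ∧ C n = A ∧
    (∀ i ≤ n, Iw F E (C i)) ∧ ∀ i < n, ∀ x ∈ C (i + 1), ⁅x, g⁆ ∈ C i := by
  induction h with
  | bot => exact ⟨0, fun _ => ⊥, rfl, rfl, fun _ _ => Iw.bot, fun _ h => by omega⟩
  | @step A B _ h1 h2 ih =>
    obtain ⟨n, C, c0, c1, c2, c3⟩ := ih
    refine ⟨n + 1, fun i => if i ≤ n then C i else B, by simpa using c0, by simp, fun i _ => ?_, fun i hi => ?_⟩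
    · dsimp only
      split_ifs with h
      exacts [c2 i h, h1]
    · dsimp only
      rw [if_pos (by omega : i ≤ n)]
      split_ifs with h
      · exact c3 i h
      · obtain rfl : i = n := by omega
        exact c1 ▸ h2

theorem St.one (h1 : Iw F E A) (h2 : ∀ x ∈ A, x * g = g * x) : St F E g A :=
  St.bot.step h1 fun x hx => mem_bot.2 (commutatorElement_eq_one_iff_mul_comm.2 (h2 x hx))

/-- `Ω₁(Z(E))` -/
def ZE (E : Subgroup Ω) : Subgroup Ω where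
  carrier := {z | z ∈ E ∧ z * z = 1 ∧ ∀ e ∈ E, z * e = e * z}
  one_mem' := ⟨one_mem _, mul_one _, fun e _ => by simp⟩
  mul_mem' {a b} ha hb := ⟨mul_mem ha.1 hb.1, by
    rw [mul_assoc, ← mul_assoc b, hb.2.2 a ha.1, mul_assoc, hb.2.1, mul_one, ha.2.1], fun e he => by
    rw [mul_assoc, hb.2.2 e he, ← mul_assoc, ha.2.2 e he, mul_assoc]⟩
  inv_mem' {a} ha := by rwa [inv_eq_of_mul_eq_one_right ha.2.1]

theorem iw_ZE : Iw F E (ZE E) := (Iw.top.invol.cent Iw.top).of_eq (fun _ h => ⟨h.1.1, h.1.2, h.2⟩)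
  fun _ h => ⟨⟨h.1, h.2.1⟩, h.2.2⟩

section
variable [Finite S]

theorem St.fin (hS : IsPGroup 2 S) (hE : F.IsEssential 2 E) (hg : g ∈ S) (h : St F E g A)
    (h2 : ∀ x ∈ E, ⁅x, g⁆ ∈ A) : g ∈ E := by
  haveI : Fact (Nat.Prime 2) := ⟨Nat.prime_two⟩
  haveI := finite_of_le hE.le
  obtain ⟨n, C, c0, c1, c2, c3⟩ := (h.step Iw.top h2).chain
  obtain ⟨n', C', -, c1', c2', -⟩ := h.chain
  have hn : g ∈ 𝐍(E) := mem_normalizer_of_finite fun x hx =>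
    (mul_mem_cancel_left (inv_mem hx)).1 ((c1' ▸ c2' n' le_rfl).1 _ (cm_mv (h2 _ (inv_mem hx))))
  exact hE.isCentric.mem_of_cj_mem_opStab (hE.isRadical hS) hg ((F.iso_cj hE.le hg hn).mem_opStab_of_chain
    hS (fun i hi => (c2 i hi).1) c0 c1 (fun τ hτ i hi => (c2 i hi).2 τ hτ)
    fun i hi x hx => cm_mv (c3 i hi _ (inv_mem hx)))

/-- the offender lemma -/
theorem off (hS : IsPGroup 2 S) (hE : F.IsEssential 2 E) (hB : B ≤ S) (hC : C ≤ ZE E)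
    (h1 : ∀ e ∈ E, ∀ b ∈ B, ⁅e, b⁆ ∈ ZE E) (h2 : ∀ m ∈ ZE E, ∀ b ∈ B, ⁅m, b⁆ ∈ C)
    (h3 : ∀ c ∈ C, ∀ b ∈ B, c * b = b * c) (h4 : ∀ m ∈ ZE E, ∀ b ∈ B, m * b = b * m → m ∈ C ∨ b ∈ E)
    (h5 : ∀ b ∈ B, b * b ∈ E) {ι κ : Type*} [Finite ι] [Nontrivial κ] (f : Ω → ι)
    (hf : ∀ m ∈ ZE E, ∀ m' ∈ ZE E, f m = f m' → m⁻¹ * m' ∈ C) (g : κ → Ω) (hg : ∀ k, g k ∈ B)
    (hg' : ∀ k k', (g k)⁻¹ * g k' ∈ E → k = k') : Nat.card κ ≤ Nat.card ι := by
  haveI : Fact (Nat.Prime 2) := ⟨Nat.prime_two⟩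
  haveI := finite_of_le hE.le
  have ME : ZE E ≤ E := fun _ h => h.1
  haveI := finite_of_le (hC.trans ME)
  obtain ⟨Y, hY, hY'⟩ := hE.exists_strEmb hS
  obtain ⟨γ, g1, g2⟩ := SetLike.exists_of_lt (hY.le.lt_of_ne hY.ne)
  have g3 := (mem_stab hE.le).1 g1
  have iM := (iw_ZE (F := F) (E := E)).2
  have key : ∀ b ∈ B, b ∉ E → F.Iso E E (cj b) ∧ γ * cj b * γ⁻¹ ∉ Y ∧ cj b ∈ Y ∧
      ∃ n, Odd n ∧ (cj b * (γ * cj b * γ⁻¹)) ^ n ∈ innS E E := fun b hb hb' => by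
    have hn : b ∈ 𝐍(E) := mem_normalizer_of_finite fun x hx =>
      (mul_mem_cancel_left (inv_mem hx)).1 (ME (cm_mv (h1 _ (inv_mem hx) b hb)))
    have k1 := F.iso_cj hE.le (hB hb) hn
    have k2 := hY' (cj_mem_innS (hB hb) hn)
    have k3 : cj b ∉ innS E E := fun h => hb' (hE.isCentric.mem_of_cj_mem_innS (hB hb) h)
    have k4 : cj b * cj b ∈ innS E E := by
      rw [← map_mul]; exact cj_mem_innS (h5 b hb) (le_normalizer (h5 b hb))
    have k5 : γ * cj b * γ⁻¹ ∉ Y := fun h => g2 (hY.mem _ k2 k3 ⟨1, by simpa [pow_two] using k4⟩ γ g1 h)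
    refine ⟨k1, k5, k2, odd_mul hY (F.finMod_innS hE.le) k2 k3 k4 (g3.conj k1).mem_stab k5 ?_⟩
    have := (mem_normalizer_iff.1 ((F.finMod_innS hE.le).le g1) _).1 k4
    simpa [mul_assoc] using this
  have fx : ∀ b ∈ B, ∀ x, γ⁻¹ x ∈ C → (γ * cj b * γ⁻¹) x = x := fun b hb x hx => by
    rw [Perm.mul_apply, Perm.mul_apply, cj_apply, ← h3 _ hx b hb, mul_inv_cancel_right, perm_apply_inv_self]
  by_cases hc : ∀ x ∈ C, γ x ∈ C
  · exfalso
    obtain ⟨k, k', hk⟩ := exists_pair_ne κ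
    have hb := mul_mem (inv_mem (hg k)) (hg k')
    obtain ⟨k1, k5, k2, n, n1, n2⟩ := key _ hb fun h => hk (hg' k k' h)
    set b := (g k)⁻¹ * g k'
    have aut : ∀ σ, F.Iso E E σ → σ ∈ autStab (ZE E) := fun σ hσ =>
      haveI := finite_of_le ME
      ⟨hσ.homOn.mono ME, mem_setStab_of_finite (iM σ hσ)⟩
    have t0 : cj b ∈ fixP C := fun x hx => by simp [← h3 x hx b hb]
    have t1 : cj b ∈ trivOn C (ZE E) := ⟨aut _ k1, fun x hx => cm_mv (h2 _ (inv_mem hx) b hb)⟩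
    have t2 : cj b ∈ trivOn (ZE E) E := ⟨k1.mem_autStab, fun x hx => cm_mv (h1 _ (inv_mem hx) b hb)⟩
    obtain ⟨l, hl⟩ := exists_pow_mem_fixP_of_chain hS (C := fun i => match i with
        | 0 => C | 1 => ZE E | _ => E) (n := 2) (σ := cj b * (γ * cj b * γ⁻¹)) (by
          rintro (_ | _ | _) -
          exacts [hC.trans (ME.trans hE.le), ME.trans hE.le, hE.le])
        ⟨0, by simpa using mul_mem t0 (conj_mem_fixP (mem_setStab_of_finite hc) t0)⟩ (by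
          rintro (_ | _ | _) hi
          exacts [mul_mem t1 (conj_mem_trivOn t1 (aut _ g3) fun x hx _ => hc x hx),
            mul_mem t2 (conj_mem_trivOn t2 g3.mem_autStab fun x hx _ => iM _ g3 x hx), by omega])
    have cop : (2 ^ l).Coprime n := Nat.Coprime.pow_left _ (Nat.coprime_two_left.2 n1)
    have e1 : cj b * (γ * cj b * γ⁻¹) ∈ innS E E := by
      have e2 := mul_mem (zpow_mem (fixP_le_innS E E hl) (Nat.gcdA (2 ^ l) n)) (zpow_mem n2 (Nat.gcdB (2 ^ l) n))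
      rwa [← zpow_natCast, ← zpow_natCast, ← zpow_mul, ← zpow_mul, ← zpow_add, ← Nat.gcd_eq_gcd_ab, cop,
        Nat.cast_one, zpow_one] at e2
    exact k5 ((mul_mem_cancel_left k2).1 (hY.ge ⟨e1, (k1.trans (g3.conj k1) |> fun _ =>
      mul_mem k1.mem_stab (g3.conj k1).mem_stab)⟩))
  push Not at hc
  obtain ⟨x, x1, x2⟩ := hc
  have hm := iM _ g3 x (hC x1)
  set m := γ x
  have mul_b : ∀ b ∈ B, ∀ b' ∈ B, ⁅m, b⁆⁻¹ * ⁅m, b'⁆ = ⁅m, b⁻¹ * b'⁆ := fun b hb b' hb' => by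
    have := h3 _ (h2 m hm _ (mul_mem (inv_mem hb) hb')) b hb
    calc _ = ⁅m, b⁆⁻¹ * (⁅m, b⁆ * (b * ⁅m, b⁻¹ * b'⁆ * b⁻¹)) := by simp only [commutatorElement_def]; group
      _ = _ := by rw [← this]; group
  refine Nat.card_le_card_of_injective (fun k => f (γ⁻¹ ⁅m, g k⁆)) fun k k' e => hg' k k' ?_
  have hb := mul_mem (inv_mem (hg k)) (hg k')
  by_contra hb'
  have c1 := hC (h2 m hm _ (hg k))
  have c2 := hC (h2 m hm _ (hg k'))
  have e1 := hf _ (iM _ g3.symm _ c1) _ (iM _ g3.symm _ c2) e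
  rw [← g3.symm.homOn.map_inv c1.1, ← g3.symm.homOn.map_mul (inv_mem c1.1) c2.1, mul_b _ (hg k) _ (hg k')] at e1
  obtain ⟨k1, -, -, n, n1, n2⟩ := key _ hb hb'
  set b := (g k)⁻¹ * g k'
  have c3 := h2 m hm b hb
  set c := ⁅m, b⁆ with hcd
  have d1 : (cj b * (γ * cj b * γ⁻¹)) m = c * m := by
    rw [Perm.mul_apply, fx b hb m (by simpa [m] using x1), cj_apply, ← inv_eq_of_mul_eq_one_right (hC c3).2.1, hcd,
      commutatorElement_def]
    group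
  have d2 : (cj b * (γ * cj b * γ⁻¹)) c = c := by
    rw [Perm.mul_apply, fx b hb c e1, cj_apply, ← h3 c c3 b hb, mul_inv_cancel_right]
  have d3 : ∀ j : ℕ, ((cj b * (γ * cj b * γ⁻¹)) ^ j) m = c ^ j * m := fun j => by
    induction j with
    | zero => simp
    | succ j ih =>
      rw [pow_succ', Perm.mul_apply, ih, ((g3.conj k1).trans k1).homOn.map_mul (pow_mem (hC c3).1 j) hm.1,
        ((g3.conj k1).trans k1).homOn.map_pow (hC c3).1, d1, d2, pow_succ, mul_assoc]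
  obtain ⟨y, y1, -, y2⟩ := mem_innS.1 n2
  have d4 := y2 m hm.1
  rw [d3, ← hm.2.2 y y1, mul_inv_cancel_right, mul_eq_right] at d4
  obtain ⟨j, rfl⟩ := n1
  rw [pow_succ, pow_mul, pow_two, (hC c3).2.1, one_pow, one_mul] at d4
  exact (h4 m hm b hb (commutatorElement_eq_one_iff_mul_comm.1 d4)).elim x2 hb'

theorem ess_conj (hE : F.IsEssential 2 E) (hg : g ∈ S) :
    ∃ E' : Subgroup Ω, F.IsEssential 2 E' ∧ ∀ x, g * x * g⁻¹ ∈ E' ↔ x ∈ E :=
  haveI : Fact (Nat.Prime 2) := ⟨Nat.prime_two⟩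
  ⟨img (cj g) E, Cfsg.Agent.H4.Sp.essential_img hE (F.iso_cj le_rfl hg (le_normalizer hg)), fun x => by
    rw [(homOn_cj g E).mem_img_perm]; simp [mul_assoc]⟩

end

end Cfsg.Agent.Rf
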