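import Cfsg.Agent.Rf.B1

/-! S5262, slice B: coordinate subgroups of `U` and their commutators. -/

set_option autoImplicit false
set_option maxRecDepth 8000
set_option linter.unusedSimpArgs false
set_option linter.unusedVariables false
set_option linter.unusedSectionVars false

namespace Cfsg.Agent.Rf.U

open scoped commutatorElement

variable {K : Type*} [Field K] [TF K] {a b : U K}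

@[simp] theorem one_y1 : (1 : U K).y1 = 0 := rfl
@[simp] theorem one_x1 : (1 : U K).x1 = 0 := rfl
@[simp] theorem one_x2 : (1 : U K).x2 = 0 := rfl
@[simp] theorem one_y3 : (1 : U K).y3 = 0 := rfl
@[simp] theorem one_x3 : (1 : U K).x3 = 0 := rfl
@[simp] theorem one_x4 : (1 : U K).x4 = 0 := rfl
@[simp] theorem one_y5 : (1 : U K).y5 = 0 := rfl
@[simp] theorem one_x5 : (1 : U K).x5 = 0 := rfl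
@[simp] theorem one_x6 : (1 : U K).x6 = 0 := rfl
@[simp] theorem one_y7 : (1 : U K).y7 = 0 := rfl
@[simp] theorem one_x7 : (1 : U K).x7 = 0 := rfl
@[simp] theorem one_x8 : (1 : U K).x8 = 0 := rfl
@[simp] theorem Y1_y1 (t : K) : (Y1 t).y1 = t := rfl
@[simp] theorem Y1_x1 (t : K) : (Y1 t).x1 = 0 := rfl
@[simp] theorem Y1_x2 (t : K) : (Y1 t).x2 = 0 := rfl
@[simp] theorem Y1_y3 (t : K) : (Y1 t).y3 = 0 := rfl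
@[simp] theorem Y1_x3 (t : K) : (Y1 t).x3 = 0 := rfl
@[simp] theorem Y1_x4 (t : K) : (Y1 t).x4 = 0 := rfl
@[simp] theorem Y1_y5 (t : K) : (Y1 t).y5 = 0 := rfl
@[simp] theorem Y1_x5 (t : K) : (Y1 t).x5 = 0 := rfl
@[simp] theorem Y1_x6 (t : K) : (Y1 t).x6 = 0 := rfl
@[simp] theorem Y1_y7 (t : K) : (Y1 t).y7 = 0 := rfl
@[simp] theorem Y1_x7 (t : K) : (Y1 t).x7 = 0 := rfl
@[simp] theorem Y1_x8 (t : K) : (Y1 t).x8 = 0 := rfl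
@[simp] theorem X1_y1 (t : K) : (X1 t).y1 = 0 := rfl
@[simp] theorem X1_x1 (t : K) : (X1 t).x1 = t := rfl
@[simp] theorem X1_x2 (t : K) : (X1 t).x2 = 0 := rfl
@[simp] theorem X1_y3 (t : K) : (X1 t).y3 = 0 := rfl
@[simp] theorem X1_x3 (t : K) : (X1 t).x3 = 0 := rfl
@[simp] theorem X1_x4 (t : K) : (X1 t).x4 = 0 := rfl
@[simp] theorem X1_y5 (t : K) : (X1 t).y5 = 0 := rfl
@[simp] theorem X1_x5 (t : K) : (X1 t).x5 = 0 := rfl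
@[simp] theorem X1_x6 (t : K) : (X1 t).x6 = 0 := rfl
@[simp] theorem X1_y7 (t : K) : (X1 t).y7 = 0 := rfl
@[simp] theorem X1_x7 (t : K) : (X1 t).x7 = 0 := rfl
@[simp] theorem X1_x8 (t : K) : (X1 t).x8 = 0 := rfl
@[simp] theorem X2_y1 (t : K) : (X2 t).y1 = 0 := rfl
@[simp] theorem X2_x1 (t : K) : (X2 t).x1 = 0 := rfl
@[simp] theorem X2_x2 (t : K) : (X2 t).x2 = t := rfl
@[simp] theorem X2_y3 (t : K) : (X2 t).y3 = 0 := rfl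
@[simp] theorem X2_x3 (t : K) : (X2 t).x3 = 0 := rfl
@[simp] theorem X2_x4 (t : K) : (X2 t).x4 = 0 := rfl
@[simp] theorem X2_y5 (t : K) : (X2 t).y5 = 0 := rfl
@[simp] theorem X2_x5 (t : K) : (X2 t).x5 = 0 := rfl
@[simp] theorem X2_x6 (t : K) : (X2 t).x6 = 0 := rfl
@[simp] theorem X2_y7 (t : K) : (X2 t).y7 = 0 := rfl
@[simp] theorem X2_x7 (t : K) : (X2 t).x7 = 0 := rfl
@[simp] theorem X2_x8 (t : K) : (X2 t).x8 = 0 := rfl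
@[simp] theorem Y3_y1 (t : K) : (Y3 t).y1 = 0 := rfl
@[simp] theorem Y3_x1 (t : K) : (Y3 t).x1 = 0 := rfl
@[simp] theorem Y3_x2 (t : K) : (Y3 t).x2 = 0 := rfl
@[simp] theorem Y3_y3 (t : K) : (Y3 t).y3 = t := rfl
@[simp] theorem Y3_x3 (t : K) : (Y3 t).x3 = 0 := rfl
@[simp] theorem Y3_x4 (t : K) : (Y3 t).x4 = 0 := rfl
@[simp] theorem Y3_y5 (t : K) : (Y3 t).y5 = 0 := rfl
@[simp] theorem Y3_x5 (t : K) : (Y3 t).x5 = 0 := rfl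
@[simp] theorem Y3_x6 (t : K) : (Y3 t).x6 = 0 := rfl
@[simp] theorem Y3_y7 (t : K) : (Y3 t).y7 = 0 := rfl
@[simp] theorem Y3_x7 (t : K) : (Y3 t).x7 = 0 := rfl
@[simp] theorem Y3_x8 (t : K) : (Y3 t).x8 = 0 := rfl
@[simp] theorem X3_y1 (t : K) : (X3 t).y1 = 0 := rfl
@[simp] theorem X3_x1 (t : K) : (X3 t).x1 = 0 := rfl
@[simp] theorem X3_x2 (t : K) : (X3 t).x2 = 0 := rfl
@[simp] theorem X3_y3 (t : K) : (X3 t).y3 = 0 := rfl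
@[simp] theorem X3_x3 (t : K) : (X3 t).x3 = t := rfl
@[simp] theorem X3_x4 (t : K) : (X3 t).x4 = 0 := rfl
@[simp] theorem X3_y5 (t : K) : (X3 t).y5 = 0 := rfl
@[simp] theorem X3_x5 (t : K) : (X3 t).x5 = 0 := rfl
@[simp] theorem X3_x6 (t : K) : (X3 t).x6 = 0 := rfl
@[simp] theorem X3_y7 (t : K) : (X3 t).y7 = 0 := rfl
@[simp] theorem X3_x7 (t : K) : (X3 t).x7 = 0 := rfl
@[simp] theorem X3_x8 (t : K) : (X3 t).x8 = 0 := rfl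
@[simp] theorem X4_y1 (t : K) : (X4 t).y1 = 0 := rfl
@[simp] theorem X4_x1 (t : K) : (X4 t).x1 = 0 := rfl
@[simp] theorem X4_x2 (t : K) : (X4 t).x2 = 0 := rfl
@[simp] theorem X4_y3 (t : K) : (X4 t).y3 = 0 := rfl
@[simp] theorem X4_x3 (t : K) : (X4 t).x3 = 0 := rfl
@[simp] theorem X4_x4 (t : K) : (X4 t).x4 = t := rfl
@[simp] theorem X4_y5 (t : K) : (X4 t).y5 = 0 := rfl
@[simp] theorem X4_x5 (t : K) : (X4 t).x5 = 0 := rfl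
@[simp] theorem X4_x6 (t : K) : (X4 t).x6 = 0 := rfl
@[simp] theorem X4_y7 (t : K) : (X4 t).y7 = 0 := rfl
@[simp] theorem X4_x7 (t : K) : (X4 t).x7 = 0 := rfl
@[simp] theorem X4_x8 (t : K) : (X4 t).x8 = 0 := rfl
@[simp] theorem Y5_y1 (t : K) : (Y5 t).y1 = 0 := rfl
@[simp] theorem Y5_x1 (t : K) : (Y5 t).x1 = 0 := rfl
@[simp] theorem Y5_x2 (t : K) : (Y5 t).x2 = 0 := rfl
@[simp] theorem Y5_y3 (t : K) : (Y5 t).y3 = 0 := rfl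
@[simp] theorem Y5_x3 (t : K) : (Y5 t).x3 = 0 := rfl
@[simp] theorem Y5_x4 (t : K) : (Y5 t).x4 = 0 := rfl
@[simp] theorem Y5_y5 (t : K) : (Y5 t).y5 = t := rfl
@[simp] theorem Y5_x5 (t : K) : (Y5 t).x5 = 0 := rfl
@[simp] theorem Y5_x6 (t : K) : (Y5 t).x6 = 0 := rfl
@[simp] theorem Y5_y7 (t : K) : (Y5 t).y7 = 0 := rfl
@[simp] theorem Y5_x7 (t : K) : (Y5 t).x7 = 0 := rfl
@[simp] theorem Y5_x8 (t : K) : (Y5 t).x8 = 0 := rfl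
@[simp] theorem X5_y1 (t : K) : (X5 t).y1 = 0 := rfl
@[simp] theorem X5_x1 (t : K) : (X5 t).x1 = 0 := rfl
@[simp] theorem X5_x2 (t : K) : (X5 t).x2 = 0 := rfl
@[simp] theorem X5_y3 (t : K) : (X5 t).y3 = 0 := rfl
@[simp] theorem X5_x3 (t : K) : (X5 t).x3 = 0 := rfl
@[simp] theorem X5_x4 (t : K) : (X5 t).x4 = 0 := rfl
@[simp] theorem X5_y5 (t : K) : (X5 t).y5 = 0 := rfl
@[simp] theorem X5_x5 (t : K) : (X5 t).x5 = t := rfl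
@[simp] theorem X5_x6 (t : K) : (X5 t).x6 = 0 := rfl
@[simp] theorem X5_y7 (t : K) : (X5 t).y7 = 0 := rfl
@[simp] theorem X5_x7 (t : K) : (X5 t).x7 = 0 := rfl
@[simp] theorem X5_x8 (t : K) : (X5 t).x8 = 0 := rfl
@[simp] theorem X6_y1 (t : K) : (X6 t).y1 = 0 := rfl
@[simp] theorem X6_x1 (t : K) : (X6 t).x1 = 0 := rfl
@[simp] theorem X6_x2 (t : K) : (X6 t).x2 = 0 := rfl
@[simp] theorem X6_y3 (t : K) : (X6 t).y3 = 0 := rfl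
@[simp] theorem X6_x3 (t : K) : (X6 t).x3 = 0 := rfl
@[simp] theorem X6_x4 (t : K) : (X6 t).x4 = 0 := rfl
@[simp] theorem X6_y5 (t : K) : (X6 t).y5 = 0 := rfl
@[simp] theorem X6_x5 (t : K) : (X6 t).x5 = 0 := rfl
@[simp] theorem X6_x6 (t : K) : (X6 t).x6 = t := rfl
@[simp] theorem X6_y7 (t : K) : (X6 t).y7 = 0 := rfl
@[simp] theorem X6_x7 (t : K) : (X6 t).x7 = 0 := rfl
@[simp] theorem X6_x8 (t : K) : (X6 t).x8 = 0 := rfl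
@[simp] theorem Y7_y1 (t : K) : (Y7 t).y1 = 0 := rfl
@[simp] theorem Y7_x1 (t : K) : (Y7 t).x1 = 0 := rfl
@[simp] theorem Y7_x2 (t : K) : (Y7 t).x2 = 0 := rfl
@[simp] theorem Y7_y3 (t : K) : (Y7 t).y3 = 0 := rfl
@[simp] theorem Y7_x3 (t : K) : (Y7 t).x3 = 0 := rfl
@[simp] theorem Y7_x4 (t : K) : (Y7 t).x4 = 0 := rfl
@[simp] theorem Y7_y5 (t : K) : (Y7 t).y5 = 0 := rfl
@[simp] theorem Y7_x5 (t : K) : (Y7 t).x5 = 0 := rfl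
@[simp] theorem Y7_x6 (t : K) : (Y7 t).x6 = 0 := rfl
@[simp] theorem Y7_y7 (t : K) : (Y7 t).y7 = t := rfl
@[simp] theorem Y7_x7 (t : K) : (Y7 t).x7 = 0 := rfl
@[simp] theorem Y7_x8 (t : K) : (Y7 t).x8 = 0 := rfl
@[simp] theorem X7_y1 (t : K) : (X7 t).y1 = 0 := rfl
@[simp] theorem X7_x1 (t : K) : (X7 t).x1 = 0 := rfl
@[simp] theorem X7_x2 (t : K) : (X7 t).x2 = 0 := rfl
@[simp] theorem X7_y3 (t : K) : (X7 t).y3 = 0 := rfl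
@[simp] theorem X7_x3 (t : K) : (X7 t).x3 = 0 := rfl
@[simp] theorem X7_x4 (t : K) : (X7 t).x4 = 0 := rfl
@[simp] theorem X7_y5 (t : K) : (X7 t).y5 = 0 := rfl
@[simp] theorem X7_x5 (t : K) : (X7 t).x5 = 0 := rfl
@[simp] theorem X7_x6 (t : K) : (X7 t).x6 = 0 := rfl
@[simp] theorem X7_y7 (t : K) : (X7 t).y7 = 0 := rfl
@[simp] theorem X7_x7 (t : K) : (X7 t).x7 = t := rfl
@[simp] theorem X7_x8 (t : K) : (X7 t).x8 = 0 := rfl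
@[simp] theorem X8_y1 (t : K) : (X8 t).y1 = 0 := rfl
@[simp] theorem X8_x1 (t : K) : (X8 t).x1 = 0 := rfl
@[simp] theorem X8_x2 (t : K) : (X8 t).x2 = 0 := rfl
@[simp] theorem X8_y3 (t : K) : (X8 t).y3 = 0 := rfl
@[simp] theorem X8_x3 (t : K) : (X8 t).x3 = 0 := rfl
@[simp] theorem X8_x4 (t : K) : (X8 t).x4 = 0 := rfl
@[simp] theorem X8_y5 (t : K) : (X8 t).y5 = 0 := rfl
@[simp] theorem X8_x5 (t : K) : (X8 t).x5 = 0 := rfl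
@[simp] theorem X8_x6 (t : K) : (X8 t).x6 = 0 := rfl
@[simp] theorem X8_y7 (t : K) : (X8 t).y7 = 0 := rfl
@[simp] theorem X8_x7 (t : K) : (X8 t).x7 = 0 := rfl
@[simp] theorem X8_x8 (t : K) : (X8 t).x8 = t := rfl

theorem cz_y1 (h : a * b = b * a) : cy1 a b = 0 := by
  rw [← cm_y1, commutatorElement_eq_one_iff_mul_comm.2 h]; rfl
theorem cz_x1 (h : a * b = b * a) : cx1 a b = 0 := by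
  rw [← cm_x1, commutatorElement_eq_one_iff_mul_comm.2 h]; rfl
theorem cz_x2 (h : a * b = b * a) : cx2 a b = 0 := by
  rw [← cm_x2, commutatorElement_eq_one_iff_mul_comm.2 h]; rfl
theorem cz_y3 (h : a * b = b * a) : cy3 a b = 0 := by
  rw [← cm_y3, commutatorElement_eq_one_iff_mul_comm.2 h]; rfl
theorem cz_x3 (h : a * b = b * a) : cx3 a b = 0 := by
  rw [← cm_x3, commutatorElement_eq_one_iff_mul_comm.2 h]; rfl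
theorem cz_x4 (h : a * b = b * a) : cx4 a b = 0 := by
  rw [← cm_x4, commutatorElement_eq_one_iff_mul_comm.2 h]; rfl
theorem cz_y5 (h : a * b = b * a) : cy5 a b = 0 := by
  rw [← cm_y5, commutatorElement_eq_one_iff_mul_comm.2 h]; rfl
theorem cz_x5 (h : a * b = b * a) : cx5 a b = 0 := by
  rw [← cm_x5, commutatorElement_eq_one_iff_mul_comm.2 h]; rfl
theorem cz_x6 (h : a * b = b * a) : cx6 a b = 0 := by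
  rw [← cm_x6, commutatorElement_eq_one_iff_mul_comm.2 h]; rfl
theorem cz_y7 (h : a * b = b * a) : cy7 a b = 0 := by
  rw [← cm_y7, commutatorElement_eq_one_iff_mul_comm.2 h]; rfl
theorem cz_x7 (h : a * b = b * a) : cx7 a b = 0 := by
  rw [← cm_x7, commutatorElement_eq_one_iff_mul_comm.2 h]; rfl
theorem cz_x8 (h : a * b = b * a) : cx8 a b = 0 := by
  rw [← cm_x8, commutatorElement_eq_one_iff_mul_comm.2 h]; rfl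

theorem sz_x1 (h : a * a = 1) : a.y1 * φ a.y1 = 0 := by
  rw [← sq_x1, h]; rfl
theorem sz_x2 (h : a * a = 1) : φ a.x1 * a.x8 + a.x1 * a.y7 + a.x8 * a.y1 ^ 2 * φ a.y1 + a.y1 * a.y3 + a.y1 * φ a.y1 * a.y7 +
    a.x1 * a.x8 * a.y1 = 0 := by
  rw [← sq_x2, h]; rfl
theorem sz_y3 (h : a * a = 1) : a.x1 * a.x8 + φ a.y1 * a.y7 = 0 := by
  rw [← sq_y3, h]; rfl
theorem sz_x3 (h : a * a = 1) : a.y3 * φ a.y3 + φ a.x1 * a.x7 + a.x1 * a.x6 + a.x1 * φ a.x1 * a.x8 * φ a.x8 + φ a.x2 * a.y7 +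
    a.x2 * a.y5 + a.x4 * a.y1 + a.x6 * a.y1 * φ a.y1 + a.x7 * a.y1 ^ 2 * φ a.y1 +
    a.x8 * φ a.x8 * a.y1 ^ 3 * φ a.y1 ^ 2 + a.y1 ^ 2 * φ a.y1 * a.y7 * φ a.y7 + φ a.x1 * φ a.x8 * a.y3 +
    φ a.x1 * a.x8 * a.y5 + φ a.x1 * a.x8 * φ a.x8 * a.y1 * φ a.y1 + a.x1 * a.x2 * φ a.x8 +
    a.x1 * a.x7 * a.y1 + a.x1 * a.x8 * φ a.y3 + a.x1 * a.y1 * a.y7 * φ a.y7 + a.x1 * a.y5 * a.y7 +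
    a.x1 ^ 2 * φ a.x8 * a.y7 + a.x1 ^ 2 * a.x8 * φ a.x8 * a.y1 + φ a.x2 * a.x8 * a.y1 +
    a.x2 * φ a.x8 * a.y1 * φ a.y1 + a.x2 * a.y1 * φ a.y7 + φ a.x8 * a.y1 ^ 2 * φ a.y1 ^ 2 * a.y7 +
    a.x8 * a.y1 ^ 2 * φ a.y1 * a.y5 + a.x8 * a.y1 ^ 3 * φ a.y1 * φ a.y7 + φ a.y1 * φ a.y3 * a.y7 +
    a.y1 * φ a.y1 * a.y5 * a.y7 + a.y1 ^ 2 * a.y3 * φ a.y7 + φ a.x1 * a.x8 * a.y1 * φ a.y7 +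
    a.x1 * a.x8 * a.y1 * a.y5 + a.x1 * a.x8 * a.y1 ^ 2 * φ a.y7 = 0 := by
  rw [← sq_x3, h]; rfl
theorem sz_x4 (h : a * a = 1) : a.x1 * a.x7 + a.x1 * a.y7 * φ a.y7 + a.x1 ^ 2 * a.x8 * φ a.x8 + φ a.x2 * a.x8 + a.x2 * φ a.y7 +
    a.x6 * φ a.y1 + a.x8 * φ a.x8 * a.y1 ^ 2 * φ a.y1 ^ 2 + a.y3 * a.y5 + φ a.x1 * a.x8 * φ a.y7 +
    φ a.x1 * a.x8 * φ a.x8 * φ a.y1 + a.x1 * φ a.x8 * a.y3 + a.x1 * a.x8 * a.y5 + a.x2 * φ a.x8 * φ a.y1 +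
    φ a.x8 * a.y1 * φ a.y1 * a.y3 + a.x8 * a.y1 ^ 2 * φ a.y1 * φ a.y7 + φ a.y1 * a.y5 * a.y7 +
    a.y1 * a.y3 * φ a.y7 = 0 := by
  rw [← sq_x4, h]; rfl
theorem sz_y5 (h : a * a = 1) : a.x1 * φ a.x8 + φ a.x8 * a.y1 * φ a.y1 + a.y1 * φ a.y7 = 0 := by
  rw [← sq_y5, h]; rfl
theorem sz_x5 (h : a * a = 1) : a.y5 * φ a.y5 + a.x1 * φ a.x7 + a.x1 * a.y7 ^ 2 * φ a.y7 + a.x2 * a.x7 + a.x3 * a.x8 + a.x4 * a.y7 +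
    φ a.x6 * a.y1 + a.x6 * a.y3 + φ a.x7 * a.y1 * φ a.y1 + a.x8 * a.y3 * φ a.y3 +
    a.x8 ^ 2 * φ a.x8 * a.y1 ^ 3 * φ a.y1 ^ 2 + φ a.x1 * a.x7 * a.x8 + φ a.x1 * a.x8 * φ a.x8 * a.y3 +
    φ a.x1 * a.x8 ^ 2 * a.y5 + φ a.x1 * a.x8 ^ 2 * φ a.x8 * a.y1 * φ a.y1 + a.x1 * a.x2 * a.x8 * φ a.x8 +
    a.x1 * a.x6 * a.x8 + a.x1 * a.x7 * a.y7 + a.x1 * φ a.x8 * φ a.y5 + a.x1 ^ 2 * a.x8 * φ a.x8 * a.y7 +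
    a.x1 ^ 2 * a.x8 ^ 2 * φ a.x8 * a.y1 + φ a.x2 * a.x8 * a.y7 + φ a.x2 * a.x8 ^ 2 * a.y1 +
    a.x2 * φ a.x8 * a.y3 + a.x4 * a.x8 * a.y1 + a.x6 * φ a.y1 * a.y7 + a.x7 * a.x8 * a.y1 ^ 2 * φ a.y1 +
    a.x7 * a.y1 * a.y3 + φ a.x8 * a.y1 * φ a.y1 * φ a.y5 + a.x8 * φ a.x8 * a.y1 ^ 2 * φ a.y1 * a.y3 +
    a.x8 * φ a.x8 * a.y1 ^ 2 * φ a.y1 ^ 2 * a.y7 + a.x8 ^ 2 * a.y1 ^ 2 * φ a.y1 * a.y5 +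
    a.x8 ^ 2 * a.y1 ^ 3 * φ a.y1 * φ a.y7 + φ a.y1 * a.y5 * a.y7 ^ 2 + a.y1 * φ a.y5 * φ a.y7 +
    φ a.x1 * a.x8 * φ a.x8 * φ a.y1 * a.y7 + φ a.x1 * a.x8 ^ 2 * a.y1 * φ a.y7 +
    a.x1 * φ a.x8 * a.y3 * a.y7 + a.x1 * a.x8 * φ a.x8 * a.y1 * a.y3 + a.x2 * φ a.x8 * φ a.y1 * a.y7 +
    φ a.x8 * a.y1 * φ a.y1 * a.y3 * a.y7 = 0 := by
  rw [← sq_x5, h]; rfl
theorem sz_x6 (h : a * a = 1) : φ a.x1 * a.x8 * φ a.x8 + a.x2 * φ a.x8 + a.x7 * a.y1 + a.x8 * φ a.y3 +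
    a.x8 * φ a.x8 * a.y1 ^ 2 * φ a.y1 + a.y5 * a.y7 + a.x1 * φ a.x8 * a.y7 + a.x1 * a.x8 * φ a.x8 * a.y1 +
    φ a.x8 * a.y1 * φ a.y1 * a.y7 + a.x8 * a.y1 * a.y5 = 0 := by
  rw [← sq_x6, h]; rfl
theorem sz_y7 (h : a * a = 1) : a.x8 * a.y1 = 0 := by
  rw [← sq_y7, h]; rfl
theorem sz_x7 (h : a * a = 1) : a.y7 * φ a.y7 + a.x1 * a.x8 * φ a.x8 + φ a.x8 * a.y3 + a.x8 * a.y5 + φ a.x8 * φ a.y1 * a.y7 +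
    a.x8 * a.y1 * φ a.y7 = 0 := by
  rw [← sq_x7, h]; rfl

@[simp] theorem mem_L : a ∈ QL ↔ a.x8 = 0 := Iff.rfl
@[simp] theorem mem_Q : a ∈ QS ↔ a.y1 = 0 ∧ a.x1 = 0 := Iff.rfl

/-- the coordinates `x5` -/
def sZ1 : Subgroup (U K) where
  carrier := {a | a.y1 = 0 ∧ a.x1 = 0 ∧ a.x2 = 0 ∧ a.y3 = 0 ∧ a.x3 = 0 ∧ a.x4 = 0 ∧ a.y5 = 0 ∧ a.x6 = 0 ∧ a.y7 = 0 ∧ a.x7 = 0 ∧ a.x8 = 0}
  one_mem' := by simp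
  mul_mem' {a b} ha hb := by
    simp only [Set.mem_setOf_eq] at *
    simp [mul_y1, my1, mul_x1, mx1, mul_x2, mx2, mul_y3, my3, mul_x3, mx3, mul_x4, mx4, mul_y5, my5, mul_x6, mx6, mul_y7, my7, mul_x7, mx7, mul_x8, mx8, ha, hb]
  inv_mem' {a} ha := by
    simp only [Set.mem_setOf_eq] at *
    simp [inv_y1, iy1, inv_x1, ix1, inv_x2, ix2, inv_y3, iy3, inv_x3, ix3, inv_x4, ix4, inv_y5, iy5, inv_x6, ix6, inv_y7, iy7, inv_x7, ix7, inv_x8, ix8, ha]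

@[simp] theorem mem_Z1 : a ∈ sZ1 ↔ a.y1 = 0 ∧ a.x1 = 0 ∧ a.x2 = 0 ∧ a.y3 = 0 ∧ a.x3 = 0 ∧ a.x4 = 0 ∧ a.y5 = 0 ∧ a.x6 = 0 ∧ a.y7 = 0 ∧ a.x7 = 0 ∧ a.x8 = 0 := Iff.rfl

/-- the coordinates `x3 x5` -/
def sZ2 : Subgroup (U K) where
  carrier := {a | a.y1 = 0 ∧ a.x1 = 0 ∧ a.x2 = 0 ∧ a.y3 = 0 ∧ a.x4 = 0 ∧ a.y5 = 0 ∧ a.x6 = 0 ∧ a.y7 = 0 ∧ a.x7 = 0 ∧ a.x8 = 0}
  one_mem' := by simp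
  mul_mem' {a b} ha hb := by
    simp only [Set.mem_setOf_eq] at *
    simp [mul_y1, my1, mul_x1, mx1, mul_x2, mx2, mul_y3, my3, mul_x4, mx4, mul_y5, my5, mul_x6, mx6, mul_y7, my7, mul_x7, mx7, mul_x8, mx8, ha, hb]
  inv_mem' {a} ha := by
    simp only [Set.mem_setOf_eq] at *
    simp [inv_y1, iy1, inv_x1, ix1, inv_x2, ix2, inv_y3, iy3, inv_x4, ix4, inv_y5, iy5, inv_x6, ix6, inv_y7, iy7, inv_x7, ix7, inv_x8, ix8, ha]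

@[simp] theorem mem_Z2 : a ∈ sZ2 ↔ a.y1 = 0 ∧ a.x1 = 0 ∧ a.x2 = 0 ∧ a.y3 = 0 ∧ a.x4 = 0 ∧ a.y5 = 0 ∧ a.x6 = 0 ∧ a.y7 = 0 ∧ a.x7 = 0 ∧ a.x8 = 0 := Iff.rfl

/-- the coordinates `x3 x4 x5` -/
def sZ3 : Subgroup (U K) where
  carrier := {a | a.y1 = 0 ∧ a.x1 = 0 ∧ a.x2 = 0 ∧ a.y3 = 0 ∧ a.y5 = 0 ∧ a.x6 = 0 ∧ a.y7 = 0 ∧ a.x7 = 0 ∧ a.x8 = 0}
  one_mem' := by simp
  mul_mem' {a b} ha hb := by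
    simp only [Set.mem_setOf_eq] at *
    simp [mul_y1, my1, mul_x1, mx1, mul_x2, mx2, mul_y3, my3, mul_y5, my5, mul_x6, mx6, mul_y7, my7, mul_x7, mx7, mul_x8, mx8, ha, hb]
  inv_mem' {a} ha := by
    simp only [Set.mem_setOf_eq] at *
    simp [inv_y1, iy1, inv_x1, ix1, inv_x2, ix2, inv_y3, iy3, inv_y5, iy5, inv_x6, ix6, inv_y7, iy7, inv_x7, ix7, inv_x8, ix8, ha]

@[simp] theorem mem_Z3 : a ∈ sZ3 ↔ a.y1 = 0 ∧ a.x1 = 0 ∧ a.x2 = 0 ∧ a.y3 = 0 ∧ a.y5 = 0 ∧ a.x6 = 0 ∧ a.y7 = 0 ∧ a.x7 = 0 ∧ a.x8 = 0 := Iff.rfl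

/-- the coordinates `x3 x4 x5 x6` -/
def sZ4 : Subgroup (U K) where
  carrier := {a | a.y1 = 0 ∧ a.x1 = 0 ∧ a.x2 = 0 ∧ a.y3 = 0 ∧ a.y5 = 0 ∧ a.y7 = 0 ∧ a.x7 = 0 ∧ a.x8 = 0}
  one_mem' := by simp
  mul_mem' {a b} ha hb := by
    simp only [Set.mem_setOf_eq] at *
    simp [mul_y1, my1, mul_x1, mx1, mul_x2, mx2, mul_y3, my3, mul_y5, my5, mul_y7, my7, mul_x7, mx7, mul_x8, mx8, ha, hb]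
  inv_mem' {a} ha := by
    simp only [Set.mem_setOf_eq] at *
    simp [inv_y1, iy1, inv_x1, ix1, inv_x2, ix2, inv_y3, iy3, inv_y5, iy5, inv_y7, iy7, inv_x7, ix7, inv_x8, ix8, ha]

@[simp] theorem mem_Z4 : a ∈ sZ4 ↔ a.y1 = 0 ∧ a.x1 = 0 ∧ a.x2 = 0 ∧ a.y3 = 0 ∧ a.y5 = 0 ∧ a.y7 = 0 ∧ a.x7 = 0 ∧ a.x8 = 0 := Iff.rfl

/-- the coordinates `x2 x3 x4 x5 x6 x7` -/
def sZ5 : Subgroup (U K) where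
  carrier := {a | a.y1 = 0 ∧ a.x1 = 0 ∧ a.y3 = 0 ∧ a.y5 = 0 ∧ a.y7 = 0 ∧ a.x8 = 0}
  one_mem' := by simp
  mul_mem' {a b} ha hb := by
    simp only [Set.mem_setOf_eq] at *
    simp [mul_y1, my1, mul_x1, mx1, mul_y3, my3, mul_y5, my5, mul_y7, my7, mul_x8, mx8, ha, hb]
  inv_mem' {a} ha := by
    simp only [Set.mem_setOf_eq] at *
    simp [inv_y1, iy1, inv_x1, ix1, inv_y3, iy3, inv_y5, iy5, inv_y7, iy7, inv_x8, ix8, ha]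

@[simp] theorem mem_Z5 : a ∈ sZ5 ↔ a.y1 = 0 ∧ a.x1 = 0 ∧ a.y3 = 0 ∧ a.y5 = 0 ∧ a.y7 = 0 ∧ a.x8 = 0 := Iff.rfl

/-- the coordinates `x2 y3 x3 x4 y5 x5 x6 x7` -/
def sZ6 : Subgroup (U K) where
  carrier := {a | a.y1 = 0 ∧ a.x1 = 0 ∧ a.y7 = 0 ∧ a.x8 = 0}
  one_mem' := by simp
  mul_mem' {a b} ha hb := by
    simp only [Set.mem_setOf_eq] at *
    simp [mul_y1, my1, mul_x1, mx1, mul_y7, my7, mul_x8, mx8, ha, hb]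
  inv_mem' {a} ha := by
    simp only [Set.mem_setOf_eq] at *
    simp [inv_y1, iy1, inv_x1, ix1, inv_y7, iy7, inv_x8, ix8, ha]

@[simp] theorem mem_Z6 : a ∈ sZ6 ↔ a.y1 = 0 ∧ a.x1 = 0 ∧ a.y7 = 0 ∧ a.x8 = 0 := Iff.rfl

/-- the coordinates `x1 x2 y3 x3 x4 y5 x5 x6 y7 x7` -/
def sZ7 : Subgroup (U K) where
  carrier := {a | a.y1 = 0 ∧ a.x8 = 0}
  one_mem' := by simp
  mul_mem' {a b} ha hb := by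
    simp only [Set.mem_setOf_eq] at *
    simp [mul_y1, my1, mul_x8, mx8, ha, hb]
  inv_mem' {a} ha := by
    simp only [Set.mem_setOf_eq] at *
    simp [inv_y1, iy1, inv_x8, ix8, ha]

@[simp] theorem mem_Z7 : a ∈ sZ7 ↔ a.y1 = 0 ∧ a.x8 = 0 := Iff.rfl

/-- the coordinates `x1 x2 y3 x3 x4 y5 x5 x6 x7` -/
def sW : Subgroup (U K) where
  carrier := {a | a.y1 = 0 ∧ a.y7 = 0 ∧ a.x8 = 0}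
  one_mem' := by simp
  mul_mem' {a b} ha hb := by
    simp only [Set.mem_setOf_eq] at *
    simp [mul_y1, my1, mul_y7, my7, mul_x8, mx8, ha, hb]
  inv_mem' {a} ha := by
    simp only [Set.mem_setOf_eq] at *
    simp [inv_y1, iy1, inv_y7, iy7, inv_x8, ix8, ha]

@[simp] theorem mem_W : a ∈ sW ↔ a.y1 = 0 ∧ a.y7 = 0 ∧ a.x8 = 0 := Iff.rfl

/-- the coordinates `x2 x3 x4 x5 x6` -/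
def sA : Subgroup (U K) where
  carrier := {a | a.y1 = 0 ∧ a.x1 = 0 ∧ a.y3 = 0 ∧ a.y5 = 0 ∧ a.y7 = 0 ∧ a.x7 = 0 ∧ a.x8 = 0}
  one_mem' := by simp
  mul_mem' {a b} ha hb := by
    simp only [Set.mem_setOf_eq] at *
    simp [mul_y1, my1, mul_x1, mx1, mul_y3, my3, mul_y5, my5, mul_y7, my7, mul_x7, mx7, mul_x8, mx8, ha, hb]
  inv_mem' {a} ha := by
    simp only [Set.mem_setOf_eq] at *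
    simp [inv_y1, iy1, inv_x1, ix1, inv_y3, iy3, inv_y5, iy5, inv_y7, iy7, inv_x7, ix7, inv_x8, ix8, ha]

@[simp] theorem mem_A : a ∈ sA ↔ a.y1 = 0 ∧ a.x1 = 0 ∧ a.y3 = 0 ∧ a.y5 = 0 ∧ a.y7 = 0 ∧ a.x7 = 0 ∧ a.x8 = 0 := Iff.rfl

/-- the coordinates `x3 x4 x5 x6 x7` -/
def sV : Subgroup (U K) where
  carrier := {a | a.y1 = 0 ∧ a.x1 = 0 ∧ a.x2 = 0 ∧ a.y3 = 0 ∧ a.y5 = 0 ∧ a.y7 = 0 ∧ a.x8 = 0}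
  one_mem' := by simp
  mul_mem' {a b} ha hb := by
    simp only [Set.mem_setOf_eq] at *
    simp [mul_y1, my1, mul_x1, mx1, mul_x2, mx2, mul_y3, my3, mul_y5, my5, mul_y7, my7, mul_x8, mx8, ha, hb]
  inv_mem' {a} ha := by
    simp only [Set.mem_setOf_eq] at *
    simp [inv_y1, iy1, inv_x1, ix1, inv_x2, ix2, inv_y3, iy3, inv_y5, iy5, inv_y7, iy7, inv_x8, ix8, ha]

@[simp] theorem mem_V : a ∈ sV ↔ a.y1 = 0 ∧ a.x1 = 0 ∧ a.x2 = 0 ∧ a.y3 = 0 ∧ a.y5 = 0 ∧ a.y7 = 0 ∧ a.x8 = 0 := Iff.rfl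

/-- the coordinates `x1 x2 x3 x4 x5` -/
def sV1 : Subgroup (U K) where
  carrier := {a | a.y1 = 0 ∧ a.y3 = 0 ∧ a.y5 = 0 ∧ a.x6 = 0 ∧ a.y7 = 0 ∧ a.x7 = 0 ∧ a.x8 = 0}
  one_mem' := by simp
  mul_mem' {a b} ha hb := by
    simp only [Set.mem_setOf_eq] at *
    simp [mul_y1, my1, mul_y3, my3, mul_y5, my5, mul_x6, mx6, mul_y7, my7, mul_x7, mx7, mul_x8, mx8, ha, hb]
  inv_mem' {a} ha := by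
    simp only [Set.mem_setOf_eq] at *
    simp [inv_y1, iy1, inv_y3, iy3, inv_y5, iy5, inv_x6, ix6, inv_y7, iy7, inv_x7, ix7, inv_x8, ix8, ha]

@[simp] theorem mem_V1 : a ∈ sV1 ↔ a.y1 = 0 ∧ a.y3 = 0 ∧ a.y5 = 0 ∧ a.x6 = 0 ∧ a.y7 = 0 ∧ a.x7 = 0 ∧ a.x8 = 0 := Iff.rfl

/-- the coordinates `x3 x4 y5 x5 x6 x7` -/
def sC : Subgroup (U K) where
  carrier := {a | a.y1 = 0 ∧ a.x1 = 0 ∧ a.x2 = 0 ∧ a.y3 = 0 ∧ a.y7 = 0 ∧ a.x8 = 0}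
  one_mem' := by simp
  mul_mem' {a b} ha hb := by
    simp only [Set.mem_setOf_eq] at *
    simp [mul_y1, my1, mul_x1, mx1, mul_x2, mx2, mul_y3, my3, mul_y7, my7, mul_x8, mx8, ha, hb]
  inv_mem' {a} ha := by
    simp only [Set.mem_setOf_eq] at *
    simp [inv_y1, iy1, inv_x1, ix1, inv_x2, ix2, inv_y3, iy3, inv_y7, iy7, inv_x8, ix8, ha]

@[simp] theorem mem_C : a ∈ sC ↔ a.y1 = 0 ∧ a.x1 = 0 ∧ a.x2 = 0 ∧ a.y3 = 0 ∧ a.y7 = 0 ∧ a.x8 = 0 := Iff.rfl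

/-- the coordinates `x1 x2 y3 x3 x4 x5` -/
def sC1 : Subgroup (U K) where
  carrier := {a | a.y1 = 0 ∧ a.y5 = 0 ∧ a.x6 = 0 ∧ a.y7 = 0 ∧ a.x7 = 0 ∧ a.x8 = 0}
  one_mem' := by simp
  mul_mem' {a b} ha hb := by
    simp only [Set.mem_setOf_eq] at *
    simp [mul_y1, my1, mul_y5, my5, mul_x6, mx6, mul_y7, my7, mul_x7, mx7, mul_x8, mx8, ha, hb]
  inv_mem' {a} ha := by
    simp only [Set.mem_setOf_eq] at *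
    simp [inv_y1, iy1, inv_y5, iy5, inv_x6, ix6, inv_y7, iy7, inv_x7, ix7, inv_x8, ix8, ha]

@[simp] theorem mem_C1 : a ∈ sC1 ↔ a.y1 = 0 ∧ a.y5 = 0 ∧ a.x6 = 0 ∧ a.y7 = 0 ∧ a.x7 = 0 ∧ a.x8 = 0 := Iff.rfl

/-- the coordinates `y1 x1 x2 y3 x3 x4 y5 x5 x6` -/
def sD : Subgroup (U K) where
  carrier := {a | a.y7 = 0 ∧ a.x7 = 0 ∧ a.x8 = 0}
  one_mem' := by simp
  mul_mem' {a b} ha hb := by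
    simp only [Set.mem_setOf_eq] at *
    simp [mul_y7, my7, mul_x7, mx7, mul_x8, mx8, ha, hb]
  inv_mem' {a} ha := by
    simp only [Set.mem_setOf_eq] at *
    simp [inv_y7, iy7, inv_x7, ix7, inv_x8, ix8, ha]

@[simp] theorem mem_D : a ∈ sD ↔ a.y7 = 0 ∧ a.x7 = 0 ∧ a.x8 = 0 := Iff.rfl

/-- the coordinates `x2 y3 x3 x4 y5 x5 x6 y7 x7` -/
def sR : Subgroup (U K) where
  carrier := {a | a.y1 = 0 ∧ a.x1 = 0 ∧ a.x8 = 0}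
  one_mem' := by simp
  mul_mem' {a b} ha hb := by
    simp only [Set.mem_setOf_eq] at *
    simp [mul_y1, my1, mul_x1, mx1, mul_x8, mx8, ha, hb]
  inv_mem' {a} ha := by
    simp only [Set.mem_setOf_eq] at *
    simp [inv_y1, iy1, inv_x1, ix1, inv_x8, ix8, ha]

@[simp] theorem mem_R : a ∈ sR ↔ a.y1 = 0 ∧ a.x1 = 0 ∧ a.x8 = 0 := Iff.rfl

/-- the coordinates `x3 x4 x5 x6 y7 x7 x8` -/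
def sD7 : Subgroup (U K) where
  carrier := {a | a.y1 = 0 ∧ a.x1 = 0 ∧ a.x2 = 0 ∧ a.y3 = 0 ∧ a.y5 = 0}
  one_mem' := by simp
  mul_mem' {a b} ha hb := by
    simp only [Set.mem_setOf_eq] at *
    simp [mul_y1, my1, mul_x1, mx1, mul_x2, mx2, mul_y3, my3, mul_y5, my5, ha, hb]
  inv_mem' {a} ha := by
    simp only [Set.mem_setOf_eq] at *
    simp [inv_y1, iy1, inv_x1, ix1, inv_x2, ix2, inv_y3, iy3, inv_y5, iy5, ha]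

@[simp] theorem mem_D7 : a ∈ sD7 ↔ a.y1 = 0 ∧ a.x1 = 0 ∧ a.x2 = 0 ∧ a.y3 = 0 ∧ a.y5 = 0 := Iff.rfl

/-- the coordinates `x1 x2 y3 x3 x4 y5 x5 x6 y7 x7 x8` -/
def sP : Subgroup (U K) where
  carrier := {a | a.y1 = 0}
  one_mem' := by simp
  mul_mem' {a b} ha hb := by
    simp only [Set.mem_setOf_eq] at *
    simp [mul_y1, my1, ha, hb]
  inv_mem' {a} ha := by
    simp only [Set.mem_setOf_eq] at *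
    simp [inv_y1, iy1, ha]

@[simp] theorem mem_P : a ∈ sP ↔ a.y1 = 0 := Iff.rfl

/-- the coordinates `x3` -/
def sT3 : Subgroup (U K) where
  carrier := {a | a.y1 = 0 ∧ a.x1 = 0 ∧ a.x2 = 0 ∧ a.y3 = 0 ∧ a.x4 = 0 ∧ a.y5 = 0 ∧ a.x5 = 0 ∧ a.x6 = 0 ∧ a.y7 = 0 ∧ a.x7 = 0 ∧ a.x8 = 0}
  one_mem' := by simp
  mul_mem' {a b} ha hb := by
    simp only [Set.mem_setOf_eq] at *
    simp [mul_y1, my1, mul_x1, mx1, mul_x2, mx2, mul_y3, my3, mul_x4, mx4, mul_y5, my5, mul_x5, mx5, mul_x6, mx6, mul_y7, my7, mul_x7, mx7, mul_x8, mx8, ha, hb]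
  inv_mem' {a} ha := by
    simp only [Set.mem_setOf_eq] at *
    simp [inv_y1, iy1, inv_x1, ix1, inv_x2, ix2, inv_y3, iy3, inv_x4, ix4, inv_y5, iy5, inv_x5, ix5, inv_x6, ix6, inv_y7, iy7, inv_x7, ix7, inv_x8, ix8, ha]

@[simp] theorem mem_T3 : a ∈ sT3 ↔ a.y1 = 0 ∧ a.x1 = 0 ∧ a.x2 = 0 ∧ a.y3 = 0 ∧ a.x4 = 0 ∧ a.y5 = 0 ∧ a.x5 = 0 ∧ a.x6 = 0 ∧ a.y7 = 0 ∧ a.x7 = 0 ∧ a.x8 = 0 := Iff.rfl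

/-- the coordinates `x5 x6 x7` -/
def sN7 : Subgroup (U K) where
  carrier := {a | a.y1 = 0 ∧ a.x1 = 0 ∧ a.x2 = 0 ∧ a.y3 = 0 ∧ a.x3 = 0 ∧ a.x4 = 0 ∧ a.y5 = 0 ∧ a.y7 = 0 ∧ a.x8 = 0}
  one_mem' := by simp
  mul_mem' {a b} ha hb := by
    simp only [Set.mem_setOf_eq] at *
    simp [mul_y1, my1, mul_x1, mx1, mul_x2, mx2, mul_y3, my3, mul_x3, mx3, mul_x4, mx4, mul_y5, my5, mul_y7, my7, mul_x8, mx8, ha, hb]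
  inv_mem' {a} ha := by
    simp only [Set.mem_setOf_eq] at *
    simp [inv_y1, iy1, inv_x1, ix1, inv_x2, ix2, inv_y3, iy3, inv_x3, ix3, inv_x4, ix4, inv_y5, iy5, inv_y7, iy7, inv_x8, ix8, ha]

@[simp] theorem mem_N7 : a ∈ sN7 ↔ a.y1 = 0 ∧ a.x1 = 0 ∧ a.x2 = 0 ∧ a.y3 = 0 ∧ a.x3 = 0 ∧ a.x4 = 0 ∧ a.y5 = 0 ∧ a.y7 = 0 ∧ a.x8 = 0 := Iff.rfl

/-- the coordinates `x3 y5 x5` -/
def sB0 : Subgroup (U K) where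
  carrier := {a | a.y1 = 0 ∧ a.x1 = 0 ∧ a.x2 = 0 ∧ a.y3 = 0 ∧ a.x4 = 0 ∧ a.x6 = 0 ∧ a.y7 = 0 ∧ a.x7 = 0 ∧ a.x8 = 0}
  one_mem' := by simp
  mul_mem' {a b} ha hb := by
    simp only [Set.mem_setOf_eq] at *
    simp [mul_y1, my1, mul_x1, mx1, mul_x2, mx2, mul_y3, my3, mul_x4, mx4, mul_x6, mx6, mul_y7, my7, mul_x7, mx7, mul_x8, mx8, ha, hb]
  inv_mem' {a} ha := by
    simp only [Set.mem_setOf_eq] at *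
    simp [inv_y1, iy1, inv_x1, ix1, inv_x2, ix2, inv_y3, iy3, inv_x4, ix4, inv_x6, ix6, inv_y7, iy7, inv_x7, ix7, inv_x8, ix8, ha]

@[simp] theorem mem_B0 : a ∈ sB0 ↔ a.y1 = 0 ∧ a.x1 = 0 ∧ a.x2 = 0 ∧ a.y3 = 0 ∧ a.x4 = 0 ∧ a.x6 = 0 ∧ a.y7 = 0 ∧ a.x7 = 0 ∧ a.x8 = 0 := Iff.rfl

/-- the coordinates `x2 x3 x4 y5 x5 x6 x7` -/
def sB1 : Subgroup (U K) where
  carrier := {a | a.y1 = 0 ∧ a.x1 = 0 ∧ a.y3 = 0 ∧ a.y7 = 0 ∧ a.x8 = 0}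
  one_mem' := by simp
  mul_mem' {a b} ha hb := by
    simp only [Set.mem_setOf_eq] at *
    simp [mul_y1, my1, mul_x1, mx1, mul_y3, my3, mul_y7, my7, mul_x8, mx8, ha, hb]
  inv_mem' {a} ha := by
    simp only [Set.mem_setOf_eq] at *
    simp [inv_y1, iy1, inv_x1, ix1, inv_y3, iy3, inv_y7, iy7, inv_x8, ix8, ha]

@[simp] theorem mem_B1 : a ∈ sB1 ↔ a.y1 = 0 ∧ a.x1 = 0 ∧ a.y3 = 0 ∧ a.y7 = 0 ∧ a.x8 = 0 := Iff.rfl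

/-- the coordinates `x1 x2 y3 x3 x4 x5 x6` -/
def sB2 : Subgroup (U K) where
  carrier := {a | a.y1 = 0 ∧ a.y5 = 0 ∧ a.y7 = 0 ∧ a.x7 = 0 ∧ a.x8 = 0}
  one_mem' := by simp
  mul_mem' {a b} ha hb := by
    simp only [Set.mem_setOf_eq] at *
    simp [mul_y1, my1, mul_y5, my5, mul_y7, my7, mul_x7, mx7, mul_x8, mx8, ha, hb]
  inv_mem' {a} ha := by
    simp only [Set.mem_setOf_eq] at *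
    simp [inv_y1, iy1, inv_y5, iy5, inv_y7, iy7, inv_x7, ix7, inv_x8, ix8, ha]

@[simp] theorem mem_B2 : a ∈ sB2 ↔ a.y1 = 0 ∧ a.y5 = 0 ∧ a.y7 = 0 ∧ a.x7 = 0 ∧ a.x8 = 0 := Iff.rfl

/-- the coordinates `x3 x4 x5 x6 x7 x8` -/
def sV8 : Subgroup (U K) where
  carrier := {a | a.y1 = 0 ∧ a.x1 = 0 ∧ a.x2 = 0 ∧ a.y3 = 0 ∧ a.y5 = 0 ∧ a.y7 = 0}
  one_mem' := by simp
  mul_mem' {a b} ha hb := by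
    simp only [Set.mem_setOf_eq] at *
    simp [mul_y1, my1, mul_x1, mx1, mul_x2, mx2, mul_y3, my3, mul_y5, my5, mul_y7, my7, ha, hb]
  inv_mem' {a} ha := by
    simp only [Set.mem_setOf_eq] at *
    simp [inv_y1, iy1, inv_x1, ix1, inv_x2, ix2, inv_y3, iy3, inv_y5, iy5, inv_y7, iy7, ha]

@[simp] theorem mem_V8 : a ∈ sV8 ↔ a.y1 = 0 ∧ a.x1 = 0 ∧ a.x2 = 0 ∧ a.y3 = 0 ∧ a.y5 = 0 ∧ a.y7 = 0 := Iff.rfl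

/-- the coordinates `x3 x4 y5 x5 x6` -/
def sB3 : Subgroup (U K) where
  carrier := {a | a.y1 = 0 ∧ a.x1 = 0 ∧ a.x2 = 0 ∧ a.y3 = 0 ∧ a.y7 = 0 ∧ a.x7 = 0 ∧ a.x8 = 0}
  one_mem' := by simp
  mul_mem' {a b} ha hb := by
    simp only [Set.mem_setOf_eq] at *
    simp [mul_y1, my1, mul_x1, mx1, mul_x2, mx2, mul_y3, my3, mul_y7, my7, mul_x7, mx7, mul_x8, mx8, ha, hb]
  inv_mem' {a} ha := by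
    simp only [Set.mem_setOf_eq] at *
    simp [inv_y1, iy1, inv_x1, ix1, inv_x2, ix2, inv_y3, iy3, inv_y7, iy7, inv_x7, ix7, inv_x8, ix8, ha]

@[simp] theorem mem_B3 : a ∈ sB3 ↔ a.y1 = 0 ∧ a.x1 = 0 ∧ a.x2 = 0 ∧ a.y3 = 0 ∧ a.y7 = 0 ∧ a.x7 = 0 ∧ a.x8 = 0 := Iff.rfl

/-- the coordinates `x2 y3 x3 x4 x5` -/
def sB4 : Subgroup (U K) where
  carrier := {a | a.y1 = 0 ∧ a.x1 = 0 ∧ a.y5 = 0 ∧ a.x6 = 0 ∧ a.y7 = 0 ∧ a.x7 = 0 ∧ a.x8 = 0}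
  one_mem' := by simp
  mul_mem' {a b} ha hb := by
    simp only [Set.mem_setOf_eq] at *
    simp [mul_y1, my1, mul_x1, mx1, mul_y5, my5, mul_x6, mx6, mul_y7, my7, mul_x7, mx7, mul_x8, mx8, ha, hb]
  inv_mem' {a} ha := by
    simp only [Set.mem_setOf_eq] at *
    simp [inv_y1, iy1, inv_x1, ix1, inv_y5, iy5, inv_x6, ix6, inv_y7, iy7, inv_x7, ix7, inv_x8, ix8, ha]

@[simp] theorem mem_B4 : a ∈ sB4 ↔ a.y1 = 0 ∧ a.x1 = 0 ∧ a.y5 = 0 ∧ a.x6 = 0 ∧ a.y7 = 0 ∧ a.x7 = 0 ∧ a.x8 = 0 := Iff.rfl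

theorem Z1_Z2 (h : a ∈ sZ1) : a ∈ sZ2 := ⟨h.1, h.2.1, h.2.2.1, h.2.2.2.1, h.2.2.2.2.2.1, h.2.2.2.2.2.2.1, h.2.2.2.2.2.2.2.1, h.2.2.2.2.2.2.2.2.1, h.2.2.2.2.2.2.2.2.2.1, h.2.2.2.2.2.2.2.2.2.2⟩
theorem Z1_Z3 (h : a ∈ sZ1) : a ∈ sZ3 := ⟨h.1, h.2.1, h.2.2.1, h.2.2.2.1, h.2.2.2.2.2.2.1, h.2.2.2.2.2.2.2.1, h.2.2.2.2.2.2.2.2.1, h.2.2.2.2.2.2.2.2.2.1, h.2.2.2.2.2.2.2.2.2.2⟩
theorem Z1_Z4 (h : a ∈ sZ1) : a ∈ sZ4 := ⟨h.1, h.2.1, h.2.2.1, h.2.2.2.1, h.2.2.2.2.2.2.1, h.2.2.2.2.2.2.2.2.1, h.2.2.2.2.2.2.2.2.2.1, h.2.2.2.2.2.2.2.2.2.2⟩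
theorem Z1_Z5 (h : a ∈ sZ1) : a ∈ sZ5 := ⟨h.1, h.2.1, h.2.2.2.1, h.2.2.2.2.2.2.1, h.2.2.2.2.2.2.2.2.1, h.2.2.2.2.2.2.2.2.2.2⟩
theorem Z1_Z6 (h : a ∈ sZ1) : a ∈ sZ6 := ⟨h.1, h.2.1, h.2.2.2.2.2.2.2.2.1, h.2.2.2.2.2.2.2.2.2.2⟩
theorem Z1_Z7 (h : a ∈ sZ1) : a ∈ sZ7 := ⟨h.1, h.2.2.2.2.2.2.2.2.2.2⟩
theorem Z1_W (h : a ∈ sZ1) : a ∈ sW := ⟨h.1, h.2.2.2.2.2.2.2.2.1, h.2.2.2.2.2.2.2.2.2.2⟩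
theorem Z1_A (h : a ∈ sZ1) : a ∈ sA := ⟨h.1, h.2.1, h.2.2.2.1, h.2.2.2.2.2.2.1, h.2.2.2.2.2.2.2.2.1, h.2.2.2.2.2.2.2.2.2.1, h.2.2.2.2.2.2.2.2.2.2⟩
theorem Z1_V (h : a ∈ sZ1) : a ∈ sV := ⟨h.1, h.2.1, h.2.2.1, h.2.2.2.1, h.2.2.2.2.2.2.1, h.2.2.2.2.2.2.2.2.1, h.2.2.2.2.2.2.2.2.2.2⟩
theorem Z1_V1 (h : a ∈ sZ1) : a ∈ sV1 := ⟨h.1, h.2.2.2.1, h.2.2.2.2.2.2.1, h.2.2.2.2.2.2.2.1, h.2.2.2.2.2.2.2.2.1, h.2.2.2.2.2.2.2.2.2.1, h.2.2.2.2.2.2.2.2.2.2⟩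
theorem Z1_C (h : a ∈ sZ1) : a ∈ sC := ⟨h.1, h.2.1, h.2.2.1, h.2.2.2.1, h.2.2.2.2.2.2.2.2.1, h.2.2.2.2.2.2.2.2.2.2⟩
theorem Z1_C1 (h : a ∈ sZ1) : a ∈ sC1 := ⟨h.1, h.2.2.2.2.2.2.1, h.2.2.2.2.2.2.2.1, h.2.2.2.2.2.2.2.2.1, h.2.2.2.2.2.2.2.2.2.1, h.2.2.2.2.2.2.2.2.2.2⟩
theorem Z1_D (h : a ∈ sZ1) : a ∈ sD := ⟨h.2.2.2.2.2.2.2.2.1, h.2.2.2.2.2.2.2.2.2.1, h.2.2.2.2.2.2.2.2.2.2⟩
theorem Z1_R (h : a ∈ sZ1) : a ∈ sR := ⟨h.1, h.2.1, h.2.2.2.2.2.2.2.2.2.2⟩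
theorem Z1_D7 (h : a ∈ sZ1) : a ∈ sD7 := ⟨h.1, h.2.1, h.2.2.1, h.2.2.2.1, h.2.2.2.2.2.2.1⟩
theorem Z1_P (h : a ∈ sZ1) : a ∈ sP := h.1
theorem Z1_N7 (h : a ∈ sZ1) : a ∈ sN7 := ⟨h.1, h.2.1, h.2.2.1, h.2.2.2.1, h.2.2.2.2.1, h.2.2.2.2.2.1, h.2.2.2.2.2.2.1, h.2.2.2.2.2.2.2.2.1, h.2.2.2.2.2.2.2.2.2.2⟩
theorem Z1_B0 (h : a ∈ sZ1) : a ∈ sB0 := ⟨h.1, h.2.1, h.2.2.1, h.2.2.2.1, h.2.2.2.2.2.1, h.2.2.2.2.2.2.2.1, h.2.2.2.2.2.2.2.2.1, h.2.2.2.2.2.2.2.2.2.1, h.2.2.2.2.2.2.2.2.2.2⟩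
theorem Z1_B1 (h : a ∈ sZ1) : a ∈ sB1 := ⟨h.1, h.2.1, h.2.2.2.1, h.2.2.2.2.2.2.2.2.1, h.2.2.2.2.2.2.2.2.2.2⟩
theorem Z1_B2 (h : a ∈ sZ1) : a ∈ sB2 := ⟨h.1, h.2.2.2.2.2.2.1, h.2.2.2.2.2.2.2.2.1, h.2.2.2.2.2.2.2.2.2.1, h.2.2.2.2.2.2.2.2.2.2⟩
theorem Z1_V8 (h : a ∈ sZ1) : a ∈ sV8 := ⟨h.1, h.2.1, h.2.2.1, h.2.2.2.1, h.2.2.2.2.2.2.1, h.2.2.2.2.2.2.2.2.1⟩
theorem Z1_B3 (h : a ∈ sZ1) : a ∈ sB3 := ⟨h.1, h.2.1, h.2.2.1, h.2.2.2.1, h.2.2.2.2.2.2.2.2.1, h.2.2.2.2.2.2.2.2.2.1, h.2.2.2.2.2.2.2.2.2.2⟩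
theorem Z1_B4 (h : a ∈ sZ1) : a ∈ sB4 := ⟨h.1, h.2.1, h.2.2.2.2.2.2.1, h.2.2.2.2.2.2.2.1, h.2.2.2.2.2.2.2.2.1, h.2.2.2.2.2.2.2.2.2.1, h.2.2.2.2.2.2.2.2.2.2⟩
theorem Z1_L (h : a ∈ sZ1) : a ∈ QL := h.2.2.2.2.2.2.2.2.2.2
theorem Z1_Q (h : a ∈ sZ1) : a ∈ QS := ⟨h.1, h.2.1⟩
theorem Z2_Z3 (h : a ∈ sZ2) : a ∈ sZ3 := ⟨h.1, h.2.1, h.2.2.1, h.2.2.2.1, h.2.2.2.2.2.1, h.2.2.2.2.2.2.1, h.2.2.2.2.2.2.2.1, h.2.2.2.2.2.2.2.2.1, h.2.2.2.2.2.2.2.2.2⟩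
theorem Z2_Z4 (h : a ∈ sZ2) : a ∈ sZ4 := ⟨h.1, h.2.1, h.2.2.1, h.2.2.2.1, h.2.2.2.2.2.1, h.2.2.2.2.2.2.2.1, h.2.2.2.2.2.2.2.2.1, h.2.2.2.2.2.2.2.2.2⟩
theorem Z2_Z5 (h : a ∈ sZ2) : a ∈ sZ5 := ⟨h.1, h.2.1, h.2.2.2.1, h.2.2.2.2.2.1, h.2.2.2.2.2.2.2.1, h.2.2.2.2.2.2.2.2.2⟩
theorem Z2_Z6 (h : a ∈ sZ2) : a ∈ sZ6 := ⟨h.1, h.2.1, h.2.2.2.2.2.2.2.1, h.2.2.2.2.2.2.2.2.2⟩
theorem Z2_Z7 (h : a ∈ sZ2) : a ∈ sZ7 := ⟨h.1, h.2.2.2.2.2.2.2.2.2⟩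
theorem Z2_W (h : a ∈ sZ2) : a ∈ sW := ⟨h.1, h.2.2.2.2.2.2.2.1, h.2.2.2.2.2.2.2.2.2⟩
theorem Z2_A (h : a ∈ sZ2) : a ∈ sA := ⟨h.1, h.2.1, h.2.2.2.1, h.2.2.2.2.2.1, h.2.2.2.2.2.2.2.1, h.2.2.2.2.2.2.2.2.1, h.2.2.2.2.2.2.2.2.2⟩
theorem Z2_V (h : a ∈ sZ2) : a ∈ sV := ⟨h.1, h.2.1, h.2.2.1, h.2.2.2.1, h.2.2.2.2.2.1, h.2.2.2.2.2.2.2.1, h.2.2.2.2.2.2.2.2.2⟩
theorem Z2_V1 (h : a ∈ sZ2) : a ∈ sV1 := ⟨h.1, h.2.2.2.1, h.2.2.2.2.2.1, h.2.2.2.2.2.2.1, h.2.2.2.2.2.2.2.1, h.2.2.2.2.2.2.2.2.1, h.2.2.2.2.2.2.2.2.2⟩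
theorem Z2_C (h : a ∈ sZ2) : a ∈ sC := ⟨h.1, h.2.1, h.2.2.1, h.2.2.2.1, h.2.2.2.2.2.2.2.1, h.2.2.2.2.2.2.2.2.2⟩
theorem Z2_C1 (h : a ∈ sZ2) : a ∈ sC1 := ⟨h.1, h.2.2.2.2.2.1, h.2.2.2.2.2.2.1, h.2.2.2.2.2.2.2.1, h.2.2.2.2.2.2.2.2.1, h.2.2.2.2.2.2.2.2.2⟩
theorem Z2_D (h : a ∈ sZ2) : a ∈ sD := ⟨h.2.2.2.2.2.2.2.1, h.2.2.2.2.2.2.2.2.1, h.2.2.2.2.2.2.2.2.2⟩
theorem Z2_R (h : a ∈ sZ2) : a ∈ sR := ⟨h.1, h.2.1, h.2.2.2.2.2.2.2.2.2⟩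
theorem Z2_D7 (h : a ∈ sZ2) : a ∈ sD7 := ⟨h.1, h.2.1, h.2.2.1, h.2.2.2.1, h.2.2.2.2.2.1⟩
theorem Z2_P (h : a ∈ sZ2) : a ∈ sP := h.1
theorem Z2_B0 (h : a ∈ sZ2) : a ∈ sB0 := ⟨h.1, h.2.1, h.2.2.1, h.2.2.2.1, h.2.2.2.2.1, h.2.2.2.2.2.2.1, h.2.2.2.2.2.2.2.1, h.2.2.2.2.2.2.2.2.1, h.2.2.2.2.2.2.2.2.2⟩
theorem Z2_B1 (h : a ∈ sZ2) : a ∈ sB1 := ⟨h.1, h.2.1, h.2.2.2.1, h.2.2.2.2.2.2.2.1, h.2.2.2.2.2.2.2.2.2⟩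
theorem Z2_B2 (h : a ∈ sZ2) : a ∈ sB2 := ⟨h.1, h.2.2.2.2.2.1, h.2.2.2.2.2.2.2.1, h.2.2.2.2.2.2.2.2.1, h.2.2.2.2.2.2.2.2.2⟩
theorem Z2_V8 (h : a ∈ sZ2) : a ∈ sV8 := ⟨h.1, h.2.1, h.2.2.1, h.2.2.2.1, h.2.2.2.2.2.1, h.2.2.2.2.2.2.2.1⟩
theorem Z2_B3 (h : a ∈ sZ2) : a ∈ sB3 := ⟨h.1, h.2.1, h.2.2.1, h.2.2.2.1, h.2.2.2.2.2.2.2.1, h.2.2.2.2.2.2.2.2.1, h.2.2.2.2.2.2.2.2.2⟩
theorem Z2_B4 (h : a ∈ sZ2) : a ∈ sB4 := ⟨h.1, h.2.1, h.2.2.2.2.2.1, h.2.2.2.2.2.2.1, h.2.2.2.2.2.2.2.1, h.2.2.2.2.2.2.2.2.1, h.2.2.2.2.2.2.2.2.2⟩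
theorem Z2_L (h : a ∈ sZ2) : a ∈ QL := h.2.2.2.2.2.2.2.2.2
theorem Z2_Q (h : a ∈ sZ2) : a ∈ QS := ⟨h.1, h.2.1⟩
theorem Z3_Z4 (h : a ∈ sZ3) : a ∈ sZ4 := ⟨h.1, h.2.1, h.2.2.1, h.2.2.2.1, h.2.2.2.2.1, h.2.2.2.2.2.2.1, h.2.2.2.2.2.2.2.1, h.2.2.2.2.2.2.2.2⟩
theorem Z3_Z5 (h : a ∈ sZ3) : a ∈ sZ5 := ⟨h.1, h.2.1, h.2.2.2.1, h.2.2.2.2.1, h.2.2.2.2.2.2.1, h.2.2.2.2.2.2.2.2⟩
theorem Z3_Z6 (h : a ∈ sZ3) : a ∈ sZ6 := ⟨h.1, h.2.1, h.2.2.2.2.2.2.1, h.2.2.2.2.2.2.2.2⟩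
theorem Z3_Z7 (h : a ∈ sZ3) : a ∈ sZ7 := ⟨h.1, h.2.2.2.2.2.2.2.2⟩
theorem Z3_W (h : a ∈ sZ3) : a ∈ sW := ⟨h.1, h.2.2.2.2.2.2.1, h.2.2.2.2.2.2.2.2⟩
theorem Z3_A (h : a ∈ sZ3) : a ∈ sA := ⟨h.1, h.2.1, h.2.2.2.1, h.2.2.2.2.1, h.2.2.2.2.2.2.1, h.2.2.2.2.2.2.2.1, h.2.2.2.2.2.2.2.2⟩
theorem Z3_V (h : a ∈ sZ3) : a ∈ sV := ⟨h.1, h.2.1, h.2.2.1, h.2.2.2.1, h.2.2.2.2.1, h.2.2.2.2.2.2.1, h.2.2.2.2.2.2.2.2⟩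
theorem Z3_V1 (h : a ∈ sZ3) : a ∈ sV1 := ⟨h.1, h.2.2.2.1, h.2.2.2.2.1, h.2.2.2.2.2.1, h.2.2.2.2.2.2.1, h.2.2.2.2.2.2.2.1, h.2.2.2.2.2.2.2.2⟩
theorem Z3_C (h : a ∈ sZ3) : a ∈ sC := ⟨h.1, h.2.1, h.2.2.1, h.2.2.2.1, h.2.2.2.2.2.2.1, h.2.2.2.2.2.2.2.2⟩
theorem Z3_C1 (h : a ∈ sZ3) : a ∈ sC1 := ⟨h.1, h.2.2.2.2.1, h.2.2.2.2.2.1, h.2.2.2.2.2.2.1, h.2.2.2.2.2.2.2.1, h.2.2.2.2.2.2.2.2⟩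
theorem Z3_D (h : a ∈ sZ3) : a ∈ sD := ⟨h.2.2.2.2.2.2.1, h.2.2.2.2.2.2.2.1, h.2.2.2.2.2.2.2.2⟩
theorem Z3_R (h : a ∈ sZ3) : a ∈ sR := ⟨h.1, h.2.1, h.2.2.2.2.2.2.2.2⟩
theorem Z3_D7 (h : a ∈ sZ3) : a ∈ sD7 := ⟨h.1, h.2.1, h.2.2.1, h.2.2.2.1, h.2.2.2.2.1⟩
theorem Z3_P (h : a ∈ sZ3) : a ∈ sP := h.1
theorem Z3_B1 (h : a ∈ sZ3) : a ∈ sB1 := ⟨h.1, h.2.1, h.2.2.2.1, h.2.2.2.2.2.2.1, h.2.2.2.2.2.2.2.2⟩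
theorem Z3_B2 (h : a ∈ sZ3) : a ∈ sB2 := ⟨h.1, h.2.2.2.2.1, h.2.2.2.2.2.2.1, h.2.2.2.2.2.2.2.1, h.2.2.2.2.2.2.2.2⟩
theorem Z3_V8 (h : a ∈ sZ3) : a ∈ sV8 := ⟨h.1, h.2.1, h.2.2.1, h.2.2.2.1, h.2.2.2.2.1, h.2.2.2.2.2.2.1⟩
theorem Z3_B3 (h : a ∈ sZ3) : a ∈ sB3 := ⟨h.1, h.2.1, h.2.2.1, h.2.2.2.1, h.2.2.2.2.2.2.1, h.2.2.2.2.2.2.2.1, h.2.2.2.2.2.2.2.2⟩
theorem Z3_B4 (h : a ∈ sZ3) : a ∈ sB4 := ⟨h.1, h.2.1, h.2.2.2.2.1, h.2.2.2.2.2.1, h.2.2.2.2.2.2.1, h.2.2.2.2.2.2.2.1, h.2.2.2.2.2.2.2.2⟩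
theorem Z3_L (h : a ∈ sZ3) : a ∈ QL := h.2.2.2.2.2.2.2.2
theorem Z3_Q (h : a ∈ sZ3) : a ∈ QS := ⟨h.1, h.2.1⟩
theorem Z4_Z5 (h : a ∈ sZ4) : a ∈ sZ5 := ⟨h.1, h.2.1, h.2.2.2.1, h.2.2.2.2.1, h.2.2.2.2.2.1, h.2.2.2.2.2.2.2⟩
theorem Z4_Z6 (h : a ∈ sZ4) : a ∈ sZ6 := ⟨h.1, h.2.1, h.2.2.2.2.2.1, h.2.2.2.2.2.2.2⟩
theorem Z4_Z7 (h : a ∈ sZ4) : a ∈ sZ7 := ⟨h.1, h.2.2.2.2.2.2.2⟩
theorem Z4_W (h : a ∈ sZ4) : a ∈ sW := ⟨h.1, h.2.2.2.2.2.1, h.2.2.2.2.2.2.2⟩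
theorem Z4_A (h : a ∈ sZ4) : a ∈ sA := ⟨h.1, h.2.1, h.2.2.2.1, h.2.2.2.2.1, h.2.2.2.2.2.1, h.2.2.2.2.2.2.1, h.2.2.2.2.2.2.2⟩
theorem Z4_V (h : a ∈ sZ4) : a ∈ sV := ⟨h.1, h.2.1, h.2.2.1, h.2.2.2.1, h.2.2.2.2.1, h.2.2.2.2.2.1, h.2.2.2.2.2.2.2⟩
theorem Z4_C (h : a ∈ sZ4) : a ∈ sC := ⟨h.1, h.2.1, h.2.2.1, h.2.2.2.1, h.2.2.2.2.2.1, h.2.2.2.2.2.2.2⟩
theorem Z4_D (h : a ∈ sZ4) : a ∈ sD := ⟨h.2.2.2.2.2.1, h.2.2.2.2.2.2.1, h.2.2.2.2.2.2.2⟩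
theorem Z4_R (h : a ∈ sZ4) : a ∈ sR := ⟨h.1, h.2.1, h.2.2.2.2.2.2.2⟩
theorem Z4_D7 (h : a ∈ sZ4) : a ∈ sD7 := ⟨h.1, h.2.1, h.2.2.1, h.2.2.2.1, h.2.2.2.2.1⟩
theorem Z4_P (h : a ∈ sZ4) : a ∈ sP := h.1
theorem Z4_B1 (h : a ∈ sZ4) : a ∈ sB1 := ⟨h.1, h.2.1, h.2.2.2.1, h.2.2.2.2.2.1, h.2.2.2.2.2.2.2⟩
theorem Z4_B2 (h : a ∈ sZ4) : a ∈ sB2 := ⟨h.1, h.2.2.2.2.1, h.2.2.2.2.2.1, h.2.2.2.2.2.2.1, h.2.2.2.2.2.2.2⟩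
theorem Z4_V8 (h : a ∈ sZ4) : a ∈ sV8 := ⟨h.1, h.2.1, h.2.2.1, h.2.2.2.1, h.2.2.2.2.1, h.2.2.2.2.2.1⟩
theorem Z4_B3 (h : a ∈ sZ4) : a ∈ sB3 := ⟨h.1, h.2.1, h.2.2.1, h.2.2.2.1, h.2.2.2.2.2.1, h.2.2.2.2.2.2.1, h.2.2.2.2.2.2.2⟩
theorem Z4_L (h : a ∈ sZ4) : a ∈ QL := h.2.2.2.2.2.2.2
theorem Z4_Q (h : a ∈ sZ4) : a ∈ QS := ⟨h.1, h.2.1⟩
theorem Z5_Z6 (h : a ∈ sZ5) : a ∈ sZ6 := ⟨h.1, h.2.1, h.2.2.2.2.1, h.2.2.2.2.2⟩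
theorem Z5_Z7 (h : a ∈ sZ5) : a ∈ sZ7 := ⟨h.1, h.2.2.2.2.2⟩
theorem Z5_W (h : a ∈ sZ5) : a ∈ sW := ⟨h.1, h.2.2.2.2.1, h.2.2.2.2.2⟩
theorem Z5_R (h : a ∈ sZ5) : a ∈ sR := ⟨h.1, h.2.1, h.2.2.2.2.2⟩
theorem Z5_P (h : a ∈ sZ5) : a ∈ sP := h.1
theorem Z5_B1 (h : a ∈ sZ5) : a ∈ sB1 := ⟨h.1, h.2.1, h.2.2.1, h.2.2.2.2.1, h.2.2.2.2.2⟩
theorem Z5_L (h : a ∈ sZ5) : a ∈ QL := h.2.2.2.2.2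
theorem Z5_Q (h : a ∈ sZ5) : a ∈ QS := ⟨h.1, h.2.1⟩
theorem Z6_Z7 (h : a ∈ sZ6) : a ∈ sZ7 := ⟨h.1, h.2.2.2⟩
theorem Z6_W (h : a ∈ sZ6) : a ∈ sW := ⟨h.1, h.2.2.1, h.2.2.2⟩
theorem Z6_R (h : a ∈ sZ6) : a ∈ sR := ⟨h.1, h.2.1, h.2.2.2⟩
theorem Z6_P (h : a ∈ sZ6) : a ∈ sP := h.1
theorem Z6_L (h : a ∈ sZ6) : a ∈ QL := h.2.2.2
theorem Z6_Q (h : a ∈ sZ6) : a ∈ QS := ⟨h.1, h.2.1⟩
theorem Z7_P (h : a ∈ sZ7) : a ∈ sP := h.1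
theorem Z7_L (h : a ∈ sZ7) : a ∈ QL := h.2
theorem W_Z7 (h : a ∈ sW) : a ∈ sZ7 := ⟨h.1, h.2.2⟩
theorem W_P (h : a ∈ sW) : a ∈ sP := h.1
theorem W_L (h : a ∈ sW) : a ∈ QL := h.2.2
theorem A_Z5 (h : a ∈ sA) : a ∈ sZ5 := ⟨h.1, h.2.1, h.2.2.1, h.2.2.2.1, h.2.2.2.2.1, h.2.2.2.2.2.2⟩
theorem A_Z6 (h : a ∈ sA) : a ∈ sZ6 := ⟨h.1, h.2.1, h.2.2.2.2.1, h.2.2.2.2.2.2⟩
theorem A_Z7 (h : a ∈ sA) : a ∈ sZ7 := ⟨h.1, h.2.2.2.2.2.2⟩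
theorem A_W (h : a ∈ sA) : a ∈ sW := ⟨h.1, h.2.2.2.2.1, h.2.2.2.2.2.2⟩
theorem A_D (h : a ∈ sA) : a ∈ sD := ⟨h.2.2.2.2.1, h.2.2.2.2.2.1, h.2.2.2.2.2.2⟩
theorem A_R (h : a ∈ sA) : a ∈ sR := ⟨h.1, h.2.1, h.2.2.2.2.2.2⟩
theorem A_P (h : a ∈ sA) : a ∈ sP := h.1
theorem A_B1 (h : a ∈ sA) : a ∈ sB1 := ⟨h.1, h.2.1, h.2.2.1, h.2.2.2.2.1, h.2.2.2.2.2.2⟩
theorem A_B2 (h : a ∈ sA) : a ∈ sB2 := ⟨h.1, h.2.2.2.1, h.2.2.2.2.1, h.2.2.2.2.2.1, h.2.2.2.2.2.2⟩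
theorem A_L (h : a ∈ sA) : a ∈ QL := h.2.2.2.2.2.2
theorem A_Q (h : a ∈ sA) : a ∈ QS := ⟨h.1, h.2.1⟩
theorem V_Z5 (h : a ∈ sV) : a ∈ sZ5 := ⟨h.1, h.2.1, h.2.2.2.1, h.2.2.2.2.1, h.2.2.2.2.2.1, h.2.2.2.2.2.2⟩
theorem V_Z6 (h : a ∈ sV) : a ∈ sZ6 := ⟨h.1, h.2.1, h.2.2.2.2.2.1, h.2.2.2.2.2.2⟩
theorem V_Z7 (h : a ∈ sV) : a ∈ sZ7 := ⟨h.1, h.2.2.2.2.2.2⟩
theorem V_W (h : a ∈ sV) : a ∈ sW := ⟨h.1, h.2.2.2.2.2.1, h.2.2.2.2.2.2⟩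
theorem V_C (h : a ∈ sV) : a ∈ sC := ⟨h.1, h.2.1, h.2.2.1, h.2.2.2.1, h.2.2.2.2.2.1, h.2.2.2.2.2.2⟩
theorem V_R (h : a ∈ sV) : a ∈ sR := ⟨h.1, h.2.1, h.2.2.2.2.2.2⟩
theorem V_D7 (h : a ∈ sV) : a ∈ sD7 := ⟨h.1, h.2.1, h.2.2.1, h.2.2.2.1, h.2.2.2.2.1⟩
theorem V_P (h : a ∈ sV) : a ∈ sP := h.1
theorem V_B1 (h : a ∈ sV) : a ∈ sB1 := ⟨h.1, h.2.1, h.2.2.2.1, h.2.2.2.2.2.1, h.2.2.2.2.2.2⟩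
theorem V_V8 (h : a ∈ sV) : a ∈ sV8 := ⟨h.1, h.2.1, h.2.2.1, h.2.2.2.1, h.2.2.2.2.1, h.2.2.2.2.2.1⟩
theorem V_L (h : a ∈ sV) : a ∈ QL := h.2.2.2.2.2.2
theorem V_Q (h : a ∈ sV) : a ∈ QS := ⟨h.1, h.2.1⟩
theorem V1_Z7 (h : a ∈ sV1) : a ∈ sZ7 := ⟨h.1, h.2.2.2.2.2.2⟩
theorem V1_W (h : a ∈ sV1) : a ∈ sW := ⟨h.1, h.2.2.2.2.1, h.2.2.2.2.2.2⟩
theorem V1_C1 (h : a ∈ sV1) : a ∈ sC1 := ⟨h.1, h.2.2.1, h.2.2.2.1, h.2.2.2.2.1, h.2.2.2.2.2.1, h.2.2.2.2.2.2⟩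
theorem V1_D (h : a ∈ sV1) : a ∈ sD := ⟨h.2.2.2.2.1, h.2.2.2.2.2.1, h.2.2.2.2.2.2⟩
theorem V1_P (h : a ∈ sV1) : a ∈ sP := h.1
theorem V1_B2 (h : a ∈ sV1) : a ∈ sB2 := ⟨h.1, h.2.2.1, h.2.2.2.2.1, h.2.2.2.2.2.1, h.2.2.2.2.2.2⟩
theorem V1_L (h : a ∈ sV1) : a ∈ QL := h.2.2.2.2.2.2
theorem C_Z6 (h : a ∈ sC) : a ∈ sZ6 := ⟨h.1, h.2.1, h.2.2.2.2.1, h.2.2.2.2.2⟩
theorem C_Z7 (h : a ∈ sC) : a ∈ sZ7 := ⟨h.1, h.2.2.2.2.2⟩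
theorem C_W (h : a ∈ sC) : a ∈ sW := ⟨h.1, h.2.2.2.2.1, h.2.2.2.2.2⟩
theorem C_R (h : a ∈ sC) : a ∈ sR := ⟨h.1, h.2.1, h.2.2.2.2.2⟩
theorem C_P (h : a ∈ sC) : a ∈ sP := h.1
theorem C_B1 (h : a ∈ sC) : a ∈ sB1 := ⟨h.1, h.2.1, h.2.2.2.1, h.2.2.2.2.1, h.2.2.2.2.2⟩
theorem C_L (h : a ∈ sC) : a ∈ QL := h.2.2.2.2.2
theorem C_Q (h : a ∈ sC) : a ∈ QS := ⟨h.1, h.2.1⟩
theorem C1_Z7 (h : a ∈ sC1) : a ∈ sZ7 := ⟨h.1, h.2.2.2.2.2⟩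
theorem C1_W (h : a ∈ sC1) : a ∈ sW := ⟨h.1, h.2.2.2.1, h.2.2.2.2.2⟩
theorem C1_D (h : a ∈ sC1) : a ∈ sD := ⟨h.2.2.2.1, h.2.2.2.2.1, h.2.2.2.2.2⟩
theorem C1_P (h : a ∈ sC1) : a ∈ sP := h.1
theorem C1_B2 (h : a ∈ sC1) : a ∈ sB2 := ⟨h.1, h.2.1, h.2.2.2.1, h.2.2.2.2.1, h.2.2.2.2.2⟩
theorem C1_L (h : a ∈ sC1) : a ∈ QL := h.2.2.2.2.2
theorem D_L (h : a ∈ sD) : a ∈ QL := h.2.2
theorem R_Z7 (h : a ∈ sR) : a ∈ sZ7 := ⟨h.1, h.2.2⟩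
theorem R_P (h : a ∈ sR) : a ∈ sP := h.1
theorem R_L (h : a ∈ sR) : a ∈ QL := h.2.2
theorem R_Q (h : a ∈ sR) : a ∈ QS := ⟨h.1, h.2.1⟩
theorem D7_P (h : a ∈ sD7) : a ∈ sP := h.1
theorem D7_Q (h : a ∈ sD7) : a ∈ QS := ⟨h.1, h.2.1⟩
theorem T3_Z2 (h : a ∈ sT3) : a ∈ sZ2 := ⟨h.1, h.2.1, h.2.2.1, h.2.2.2.1, h.2.2.2.2.1, h.2.2.2.2.2.1, h.2.2.2.2.2.2.2.1, h.2.2.2.2.2.2.2.2.1, h.2.2.2.2.2.2.2.2.2.1, h.2.2.2.2.2.2.2.2.2.2⟩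
theorem T3_Z3 (h : a ∈ sT3) : a ∈ sZ3 := ⟨h.1, h.2.1, h.2.2.1, h.2.2.2.1, h.2.2.2.2.2.1, h.2.2.2.2.2.2.2.1, h.2.2.2.2.2.2.2.2.1, h.2.2.2.2.2.2.2.2.2.1, h.2.2.2.2.2.2.2.2.2.2⟩
theorem T3_Z4 (h : a ∈ sT3) : a ∈ sZ4 := ⟨h.1, h.2.1, h.2.2.1, h.2.2.2.1, h.2.2.2.2.2.1, h.2.2.2.2.2.2.2.2.1, h.2.2.2.2.2.2.2.2.2.1, h.2.2.2.2.2.2.2.2.2.2⟩
theorem T3_Z5 (h : a ∈ sT3) : a ∈ sZ5 := ⟨h.1, h.2.1, h.2.2.2.1, h.2.2.2.2.2.1, h.2.2.2.2.2.2.2.2.1, h.2.2.2.2.2.2.2.2.2.2⟩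
theorem T3_Z6 (h : a ∈ sT3) : a ∈ sZ6 := ⟨h.1, h.2.1, h.2.2.2.2.2.2.2.2.1, h.2.2.2.2.2.2.2.2.2.2⟩
theorem T3_Z7 (h : a ∈ sT3) : a ∈ sZ7 := ⟨h.1, h.2.2.2.2.2.2.2.2.2.2⟩
theorem T3_W (h : a ∈ sT3) : a ∈ sW := ⟨h.1, h.2.2.2.2.2.2.2.2.1, h.2.2.2.2.2.2.2.2.2.2⟩
theorem T3_A (h : a ∈ sT3) : a ∈ sA := ⟨h.1, h.2.1, h.2.2.2.1, h.2.2.2.2.2.1, h.2.2.2.2.2.2.2.2.1, h.2.2.2.2.2.2.2.2.2.1, h.2.2.2.2.2.2.2.2.2.2⟩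
theorem T3_V (h : a ∈ sT3) : a ∈ sV := ⟨h.1, h.2.1, h.2.2.1, h.2.2.2.1, h.2.2.2.2.2.1, h.2.2.2.2.2.2.2.2.1, h.2.2.2.2.2.2.2.2.2.2⟩
theorem T3_V1 (h : a ∈ sT3) : a ∈ sV1 := ⟨h.1, h.2.2.2.1, h.2.2.2.2.2.1, h.2.2.2.2.2.2.2.1, h.2.2.2.2.2.2.2.2.1, h.2.2.2.2.2.2.2.2.2.1, h.2.2.2.2.2.2.2.2.2.2⟩
theorem T3_C (h : a ∈ sT3) : a ∈ sC := ⟨h.1, h.2.1, h.2.2.1, h.2.2.2.1, h.2.2.2.2.2.2.2.2.1, h.2.2.2.2.2.2.2.2.2.2⟩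
theorem T3_C1 (h : a ∈ sT3) : a ∈ sC1 := ⟨h.1, h.2.2.2.2.2.1, h.2.2.2.2.2.2.2.1, h.2.2.2.2.2.2.2.2.1, h.2.2.2.2.2.2.2.2.2.1, h.2.2.2.2.2.2.2.2.2.2⟩
theorem T3_D (h : a ∈ sT3) : a ∈ sD := ⟨h.2.2.2.2.2.2.2.2.1, h.2.2.2.2.2.2.2.2.2.1, h.2.2.2.2.2.2.2.2.2.2⟩
theorem T3_R (h : a ∈ sT3) : a ∈ sR := ⟨h.1, h.2.1, h.2.2.2.2.2.2.2.2.2.2⟩
theorem T3_D7 (h : a ∈ sT3) : a ∈ sD7 := ⟨h.1, h.2.1, h.2.2.1, h.2.2.2.1, h.2.2.2.2.2.1⟩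
theorem T3_P (h : a ∈ sT3) : a ∈ sP := h.1
theorem T3_B0 (h : a ∈ sT3) : a ∈ sB0 := ⟨h.1, h.2.1, h.2.2.1, h.2.2.2.1, h.2.2.2.2.1, h.2.2.2.2.2.2.2.1, h.2.2.2.2.2.2.2.2.1, h.2.2.2.2.2.2.2.2.2.1, h.2.2.2.2.2.2.2.2.2.2⟩
theorem T3_B1 (h : a ∈ sT3) : a ∈ sB1 := ⟨h.1, h.2.1, h.2.2.2.1, h.2.2.2.2.2.2.2.2.1, h.2.2.2.2.2.2.2.2.2.2⟩
theorem T3_B2 (h : a ∈ sT3) : a ∈ sB2 := ⟨h.1, h.2.2.2.2.2.1, h.2.2.2.2.2.2.2.2.1, h.2.2.2.2.2.2.2.2.2.1, h.2.2.2.2.2.2.2.2.2.2⟩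
theorem T3_V8 (h : a ∈ sT3) : a ∈ sV8 := ⟨h.1, h.2.1, h.2.2.1, h.2.2.2.1, h.2.2.2.2.2.1, h.2.2.2.2.2.2.2.2.1⟩
theorem T3_B3 (h : a ∈ sT3) : a ∈ sB3 := ⟨h.1, h.2.1, h.2.2.1, h.2.2.2.1, h.2.2.2.2.2.2.2.2.1, h.2.2.2.2.2.2.2.2.2.1, h.2.2.2.2.2.2.2.2.2.2⟩
theorem T3_B4 (h : a ∈ sT3) : a ∈ sB4 := ⟨h.1, h.2.1, h.2.2.2.2.2.1, h.2.2.2.2.2.2.2.1, h.2.2.2.2.2.2.2.2.1, h.2.2.2.2.2.2.2.2.2.1, h.2.2.2.2.2.2.2.2.2.2⟩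
theorem T3_L (h : a ∈ sT3) : a ∈ QL := h.2.2.2.2.2.2.2.2.2.2
theorem T3_Q (h : a ∈ sT3) : a ∈ QS := ⟨h.1, h.2.1⟩
theorem N7_Z5 (h : a ∈ sN7) : a ∈ sZ5 := ⟨h.1, h.2.1, h.2.2.2.1, h.2.2.2.2.2.2.1, h.2.2.2.2.2.2.2.1, h.2.2.2.2.2.2.2.2⟩
theorem N7_Z6 (h : a ∈ sN7) : a ∈ sZ6 := ⟨h.1, h.2.1, h.2.2.2.2.2.2.2.1, h.2.2.2.2.2.2.2.2⟩
theorem N7_Z7 (h : a ∈ sN7) : a ∈ sZ7 := ⟨h.1, h.2.2.2.2.2.2.2.2⟩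
theorem N7_W (h : a ∈ sN7) : a ∈ sW := ⟨h.1, h.2.2.2.2.2.2.2.1, h.2.2.2.2.2.2.2.2⟩
theorem N7_V (h : a ∈ sN7) : a ∈ sV := ⟨h.1, h.2.1, h.2.2.1, h.2.2.2.1, h.2.2.2.2.2.2.1, h.2.2.2.2.2.2.2.1, h.2.2.2.2.2.2.2.2⟩
theorem N7_C (h : a ∈ sN7) : a ∈ sC := ⟨h.1, h.2.1, h.2.2.1, h.2.2.2.1, h.2.2.2.2.2.2.2.1, h.2.2.2.2.2.2.2.2⟩
theorem N7_R (h : a ∈ sN7) : a ∈ sR := ⟨h.1, h.2.1, h.2.2.2.2.2.2.2.2⟩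
theorem N7_D7 (h : a ∈ sN7) : a ∈ sD7 := ⟨h.1, h.2.1, h.2.2.1, h.2.2.2.1, h.2.2.2.2.2.2.1⟩
theorem N7_P (h : a ∈ sN7) : a ∈ sP := h.1
theorem N7_B1 (h : a ∈ sN7) : a ∈ sB1 := ⟨h.1, h.2.1, h.2.2.2.1, h.2.2.2.2.2.2.2.1, h.2.2.2.2.2.2.2.2⟩
theorem N7_V8 (h : a ∈ sN7) : a ∈ sV8 := ⟨h.1, h.2.1, h.2.2.1, h.2.2.2.1, h.2.2.2.2.2.2.1, h.2.2.2.2.2.2.2.1⟩
theorem N7_L (h : a ∈ sN7) : a ∈ QL := h.2.2.2.2.2.2.2.2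
theorem N7_Q (h : a ∈ sN7) : a ∈ QS := ⟨h.1, h.2.1⟩
theorem B0_Z6 (h : a ∈ sB0) : a ∈ sZ6 := ⟨h.1, h.2.1, h.2.2.2.2.2.2.1, h.2.2.2.2.2.2.2.2⟩
theorem B0_Z7 (h : a ∈ sB0) : a ∈ sZ7 := ⟨h.1, h.2.2.2.2.2.2.2.2⟩
theorem B0_W (h : a ∈ sB0) : a ∈ sW := ⟨h.1, h.2.2.2.2.2.2.1, h.2.2.2.2.2.2.2.2⟩
theorem B0_C (h : a ∈ sB0) : a ∈ sC := ⟨h.1, h.2.1, h.2.2.1, h.2.2.2.1, h.2.2.2.2.2.2.1, h.2.2.2.2.2.2.2.2⟩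
theorem B0_D (h : a ∈ sB0) : a ∈ sD := ⟨h.2.2.2.2.2.2.1, h.2.2.2.2.2.2.2.1, h.2.2.2.2.2.2.2.2⟩
theorem B0_R (h : a ∈ sB0) : a ∈ sR := ⟨h.1, h.2.1, h.2.2.2.2.2.2.2.2⟩
theorem B0_P (h : a ∈ sB0) : a ∈ sP := h.1
theorem B0_B1 (h : a ∈ sB0) : a ∈ sB1 := ⟨h.1, h.2.1, h.2.2.2.1, h.2.2.2.2.2.2.1, h.2.2.2.2.2.2.2.2⟩
theorem B0_B3 (h : a ∈ sB0) : a ∈ sB3 := ⟨h.1, h.2.1, h.2.2.1, h.2.2.2.1, h.2.2.2.2.2.2.1, h.2.2.2.2.2.2.2.1, h.2.2.2.2.2.2.2.2⟩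
theorem B0_L (h : a ∈ sB0) : a ∈ QL := h.2.2.2.2.2.2.2.2
theorem B0_Q (h : a ∈ sB0) : a ∈ QS := ⟨h.1, h.2.1⟩
theorem B1_Z6 (h : a ∈ sB1) : a ∈ sZ6 := ⟨h.1, h.2.1, h.2.2.2.1, h.2.2.2.2⟩
theorem B1_Z7 (h : a ∈ sB1) : a ∈ sZ7 := ⟨h.1, h.2.2.2.2⟩
theorem B1_W (h : a ∈ sB1) : a ∈ sW := ⟨h.1, h.2.2.2.1, h.2.2.2.2⟩
theorem B1_R (h : a ∈ sB1) : a ∈ sR := ⟨h.1, h.2.1, h.2.2.2.2⟩
theorem B1_P (h : a ∈ sB1) : a ∈ sP := h.1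
theorem B1_L (h : a ∈ sB1) : a ∈ QL := h.2.2.2.2
theorem B1_Q (h : a ∈ sB1) : a ∈ QS := ⟨h.1, h.2.1⟩
theorem B2_Z7 (h : a ∈ sB2) : a ∈ sZ7 := ⟨h.1, h.2.2.2.2⟩
theorem B2_W (h : a ∈ sB2) : a ∈ sW := ⟨h.1, h.2.2.1, h.2.2.2.2⟩
theorem B2_D (h : a ∈ sB2) : a ∈ sD := ⟨h.2.2.1, h.2.2.2.1, h.2.2.2.2⟩
theorem B2_P (h : a ∈ sB2) : a ∈ sP := h.1
theorem B2_L (h : a ∈ sB2) : a ∈ QL := h.2.2.2.2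
theorem V8_D7 (h : a ∈ sV8) : a ∈ sD7 := ⟨h.1, h.2.1, h.2.2.1, h.2.2.2.1, h.2.2.2.2.1⟩
theorem V8_P (h : a ∈ sV8) : a ∈ sP := h.1
theorem V8_Q (h : a ∈ sV8) : a ∈ QS := ⟨h.1, h.2.1⟩
theorem B3_Z6 (h : a ∈ sB3) : a ∈ sZ6 := ⟨h.1, h.2.1, h.2.2.2.2.1, h.2.2.2.2.2.2⟩
theorem B3_Z7 (h : a ∈ sB3) : a ∈ sZ7 := ⟨h.1, h.2.2.2.2.2.2⟩
theorem B3_W (h : a ∈ sB3) : a ∈ sW := ⟨h.1, h.2.2.2.2.1, h.2.2.2.2.2.2⟩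
theorem B3_C (h : a ∈ sB3) : a ∈ sC := ⟨h.1, h.2.1, h.2.2.1, h.2.2.2.1, h.2.2.2.2.1, h.2.2.2.2.2.2⟩
theorem B3_D (h : a ∈ sB3) : a ∈ sD := ⟨h.2.2.2.2.1, h.2.2.2.2.2.1, h.2.2.2.2.2.2⟩
theorem B3_R (h : a ∈ sB3) : a ∈ sR := ⟨h.1, h.2.1, h.2.2.2.2.2.2⟩
theorem B3_P (h : a ∈ sB3) : a ∈ sP := h.1
theorem B3_B1 (h : a ∈ sB3) : a ∈ sB1 := ⟨h.1, h.2.1, h.2.2.2.1, h.2.2.2.2.1, h.2.2.2.2.2.2⟩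
theorem B3_L (h : a ∈ sB3) : a ∈ QL := h.2.2.2.2.2.2
theorem B3_Q (h : a ∈ sB3) : a ∈ QS := ⟨h.1, h.2.1⟩
theorem B4_Z6 (h : a ∈ sB4) : a ∈ sZ6 := ⟨h.1, h.2.1, h.2.2.2.2.1, h.2.2.2.2.2.2⟩
theorem B4_Z7 (h : a ∈ sB4) : a ∈ sZ7 := ⟨h.1, h.2.2.2.2.2.2⟩
theorem B4_W (h : a ∈ sB4) : a ∈ sW := ⟨h.1, h.2.2.2.2.1, h.2.2.2.2.2.2⟩
theorem B4_C1 (h : a ∈ sB4) : a ∈ sC1 := ⟨h.1, h.2.2.1, h.2.2.2.1, h.2.2.2.2.1, h.2.2.2.2.2.1, h.2.2.2.2.2.2⟩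
theorem B4_D (h : a ∈ sB4) : a ∈ sD := ⟨h.2.2.2.2.1, h.2.2.2.2.2.1, h.2.2.2.2.2.2⟩
theorem B4_R (h : a ∈ sB4) : a ∈ sR := ⟨h.1, h.2.1, h.2.2.2.2.2.2⟩
theorem B4_P (h : a ∈ sB4) : a ∈ sP := h.1
theorem B4_B2 (h : a ∈ sB4) : a ∈ sB2 := ⟨h.1, h.2.2.1, h.2.2.2.2.1, h.2.2.2.2.2.1, h.2.2.2.2.2.2⟩
theorem B4_L (h : a ∈ sB4) : a ∈ QL := h.2.2.2.2.2.2
theorem B4_Q (h : a ∈ sB4) : a ∈ QS := ⟨h.1, h.2.1⟩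
theorem Q_P (h : a ∈ QS) : a ∈ sP := h.1

theorem cm_Z2_S (b : U K) (ha : a ∈ sZ2) : ⁅a, b⁆ ∈ sZ1 := by
  simp only [mem_Z2] at ha
  simp [cm_y1, cy1, cm_x1, cx1, cm_x2, cx2, cm_y3, cy3, cm_x3, cx3, cm_x4, cx4, cm_y5, cy5, cm_x6, cx6, cm_y7, cy7, cm_x7, cx7, cm_x8, cx8, ha]
theorem cm_Z3_S (b : U K) (ha : a ∈ sZ3) : ⁅a, b⁆ ∈ sZ2 := by
  simp only [mem_Z3] at ha
  simp [cm_y1, cy1, cm_x1, cx1, cm_x2, cx2, cm_y3, cy3, cm_x4, cx4, cm_y5, cy5, cm_x6, cx6, cm_y7, cy7, cm_x7, cx7, cm_x8, cx8, ha]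
theorem cm_Z4_S (b : U K) (ha : a ∈ sZ4) : ⁅a, b⁆ ∈ sZ3 := by
  simp only [mem_Z4] at ha
  simp [cm_y1, cy1, cm_x1, cx1, cm_x2, cx2, cm_y3, cy3, cm_y5, cy5, cm_x6, cx6, cm_y7, cy7, cm_x7, cx7, cm_x8, cx8, ha]
theorem cm_Z5_S (b : U K) (ha : a ∈ sZ5) : ⁅a, b⁆ ∈ sZ4 := by
  simp only [mem_Z5] at ha
  simp [cm_y1, cy1, cm_x1, cx1, cm_x2, cx2, cm_y3, cy3, cm_y5, cy5, cm_y7, cy7, cm_x7, cx7, cm_x8, cx8, ha]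
theorem cm_Z6_S (b : U K) (ha : a ∈ sZ6) : ⁅a, b⁆ ∈ sZ5 := by
  simp only [mem_Z6] at ha
  simp [cm_y1, cy1, cm_x1, cx1, cm_y3, cy3, cm_y5, cy5, cm_y7, cy7, cm_x8, cx8, ha]
theorem cm_Z7_S (b : U K) (ha : a ∈ sZ7) : ⁅a, b⁆ ∈ sZ6 := by
  simp only [mem_Z7] at ha
  simp [cm_y1, cy1, cm_x1, cx1, cm_y7, cy7, cm_x8, cx8, ha]
theorem cm_S_S (a : U K) (b : U K) : ⁅a, b⁆ ∈ sZ7 := by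
  simp [cm_y1, cy1, cm_x8, cx8]
theorem cm_D7_B0 (ha : a ∈ sD7) (hb : b ∈ sB0) : ⁅a, b⁆ ∈ sN7 := by
  simp only [mem_B0, mem_D7] at ha hb
  simp [cm_y1, cy1, cm_x1, cx1, cm_x2, cx2, cm_y3, cy3, cm_x3, cx3, cm_x4, cx4, cm_y5, cy5, cm_y7, cy7, cm_x8, cx8, ha, hb]
theorem cm_Z3_P (ha : a ∈ sZ3) (hb : b ∈ sP) : ⁅a, b⁆ ∈ sZ1 := by
  simp only [mem_P, mem_Z3] at ha hb
  simp [cm_y1, cy1, cm_x1, cx1, cm_x2, cx2, cm_y3, cy3, cm_x3, cx3, cm_x4, cx4, cm_y5, cy5, cm_x6, cx6, cm_y7, cy7, cm_x7, cx7, cm_x8, cx8, ha, hb]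
theorem cm_W_W (ha : a ∈ sW) (hb : b ∈ sW) : ⁅a, b⁆ ∈ sZ3 := by
  simp only [mem_W] at ha hb
  simp [cm_y1, cy1, cm_x1, cx1, cm_x2, cx2, cm_y3, cy3, cm_y5, cy5, cm_x6, cx6, cm_y7, cy7, cm_x7, cx7, cm_x8, cx8, ha, hb]
theorem cm_W_L (ha : a ∈ sW) (hb : b ∈ QL) : ⁅a, b⁆ ∈ sA := by
  simp only [mem_L, mem_W] at ha hb
  simp [cm_y1, cy1, cm_x1, cx1, cm_y3, cy3, cm_y5, cy5, cm_y7, cy7, cm_x7, cx7, cm_x8, cx8, ha, hb]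
theorem cm_A_L (ha : a ∈ sA) (hb : b ∈ QL) : ⁅a, b⁆ ∈ sZ3 := by
  simp only [mem_A, mem_L] at ha hb
  simp [cm_y1, cy1, cm_x1, cx1, cm_x2, cx2, cm_y3, cy3, cm_y5, cy5, cm_x6, cx6, cm_y7, cy7, cm_x7, cx7, cm_x8, cx8, ha, hb]
theorem cm_A_W (ha : a ∈ sA) (hb : b ∈ sW) : ⁅a, b⁆ ∈ sZ2 := by
  simp only [mem_A, mem_W] at ha hb
  simp [cm_y1, cy1, cm_x1, cx1, cm_x2, cx2, cm_y3, cy3, cm_x4, cx4, cm_y5, cy5, cm_x6, cx6, cm_y7, cy7, cm_x7, cx7, cm_x8, cx8, ha, hb]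
theorem cm_V1_D (ha : a ∈ sV1) (hb : b ∈ sD) : ⁅a, b⁆ ∈ sT3 := by
  simp only [mem_D, mem_V1] at ha hb
  simp [cm_y1, cy1, cm_x1, cx1, cm_x2, cx2, cm_y3, cy3, cm_x4, cx4, cm_y5, cy5, cm_x5, cx5, cm_x6, cx6, cm_y7, cy7, cm_x7, cx7, cm_x8, cx8, ha, hb]
theorem cm_V_Q (ha : a ∈ sV) (hb : b ∈ QS) : ⁅a, b⁆ ∈ sZ1 := by
  simp only [mem_Q, mem_V] at ha hb
  simp [cm_y1, cy1, cm_x1, cx1, cm_x2, cx2, cm_y3, cy3, cm_x3, cx3, cm_x4, cx4, cm_y5, cy5, cm_x6, cx6, cm_y7, cy7, cm_x7, cx7, cm_x8, cx8, ha, hb]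
theorem cm_D_B3 (ha : a ∈ sD) (hb : b ∈ sB3) : ⁅a, b⁆ ∈ sZ3 := by
  simp only [mem_B3, mem_D] at ha hb
  simp [cm_y1, cy1, cm_x1, cx1, cm_x2, cx2, cm_y3, cy3, cm_y5, cy5, cm_x6, cx6, cm_y7, cy7, cm_x7, cx7, cm_x8, cx8, ha, hb]
theorem cm_R_B4 (ha : a ∈ sR) (hb : b ∈ sB4) : ⁅a, b⁆ ∈ sZ3 := by
  simp only [mem_B4, mem_R] at ha hb
  simp [cm_y1, cy1, cm_x1, cx1, cm_x2, cx2, cm_y3, cy3, cm_y5, cy5, cm_x6, cx6, cm_y7, cy7, cm_x7, cx7, cm_x8, cx8, ha, hb]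
theorem cm_L_L (ha : a ∈ QL) (hb : b ∈ QL) : ⁅a, b⁆ ∈ sW := by
  simp only [mem_L] at ha hb
  simp [cm_y1, cy1, cm_y7, cy7, cm_x8, cx8, ha, hb]
theorem cm_Q_Q (ha : a ∈ QS) (hb : b ∈ QS) : ⁅a, b⁆ ∈ sV := by
  simp only [mem_Q] at ha hb
  simp [cm_y1, cy1, cm_x1, cx1, cm_x2, cx2, cm_y3, cy3, cm_y5, cy5, cm_y7, cy7, cm_x8, cx8, ha, hb]
theorem cm_V_P (ha : a ∈ sV) (hb : b ∈ sP) : ⁅a, b⁆ ∈ sZ3 := by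
  simp only [mem_P, mem_V] at ha hb
  simp [cm_y1, cy1, cm_x1, cx1, cm_x2, cx2, cm_y3, cy3, cm_y5, cy5, cm_x6, cx6, cm_y7, cy7, cm_x7, cx7, cm_x8, cx8, ha, hb]
theorem cm_P_Z6 (ha : a ∈ sP) (hb : b ∈ sZ6) : ⁅a, b⁆ ∈ sV := by
  simp only [mem_P, mem_Z6] at ha hb
  simp [cm_y1, cy1, cm_x1, cx1, cm_x2, cx2, cm_y3, cy3, cm_y5, cy5, cm_y7, cy7, cm_x8, cx8, ha, hb]
theorem cm_P_S (b : U K) (ha : a ∈ sP) : ⁅a, b⁆ ∈ sR := by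
  simp only [mem_P] at ha
  simp [cm_y1, cy1, cm_x1, cx1, cm_x8, cx8, ha]
theorem cm_Z5_C (ha : a ∈ sZ5) (hb : b ∈ sC) : ⁅a, b⁆ ∈ sZ2 := by
  simp only [mem_C, mem_Z5] at ha hb
  simp [cm_y1, cy1, cm_x1, cx1, cm_x2, cx2, cm_y3, cy3, cm_x4, cx4, cm_y5, cy5, cm_x6, cx6, cm_y7, cy7, cm_x7, cx7, cm_x8, cx8, ha, hb]
theorem cm_W_S (b : U K) (ha : a ∈ sW) : ⁅a, b⁆ ∈ sW := by
  simp only [mem_W] at ha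
  simp [cm_y1, cy1, cm_y7, cy7, cm_x8, cx8, ha]
theorem cm_V_S (b : U K) (ha : a ∈ sV) : ⁅a, b⁆ ∈ sV := by
  simp only [mem_V] at ha
  simp [cm_y1, cy1, cm_x1, cx1, cm_x2, cx2, cm_y3, cy3, cm_y5, cy5, cm_y7, cy7, cm_x8, cx8, ha]
theorem cm_V8_Q (ha : a ∈ sV8) (hb : b ∈ QS) : ⁅a, b⁆ ∈ sD7 := by
  simp only [mem_Q, mem_V8] at ha hb
  simp [cm_y1, cy1, cm_x1, cx1, cm_x2, cx2, cm_y3, cy3, cm_y5, cy5, ha, hb]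
theorem cc_Z1_S (b : U K) (ha : a ∈ sZ1) : a * b = b * a := by
  simp only [mem_Z1] at ha
  ext <;> simp [mul_y1, my1, mul_x1, mx1, mul_x2, mx2, mul_y3, my3, mul_x3, mx3, mul_x4, mx4, mul_y5, my5, mul_x5, mx5, mul_x6, mx6, mul_y7, my7, mul_x7, mx7, mul_x8, mx8, ha, add_comm]
theorem cc_N7_D7 (ha : a ∈ sN7) (hb : b ∈ sD7) : a * b = b * a := by
  simp only [mem_D7, mem_N7] at ha hb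
  ext <;> simp [mul_y1, my1, mul_x1, mx1, mul_x2, mx2, mul_y3, my3, mul_x3, mx3, mul_x4, mx4, mul_y5, my5, mul_x5, mx5, mul_x6, mx6, mul_y7, my7, mul_x7, mx7, mul_x8, mx8, ha, hb, add_comm]
theorem cc_V_C (ha : a ∈ sV) (hb : b ∈ sC) : a * b = b * a := by
  simp only [mem_C, mem_V] at ha hb
  ext <;> simp [mul_y1, my1, mul_x1, mx1, mul_x2, mx2, mul_y3, my3, mul_x3, mx3, mul_x4, mx4, mul_y5, my5, mul_x5, mx5, mul_x6, mx6, mul_y7, my7, mul_x7, mx7, mul_x8, mx8, ha, hb, add_comm]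
theorem cc_V_B0 (ha : a ∈ sV) (hb : b ∈ sB0) : a * b = b * a := by
  simp only [mem_B0, mem_V] at ha hb
  ext <;> simp [mul_y1, my1, mul_x1, mx1, mul_x2, mx2, mul_y3, my3, mul_x3, mx3, mul_x4, mx4, mul_y5, my5, mul_x5, mx5, mul_x6, mx6, mul_y7, my7, mul_x7, mx7, mul_x8, mx8, ha, hb, add_comm]
theorem cc_Z2_L (ha : a ∈ sZ2) (hb : b ∈ QL) : a * b = b * a := by
  simp only [mem_L, mem_Z2] at ha hb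
  ext <;> simp [mul_y1, my1, mul_x1, mx1, mul_x2, mx2, mul_y3, my3, mul_x3, mx3, mul_x4, mx4, mul_y5, my5, mul_x5, mx5, mul_x6, mx6, mul_y7, my7, mul_x7, mx7, mul_x8, mx8, ha, hb, add_comm]
theorem cc_Z3_W (ha : a ∈ sZ3) (hb : b ∈ sW) : a * b = b * a := by
  simp only [mem_W, mem_Z3] at ha hb
  ext <;> simp [mul_y1, my1, mul_x1, mx1, mul_x2, mx2, mul_y3, my3, mul_x3, mx3, mul_x4, mx4, mul_y5, my5, mul_x5, mx5, mul_x6, mx6, mul_y7, my7, mul_x7, mx7, mul_x8, mx8, ha, hb, add_comm]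
theorem cc_A_A (ha : a ∈ sA) (hb : b ∈ sA) : a * b = b * a := by
  simp only [mem_A] at ha hb
  ext <;> simp [mul_y1, my1, mul_x1, mx1, mul_x2, mx2, mul_y3, my3, mul_x3, mx3, mul_x4, mx4, mul_y5, my5, mul_x5, mx5, mul_x6, mx6, mul_y7, my7, mul_x7, mx7, mul_x8, mx8, ha, hb, add_comm]
theorem cc_Z4_B1 (ha : a ∈ sZ4) (hb : b ∈ sB1) : a * b = b * a := by
  simp only [mem_B1, mem_Z4] at ha hb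
  ext <;> simp [mul_y1, my1, mul_x1, mx1, mul_x2, mx2, mul_y3, my3, mul_x3, mx3, mul_x4, mx4, mul_y5, my5, mul_x5, mx5, mul_x6, mx6, mul_y7, my7, mul_x7, mx7, mul_x8, mx8, ha, hb, add_comm]
theorem cc_V1_C1 (ha : a ∈ sV1) (hb : b ∈ sC1) : a * b = b * a := by
  simp only [mem_C1, mem_V1] at ha hb
  ext <;> simp [mul_y1, my1, mul_x1, mx1, mul_x2, mx2, mul_y3, my3, mul_x3, mx3, mul_x4, mx4, mul_y5, my5, mul_x5, mx5, mul_x6, mx6, mul_y7, my7, mul_x7, mx7, mul_x8, mx8, ha, hb, add_comm]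
theorem cc_Z4_Z5 (ha : a ∈ sZ4) (hb : b ∈ sZ5) : a * b = b * a := by
  simp only [mem_Z4, mem_Z5] at ha hb
  ext <;> simp [mul_y1, my1, mul_x1, mx1, mul_x2, mx2, mul_y3, my3, mul_x3, mx3, mul_x4, mx4, mul_y5, my5, mul_x5, mx5, mul_x6, mx6, mul_y7, my7, mul_x7, mx7, mul_x8, mx8, ha, hb, add_comm]
theorem sq_W (ha : a ∈ sW) : a * a ∈ sZ3 := by
  simp only [mem_W] at ha
  simp [sq_y1, sq_x1, sq_x2, sq_y3, sq_y5, sq_x6, sq_y7, sq_x7, sq_x8, ha]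
theorem sq_B0 (ha : a ∈ sB0) : a * a ∈ sZ1 := by
  simp only [mem_B0] at ha
  simp [sq_y1, sq_x1, sq_x2, sq_y3, sq_x3, sq_x4, sq_y5, sq_x6, sq_y7, sq_x7, sq_x8, ha]
theorem sq_P (ha : a ∈ sP) : a * a ∈ sR := by
  simp only [mem_P] at ha
  simp [sq_y1, sq_x1, sq_x8, ha]
theorem sq_C (ha : a ∈ sC) : a * a ∈ sZ1 := by
  simp only [mem_C] at ha
  simp [sq_y1, sq_x1, sq_x2, sq_y3, sq_x3, sq_x4, sq_y5, sq_x6, sq_y7, sq_x7, sq_x8, ha]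
theorem sq_C1 (ha : a ∈ sC1) : a * a ∈ sT3 := by
  simp only [mem_C1] at ha
  simp [sq_y1, sq_x1, sq_x2, sq_y3, sq_x4, sq_y5, sq_x5, sq_x6, sq_y7, sq_x7, sq_x8, ha]
theorem sq_A (ha : a ∈ sA) : a * a = 1 := by
  simp only [mem_A] at ha
  ext <;> simp [sq_y1, sq_x1, sq_x2, sq_y3, sq_x3, sq_x4, sq_y5, sq_x5, sq_x6, sq_y7, sq_x7, sq_x8, ha]
theorem sq_V (ha : a ∈ sV) : a * a = 1 := by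
  simp only [mem_V] at ha
  ext <;> simp [sq_y1, sq_x1, sq_x2, sq_y3, sq_x3, sq_x4, sq_y5, sq_x5, sq_x6, sq_y7, sq_x7, sq_x8, ha]
theorem sq_V1 (ha : a ∈ sV1) : a * a = 1 := by
  simp only [mem_V1] at ha
  ext <;> simp [sq_y1, sq_x1, sq_x2, sq_y3, sq_x3, sq_x4, sq_y5, sq_x5, sq_x6, sq_y7, sq_x7, sq_x8, ha]
theorem cf_W_W_x3 (ha : a ∈ sW) (hb : b ∈ sW) : cx3 a b = φ a.x1 * b.x7 + a.x1 * b.x6 + a.x2 * b.y5 + a.x6 * b.x1 + a.x7 * φ b.x1 + φ a.y3 * b.y3 + a.y3 * φ b.y3 +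
    a.y5 * b.x2 := by
  simp only [mem_W] at ha hb
  simp only [cx3, ha, hb, map_zero, mul_zero, zero_mul, add_zero, zero_add, ne_eq, OfNat.ofNat_ne_zero,
    not_false_eq_true, zero_pow]
theorem cf_W_W_x4 (ha : a ∈ sW) (hb : b ∈ sW) : cx4 a b = a.x1 * b.x7 + a.x7 * b.x1 + a.y3 * b.y5 + a.y5 * b.y3 := by
  simp only [mem_W] at ha hb
  simp only [cx4, ha, hb, map_zero, mul_zero, zero_mul, add_zero, zero_add, ne_eq, OfNat.ofNat_ne_zero,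
    not_false_eq_true, zero_pow]
theorem cf_W_W_x5 (ha : a ∈ sW) (hb : b ∈ sW) : cx5 a b = a.x1 * φ b.x7 + a.x2 * b.x7 + a.x6 * b.y3 + φ a.x7 * b.x1 + a.x7 * b.x2 + a.y3 * b.x6 + φ a.y5 * b.y5 +
    a.y5 * φ b.y5 := by
  simp only [mem_W] at ha hb
  simp only [cx5, ha, hb, map_zero, mul_zero, zero_mul, add_zero, zero_add, ne_eq, OfNat.ofNat_ne_zero,
    not_false_eq_true, zero_pow]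
theorem cf_V8_Q_x4 (ha : a ∈ sV8) (hb : b ∈ QS) : cx4 a b = a.x8 * φ b.x2 := by
  simp only [mem_Q, mem_V8] at ha hb
  simp only [cx4, ha, hb, map_zero, mul_zero, zero_mul, add_zero, zero_add, ne_eq, OfNat.ofNat_ne_zero,
    not_false_eq_true, zero_pow]
theorem cf_V8_Q_x5 (ha : a ∈ sV8) (hb : b ∈ QS) : cx5 a b = a.x3 * b.x8 + a.x4 * b.y7 + a.x6 * b.y3 + a.x7 * b.x2 + a.x8 * b.x3 + φ a.x8 * b.x2 * b.y3 +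
    a.x8 * b.x2 * b.y5 := by
  simp only [mem_Q, mem_V8] at ha hb
  simp only [cx5, ha, hb, map_zero, mul_zero, zero_mul, add_zero, zero_add, ne_eq, OfNat.ofNat_ne_zero,
    not_false_eq_true, zero_pow]
theorem cf_V8_Q_x6 (ha : a ∈ sV8) (hb : b ∈ QS) : cx6 a b = φ a.x8 * b.x2 + a.x8 * φ b.y3 := by
  simp only [mem_Q, mem_V8] at ha hb
  simp only [cx6, ha, hb, map_zero, mul_zero, zero_mul, add_zero, zero_add, ne_eq, OfNat.ofNat_ne_zero,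
    not_false_eq_true, zero_pow]
theorem cf_V8_Q_x7 (ha : a ∈ sV8) (hb : b ∈ QS) : cx7 a b = φ a.x8 * b.y3 + a.x8 * b.y5 := by
  simp only [mem_Q, mem_V8] at ha hb
  simp only [cx7, ha, hb, map_zero, mul_zero, zero_mul, add_zero, zero_add, ne_eq, OfNat.ofNat_ne_zero,
    not_false_eq_true, zero_pow]
theorem cf_V1_L_x2 (ha : a ∈ sV1) (hb : b ∈ QL) : cx2 a b = a.x1 * b.y7 := by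
  simp only [mem_L, mem_V1] at ha hb
  simp only [cx2, ha, hb, map_zero, mul_zero, zero_mul, add_zero, zero_add, ne_eq, OfNat.ofNat_ne_zero,
    not_false_eq_true, zero_pow]
theorem cf_V1_L_x4 (ha : a ∈ sV1) (hb : b ∈ QL) : cx4 a b = a.x1 * b.x7 + a.x1 * b.y7 * φ b.y7 + a.x2 * φ b.y7 := by
  simp only [mem_L, mem_V1] at ha hb
  simp only [cx4, ha, hb, map_zero, mul_zero, zero_mul, add_zero, zero_add, ne_eq, OfNat.ofNat_ne_zero,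
    not_false_eq_true, zero_pow]
theorem cf_V1_L_x5 (ha : a ∈ sV1) (hb : b ∈ QL) : cx5 a b = a.x1 * φ b.x7 + a.x1 * b.y7 ^ 2 * φ b.y7 + a.x2 * b.x7 + a.x4 * b.y7 + a.x1 * b.x7 * b.y7 := by
  simp only [mem_L, mem_V1] at ha hb
  simp only [cx5, ha, hb, map_zero, mul_zero, zero_mul, add_zero, zero_add, ne_eq, OfNat.ofNat_ne_zero,
    not_false_eq_true, zero_pow]
theorem cf_V_L_x3 (ha : a ∈ sV) (hb : b ∈ QL) : cx3 a b = a.x4 * b.y1 + a.x6 * b.x1 + a.x7 * φ b.x1 + a.x7 * b.y1 ^ 2 * φ b.y1 + a.x7 * b.x1 * b.y1 := by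
  simp only [mem_L, mem_V] at ha hb
  simp only [cx3, ha, hb, map_zero, mul_zero, zero_mul, add_zero, zero_add, ne_eq, OfNat.ofNat_ne_zero,
    not_false_eq_true, zero_pow]
theorem cf_V_L_x4 (ha : a ∈ sV) (hb : b ∈ QL) : cx4 a b = a.x6 * φ b.y1 + a.x7 * b.x1 + a.x7 * b.y1 * φ b.y1 := by
  simp only [mem_L, mem_V] at ha hb
  simp only [cx4, ha, hb, map_zero, mul_zero, zero_mul, add_zero, zero_add, ne_eq, OfNat.ofNat_ne_zero,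
    not_false_eq_true, zero_pow]
theorem cf_V_L_x6 (ha : a ∈ sV) (hb : b ∈ QL) : cx6 a b = a.x7 * b.y1 := by
  simp only [mem_L, mem_V] at ha hb
  simp only [cx6, ha, hb, map_zero, mul_zero, zero_mul, add_zero, zero_add, ne_eq, OfNat.ofNat_ne_zero,
    not_false_eq_true, zero_pow]
theorem cf_W_L_x2 (ha : a ∈ sW) (hb : b ∈ QL) : cx2 a b = a.x1 * b.y7 + a.y3 * b.y1 := by
  simp only [mem_L, mem_W] at ha hb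
  simp only [cx2, ha, hb, map_zero, mul_zero, zero_mul, add_zero, zero_add, ne_eq, OfNat.ofNat_ne_zero,
    not_false_eq_true, zero_pow]
theorem cf_W_L_x4 (ha : a ∈ sW) (hb : b ∈ QL) : cx4 a b = a.x1 * b.x7 + a.x1 * b.y7 * φ b.y7 + a.x2 * φ b.y7 + a.x6 * φ b.y1 + a.x7 * b.x1 + a.x7 * b.y1 * φ b.y1 +
    a.y3 * b.y5 + a.y5 * b.y3 + a.y5 * φ b.y1 * b.y7 := by
  simp only [mem_L, mem_W] at ha hb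
  simp only [cx4, ha, hb, map_zero, mul_zero, zero_mul, add_zero, zero_add, ne_eq, OfNat.ofNat_ne_zero,
    not_false_eq_true, zero_pow]
theorem cf_W_L_x6 (ha : a ∈ sW) (hb : b ∈ QL) : cx6 a b = a.x7 * b.y1 + a.y5 * b.y7 := by
  simp only [mem_L, mem_W] at ha hb
  simp only [cx6, ha, hb, map_zero, mul_zero, zero_mul, add_zero, zero_add, ne_eq, OfNat.ofNat_ne_zero,
    not_false_eq_true, zero_pow]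
theorem cf_Z5_S_x6 (b : U K) (ha : a ∈ sZ5) : cx6 a b = a.x2 * φ b.x8 + a.x7 * b.y1 := by
  simp only [mem_Z5] at ha
  simp only [cx6, ha, map_zero, mul_zero, zero_mul, add_zero, zero_add, ne_eq, OfNat.ofNat_ne_zero,
    not_false_eq_true, zero_pow]
theorem cf_Z4_S_x4 (b : U K) (ha : a ∈ sZ4) : cx4 a b = a.x6 * φ b.y1 := by
  simp only [mem_Z4] at ha
  simp only [cx4, ha, map_zero, mul_zero, zero_mul, add_zero, zero_add, ne_eq, OfNat.ofNat_ne_zero,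
    not_false_eq_true, zero_pow]
theorem cf_Z3_S_x3 (b : U K) (ha : a ∈ sZ3) : cx3 a b = a.x4 * b.y1 := by
  simp only [mem_Z3] at ha
  simp only [cx3, ha, map_zero, mul_zero, zero_mul, add_zero, zero_add, ne_eq, OfNat.ofNat_ne_zero,
    not_false_eq_true, zero_pow]
theorem cf_Z2_S_x5 (b : U K) (ha : a ∈ sZ2) : cx5 a b = a.x3 * b.x8 := by
  simp only [mem_Z2] at ha
  simp only [cx5, ha, map_zero, mul_zero, zero_mul, add_zero, zero_add, ne_eq, OfNat.ofNat_ne_zero,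
    not_false_eq_true, zero_pow]
theorem cf_V_Q_x5 (ha : a ∈ sV) (hb : b ∈ QS) : cx5 a b = a.x3 * b.x8 + a.x4 * b.y7 + a.x6 * b.y3 + a.x7 * b.x2 := by
  simp only [mem_Q, mem_V] at ha hb
  simp only [cx5, ha, hb, map_zero, mul_zero, zero_mul, add_zero, zero_add, ne_eq, OfNat.ofNat_ne_zero,
    not_false_eq_true, zero_pow]
theorem cf_V_P_x3 (ha : a ∈ sV) (hb : b ∈ sP) : cx3 a b = a.x6 * b.x1 + a.x7 * φ b.x1 := by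
  simp only [mem_P, mem_V] at ha hb
  simp only [cx3, ha, hb, map_zero, mul_zero, zero_mul, add_zero, zero_add, ne_eq, OfNat.ofNat_ne_zero,
    not_false_eq_true, zero_pow]
theorem cf_V_P_x4 (ha : a ∈ sV) (hb : b ∈ sP) : cx4 a b = a.x7 * b.x1 := by
  simp only [mem_P, mem_V] at ha hb
  simp only [cx4, ha, hb, map_zero, mul_zero, zero_mul, add_zero, zero_add, ne_eq, OfNat.ofNat_ne_zero,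
    not_false_eq_true, zero_pow]
theorem cf_V_P_x5 (ha : a ∈ sV) (hb : b ∈ sP) : cx5 a b = a.x3 * b.x8 + a.x4 * b.y7 + a.x6 * b.y3 + φ a.x7 * b.x1 + a.x7 * b.x2 := by
  simp only [mem_P, mem_V] at ha hb
  simp only [cx5, ha, hb, map_zero, mul_zero, zero_mul, add_zero, zero_add, ne_eq, OfNat.ofNat_ne_zero,
    not_false_eq_true, zero_pow]
theorem cf_W_S_y3 (b : U K) (ha : a ∈ sW) : cy3 a b = a.x1 * b.x8 := by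
  simp only [mem_W] at ha
  simp only [cy3, ha, map_zero, mul_zero, zero_mul, add_zero, zero_add, ne_eq, OfNat.ofNat_ne_zero,
    not_false_eq_true, zero_pow]
theorem cf_P_P_y3 (ha : a ∈ sP) (hb : b ∈ sP) : cy3 a b = a.x1 * b.x8 + a.x8 * b.x1 := by
  simp only [mem_P] at ha hb
  simp only [cy3, ha, hb, map_zero, mul_zero, zero_mul, add_zero, zero_add, ne_eq, OfNat.ofNat_ne_zero,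
    not_false_eq_true, zero_pow]
theorem cf_P_S_y7 (b : U K) (ha : a ∈ sP) : cy7 a b = a.x8 * b.y1 := by
  simp only [mem_P] at ha
  simp only [cy7, ha, map_zero, mul_zero, zero_mul, add_zero, zero_add, ne_eq, OfNat.ofNat_ne_zero,
    not_false_eq_true, zero_pow]
theorem cf_Z5_Q_x6 (ha : a ∈ sZ5) (hb : b ∈ QS) : cx6 a b = a.x2 * φ b.x8 := by
  simp only [mem_Q, mem_Z5] at ha hb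
  simp only [cx6, ha, hb, map_zero, mul_zero, zero_mul, add_zero, zero_add, ne_eq, OfNat.ofNat_ne_zero,
    not_false_eq_true, zero_pow]
theorem cf_Z3_P_x5 (ha : a ∈ sZ3) (hb : b ∈ sP) : cx5 a b = a.x3 * b.x8 + a.x4 * b.y7 := by
  simp only [mem_P, mem_Z3] at ha hb
  simp only [cx5, ha, hb, map_zero, mul_zero, zero_mul, add_zero, zero_add, ne_eq, OfNat.ofNat_ne_zero,
    not_false_eq_true, zero_pow]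

end Cfsg.Agent.Rf.U
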