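import Cfsg.Agent.Rf.B3
import Cfsg.Agent.Rf.B2

/-! S5262, slice B: involutions and centralizers in `U`. -/

set_option autoImplicit false
set_option maxRecDepth 8000
set_option linter.unusedSimpArgs false
set_option linter.unusedVariables false
set_option linter.unusedSectionVars false

namespace Cfsg.Agent.Rf.U

open Cfsg.Fus Cfsg.FusionSystem Equiv
open scoped commutatorElement

variable {K : Type*} [Field K] [TF K] {a b c e g m x : U K}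

theorem two_U [Finite K] : IsPGroup 2 (⊤ : Subgroup (U K)) := by
  haveI := Fintype.ofFinite K
  obtain ⟨n, -, h⟩ := FiniteField.card K 2
  let f : U K ≃ (Fin 12 → K) :=
    { toFun := fun u => ![u.y1, u.x1, u.x2, u.y3, u.x3, u.x4, u.y5, u.x5, u.x6, u.y7, u.x7, u.x8]
      invFun := fun f => ⟨f 0, f 1, f 2, f 3, f 4, f 5, f 6, f 7, f 8, f 9, f 10, f 11⟩
      left_inv := fun _ => rfl
      right_inv := fun f => by ext i; fin_cases i <;> rfl }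
  refine (IsPGroup.of_card (n := n * 12) ?_).to_subgroup _
  rw [Nat.card_congr f, Nat.card_fun, Nat.card_eq_fintype_card (α := Fin 12), Fintype.card_fin,
    Nat.card_eq_fintype_card, h, pow_mul]

theorem norm_surj [Finite K] (t : K) : ∃ s : K, s * φ s = t := by
  refine Finite.surjective_of_injective (f := fun s : K => s * φ s) (fun s r h => ?_) t
  have h1 : s * φ s = r * φ r := h
  have h2 := congrArg φ h1
  rw [map_mul, map_mul, φφ, φφ] at h2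
  by_cases h0 : r = 0
  · simpa [h0] using h1
  have h3 : r * φ r * s = r * φ r * r := by
    calc _ = s * φ s * s := by rw [h1]
      _ = _ := by linear_combination h2
  exact mul_left_cancel₀ (by simpa using h0) h3

theorem card_lt [Finite K] : ¬ Nat.card (K × K) ≤ Nat.card K := by
  have := Finite.one_lt_card (α := K)
  rw [Nat.card_prod]; nlinarith

theorem ext_Z3 (ha : a ∈ sZ3) (hb : b ∈ sZ3) (h3 : a.x3 = b.x3) (h4 : a.x4 = b.x4) (h5 : a.x5 = b.x5) : a = b := by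
  simp only [mem_Z3] at ha hb
  ext <;> simp [*]

theorem ext_Z2 (ha : a ∈ sZ2) (hb : b ∈ sZ2) (h3 : a.x3 = b.x3) (h5 : a.x5 = b.x5) : a = b :=
  ext_Z3 (Z2_Z3 ha) (Z2_Z3 hb) h3 (by simp_all) h5

theorem ext_Z1 (ha : a ∈ sZ1) (hb : b ∈ sZ1) (h5 : a.x5 = b.x5) : a = b :=
  ext_Z2 (Z1_Z2 ha) (Z1_Z2 hb) (by simp_all) h5

theorem ext_T3 (ha : a ∈ sT3) (hb : b ∈ sT3) (h3 : a.x3 = b.x3) : a = b :=
  ext_Z2 (T3_Z2 ha) (T3_Z2 hb) h3 (by simp_all)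

theorem comm_W (ha : a ∈ sW) (hb : b ∈ sW) (h3 : cx3 a b = 0) (h4 : cx4 a b = 0) (h5 : cx5 a b = 0) :
    a * b = b * a :=
  commutatorElement_eq_one_iff_mul_comm.1 (ext_Z3 (cm_W_W ha hb) (one_mem _) (by rw [cm_x3, h3]; rfl)
    (by rw [cm_x4, h4]; rfl) (by rw [cm_x5, h5]; rfl))

theorem nrm {X : Subgroup (U K)} (h : ∀ a ∈ X, ∀ s, ⁅a, s⁆ ∈ X) (s : U K) (ha : a ∈ X) : s * a * s⁻¹ ∈ X := by
  simpa [commutatorElement_def, mul_assoc] using mul_mem (inv_mem (h a ha s)) ha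

theorem nrm_W (s : U K) (ha : a ∈ sW) : s * a * s⁻¹ ∈ sW := nrm (fun _ h s => cm_W_S s h) s ha
theorem nrm_L (s : U K) (ha : a ∈ QL) : s * a * s⁻¹ ∈ QL := nrm (fun a _ s => Z7_L (cm_S_S a s)) s ha
theorem nrm_Q (s : U K) (ha : a ∈ QS) : s * a * s⁻¹ ∈ QS := nrm (fun _ h s => R_Q (cm_P_S s (Q_P h))) s ha
theorem nrm_A (s : U K) (ha : a ∈ sA) : s * a * s⁻¹ ∈ sA := nrm (fun _ h s => Z4_A (cm_Z5_S s (A_Z5 h))) s ha

/-! involutions -/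

theorem inv_y1' (h : a * a = 1) : a.y1 = 0 := by simpa using sz_x1 h

theorem inv_L (ha : a ∈ QL) (h : a * a = 1) : a ∈ sW := by
  have h1 := inv_y1' h
  have := sz_x7 h
  simp_all

theorem inv_W (ha : a ∈ sW) (h : a * a = 1) : a.y3 * φ a.y3 + φ a.x1 * a.x7 + a.x1 * a.x6 + a.x2 * a.y5 = 0 ∧
    a.x1 * a.x7 + a.y3 * a.y5 = 0 ∧ a.y5 * φ a.y5 + a.x1 * φ a.x7 + a.x2 * a.x7 + a.x6 * a.y3 = 0 := by
  simp only [mem_W] at ha
  have h3 := sz_x3 h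
  have h4 := sz_x4 h
  have h5 := sz_x5 h
  simp only [ha, map_zero, mul_zero, zero_mul, add_zero, zero_add, ne_eq, OfNat.ofNat_ne_zero,
    not_false_eq_true, zero_pow] at h3 h4 h5
  exact ⟨h3, h4, h5⟩

theorem inv_W0 (ha : a ∈ sW) (h : a * a = 1) (h1 : a.x1 = 0) : a ∈ sZ5 ∧ a.x2 * a.x7 = 0 := by
  obtain ⟨e3, e4, e5⟩ := inv_W ha h
  have k3 : a.y3 = 0 := by
    by_contra k
    simp_all
  have k5 : a.y5 = 0 := by
    by_contra k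
    simp_all
  simp_all

theorem inv_W1 (ha : a ∈ sW) (h : a * a = 1) (h1 : a.x1 ≠ 0) (h3 : a.y3 = 0) : a ∈ sV1 := by
  obtain ⟨e3, e4, e5⟩ := inv_W ha h
  simp_all

theorem cj8_W (ha : a ∈ sW) (h : a * a = 1) (h1 : a.x1 ≠ 0) :
    ∃ s : U K, s * a * s⁻¹ ∈ sV1 ∧ (s * a * s⁻¹).x1 ≠ 0 := by
  have k1 : (X8 (a.y3 / a.x1) * a * (X8 (a.y3 / a.x1))⁻¹).x1 = a.x1 := by usimp
  refine ⟨X8 (a.y3 / a.x1), inv_W1 (nrm_W _ ha) (by rw [conj_mul, h]; simp) (k1 ▸ h1) ?_, k1 ▸ h1⟩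
  usimp
  rw [div_mul_cancel₀ _ h1, CharTwo.add_self_eq_zero]

theorem cj8_L (h1 : a.y1 ≠ 0) : ∃ s : U K, (s * a * s⁻¹).y1 ≠ 0 ∧ (s * a * s⁻¹).y7 = 0 := by
  refine ⟨X8 (a.y7 / a.y1), ?_, ?_⟩ <;> usimp
  · exact h1
  · rw [div_mul_cancel₀ _ h1, CharTwo.add_self_eq_zero]

theorem cj_x8 (s a : U K) : (s * a * s⁻¹).x8 = a.x8 := by usimp; grind

theorem inv_out (h : a * a = 1) (h8 : a.x8 ≠ 0) : ∃ s : U K, s * a * s⁻¹ ∈ sV8 := by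
  have Q : ∀ {a : U K}, a * a = 1 → a.x8 ≠ 0 → a.y1 = 0 ∧ a.x1 = 0 := fun {a} h h8 => by
    have h1 := inv_y1' h
    have := sz_y3 h
    simp_all
  have cj : ∀ {a : U K} (s : U K), a * a = 1 → s * a * s⁻¹ * (s * a * s⁻¹) = 1 := fun s h => by
    rw [conj_mul, h]; simp
  have h' := cj (Y1 (a.y7 / a.x8)) h
  have k7 : (Y1 (a.y7 / a.x8) * a * (Y1 (a.y7 / a.x8))⁻¹).y7 = 0 := by
    usimp
    rw [mul_div_cancel₀ _ h8, CharTwo.add_self_eq_zero]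
  have k8 := cj_x8 (Y1 (a.y7 / a.x8)) a
  generalize hb : Y1 (a.y7 / a.x8) * a * (Y1 (a.y7 / a.x8))⁻¹ = b at h' k7 k8
  have b8 : b.x8 ≠ 0 := k8 ▸ h8
  have h'' := cj (X1 (b.y3 / b.x8)) h'
  have l7 : (X1 (b.y3 / b.x8) * b * (X1 (b.y3 / b.x8))⁻¹).y7 = 0 := by usimp; exact k7
  have l3 : (X1 (b.y3 / b.x8) * b * (X1 (b.y3 / b.x8))⁻¹).y3 = 0 := by
    usimp
    rw [mul_div_cancel₀ _ b8, CharTwo.add_self_eq_zero]
  have l8 := cj_x8 (X1 (b.y3 / b.x8)) b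
  refine ⟨X1 (b.y3 / b.x8) * Y1 (a.y7 / a.x8), ?_⟩
  rw [show X1 (b.y3 / b.x8) * Y1 (a.y7 / a.x8) * a * (X1 (b.y3 / b.x8) * Y1 (a.y7 / a.x8))⁻¹ =
    X1 (b.y3 / b.x8) * b * (X1 (b.y3 / b.x8))⁻¹ by rw [← hb]; group]
  generalize X1 (b.y3 / b.x8) * b * (X1 (b.y3 / b.x8))⁻¹ = c at h'' l7 l3 l8
  have c8 : c.x8 ≠ 0 := l8 ▸ b8
  obtain ⟨c1, c2⟩ := Q h'' c8
  have e7 := sz_x7 h''
  have e6 := sz_x6 h''
  simp_all

theorem c8_D7 (ha : a ∈ sV8) (h8 : a.x8 ≠ 0) (hc : ⁅a, b⁆ ∈ sZ1) : b ∈ sD7 := by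
  simp only [mem_Z1, cm_y7, cm_y3, cm_x4, cm_x6, cm_x7] at hc
  obtain ⟨-, -, -, c3, -, c4, -, c6, c7, c8, -⟩ := hc
  have k1 : b ∈ sP := by rw [cf_P_S_y7 b (V8_P ha)] at c7; simp_all
  have k2 : b ∈ QS := by rw [cf_P_P_y3 (V8_P ha) k1] at c3; simp_all
  rw [cf_V8_Q_x4 ha k2] at c4
  rw [cf_V8_Q_x6 ha k2] at c6
  rw [cf_V8_Q_x7 ha k2] at c8
  have k3 : b.x2 = 0 := by simpa [h8] using c4
  have k4 : b.y3 = 0 := by simpa [h8, k3] using c6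
  have k5 : b.y5 = 0 := by simpa [h8, k4] using c8
  exact ⟨k2.1, k2.2, k3, k4, k5⟩

theorem c8_B0 (ha : a ∈ sV8) (h8 : a.x8 ≠ 0) (hb : b ∈ sB0) (hc : a * b = b * a) : b ∈ sZ1 := by
  have e5 := (cf_V8_Q_x5 ha (B0_Q hb)).symm.trans (cz_x5 hc)
  have e7 := (cf_V8_Q_x7 ha (B0_Q hb)).symm.trans (cz_x7 hc)
  simp_all

theorem inv_D7 (ha : a ∈ sD7) (h : a * a = 1) : a ∈ sV8 := by
  have := sz_x7 h
  simp_all

/-! centralizers in `W` -/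

theorem cA (hm : m ∈ sA) (hb : b ∈ sW) (h : m * b = b * m) :
    m.x2 * b.y5 + m.x6 * b.x1 = 0 ∧ m.x2 * b.x7 + m.x6 * b.y3 = 0 := by
  have e3 := (cf_W_W_x3 (A_W hm) hb).symm.trans (cz_x3 h)
  have e5 := (cf_W_W_x5 (A_W hm) hb).symm.trans (cz_x5 h)
  simp_all

theorem cV1 (hm : m ∈ sV1) (hb : b ∈ sW) (h : m * b = b * m) :
    m.x1 * b.x7 = 0 ∧ φ m.x1 * b.x7 + m.x1 * b.x6 + m.x2 * b.y5 = 0 := by
  have e3 := (cf_W_W_x3 (V1_W hm) hb).symm.trans (cz_x3 h)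
  have e4 := (cf_W_W_x4 (V1_W hm) hb).symm.trans (cz_x4 h)
  simp only [mem_V1] at hm
  simpa only [hm, map_zero, mul_zero, zero_mul, add_zero] using And.intro e4 e3

theorem cV (hm : m ∈ sV) (hb : b ∈ sW) (h : m * b = b * m) :
    m.x7 * b.x1 = 0 ∧ m.x6 * b.y3 + φ m.x7 * b.x1 + m.x7 * b.x2 = 0 := by
  have e4 := (cf_W_W_x4 (V_W hm) hb).symm.trans (cz_x4 h)
  have e5 := (cf_W_W_x5 (V_W hm) hb).symm.trans (cz_x5 h)
  simp only [mem_V] at hm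
  simpa only [hm, map_zero, mul_zero, zero_mul, add_zero, zero_add] using And.intro e4 e5

theorem invV1 (hm : m ∈ sV1) (h1 : m.x1 ≠ 0) (hx : x ∈ sW) (h : x * x = 1) (hc : m * x = x * m) : x ∈ sV1 := by
  obtain ⟨e3, e4, e5⟩ := inv_W hx h
  obtain ⟨c1, c2⟩ := cV1 hm hx hc
  have k5 : x.y5 = 0 := by
    by_contra k
    simp_all
  simp_all

theorem invV (hm : m ∈ sV) (h1 : m.x7 ≠ 0) (hx : x ∈ sW) (h : x * x = 1) (hc : m * x = x * m) : x ∈ sV := by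
  obtain ⟨c1, c2⟩ := cV hm hx hc
  have := inv_W0 hx h (by simp_all)
  simp_all

theorem zA (ha : a ∈ sA) (ha' : a ∉ sZ3) (hz : x ∈ sZ2) : ∃ w ∈ sW, ⁅a, w⁆ = x := by
  by_cases h : a.x2 = 0
  · have h6 : a.x6 ≠ 0 := fun k => ha' (by simp_all)
    have hw : (⟨0, x.x3 / a.x6, 0, x.x5 / a.x6, 0, 0, 0, 0, 0, 0, 0, 0⟩ : U K) ∈ sW := by simp
    refine ⟨_, hw, ext_Z2 (cm_A_W ha hw) hz ?_ ?_⟩
    · rw [cm_x3, cf_W_W_x3 (A_W ha) hw]; simp_all [mul_div_cancel₀]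
    · rw [cm_x5, cf_W_W_x5 (A_W ha) hw]; simp_all [mul_div_cancel₀]
  · have hw : (⟨0, 0, 0, 0, 0, 0, x.x3 / a.x2, 0, 0, 0, x.x5 / a.x2, 0⟩ : U K) ∈ sW := by simp
    refine ⟨_, hw, ext_Z2 (cm_A_W ha hw) hz ?_ ?_⟩
    · rw [cm_x3, cf_W_W_x3 (A_W ha) hw]; simp_all [mul_div_cancel₀]
    · rw [cm_x5, cf_W_W_x5 (A_W ha) hw]; simp_all [mul_div_cancel₀]

/-- a property of the involutions of `A` -/
def PA (a : U K) : Prop := ∀ c ∈ sW, a * c = c * a → ∃ w ∈ sW, ⁅a, w⁆ = c * c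

theorem pA (ha : a ∈ sA) (ha' : a ∉ sZ3) : PA a := fun c hc h => by
  refine zA ha ha' ?_
  obtain ⟨e1, e2⟩ := cA ha hc h
  have k := sq_W hc
  have k4 : c.x1 * c.x7 + c.y3 * c.y5 = 0 := by
    by_cases h2 : a.x2 = 0
    · have h6 : a.x6 ≠ 0 := fun k => ha' (by simp_all)
      simp_all
    · refine mul_left_cancel₀ h2 ?_
      grind
  have : (c * c).x4 = 0 := by rw [sq_x4]; simp_all
  simp_all only [mem_Z3, mem_Z2, and_self]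

theorem PA.map {τ : Perm (U K)} (hτ : HomOn τ sW) (h1 : ∀ x ∈ sW, τ x ∈ sW) (h2 : ∀ x ∈ sW, τ⁻¹ x ∈ sW)
    (ha : a ∈ sW) (h : PA a) : PA (τ a) := fun c hc e => by
  have hc' := h2 c hc
  obtain ⟨w, hw, k⟩ := h _ hc' (τ.injective (by
    rw [hτ.map_mul ha hc', hτ.map_mul hc' ha, perm_apply_inv_self, e]))
  refine ⟨_, h1 w hw, ?_⟩
  rw [← hτ.map_commutator ha hw, k, hτ.map_mul hc' hc', perm_apply_inv_self]

theorem PA.mem (ha : a ∈ sW) (h2 : a * a = 1) (h : PA a) : a ∈ sA := by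
  by_cases h1 : a.x1 = 0
  · obtain ⟨k1, k2⟩ := inv_W0 ha h2 h1
    by_contra k
    have h7 : a.x7 ≠ 0 := fun e => k (by simp_all)
    have hV : a ∈ sV := by simp_all
    have hc : (⟨0, 0, a.x6 / a.x7, 1, 0, 0, 0, 0, 0, 0, 0, 0⟩ : U K) ∈ sW := by simp
    obtain ⟨w, hw, e⟩ := h _ hc (comm_W ha hc (by rw [cf_W_W_x3 ha hc]; simp_all) (by rw [cf_W_W_x4 ha hc]; simp_all)
      (by rw [cf_W_W_x5 ha hc]; simp_all [mul_div_cancel₀, CharTwo.add_self_eq_zero]))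
    have e3 := congrArg U.x3 e
    have e4 := congrArg U.x4 e
    rw [cm_x3, cf_W_W_x3 ha hw, sq_x3] at e3
    rw [cm_x4, cf_W_W_x4 ha hw, sq_x4] at e4
    simp_all
  · exfalso
    obtain ⟨s, k1, k2⟩ := cj8_W ha h2 h1
    have h' : PA (s * a * s⁻¹) := h.map (τ := cj s) (homOn_cj s _) (fun x hx => nrm_W s hx)
      (fun x hx => by simpa using nrm_W s⁻¹ hx) ha
    generalize s * a * s⁻¹ = a at k1 k2 h'
    have ha := V1_W k1
    have hc : (⟨0, 0, 0, 0, 0, 0, 1, 0, a.x2 / a.x1, 0, 0, 0⟩ : U K) ∈ sW := by simp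
    obtain ⟨w, hw, e⟩ := h' _ hc (comm_W ha hc
      (by rw [cf_W_W_x3 ha hc]; simp_all [mul_div_cancel₀, CharTwo.add_self_eq_zero])
      (by rw [cf_W_W_x4 ha hc]; simp_all) (by rw [cf_W_W_x5 ha hc]; simp_all))
    have e5 := congrArg U.x5 e
    have e4 := congrArg U.x4 e
    rw [cm_x5, cf_W_W_x5 ha hw, sq_x5] at e5
    rw [cm_x4, cf_W_W_x4 ha hw, sq_x4] at e4
    simp_all

/-! centralizers in `QL` -/

theorem cL1 (hm : m ∈ sW) (h : m * m = 1) (hg : g ∈ QL) (h1 : g.y1 ≠ 0) (h7 : g.y7 = 0) (hc : m * g = g * m) :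
    m ∈ sV1 := by
  have e2 := (cf_W_L_x2 hm hg).symm.trans (cz_x2 hc)
  have e4 := (cf_W_L_x4 hm hg).symm.trans (cz_x4 hc)
  have e6 := (cf_W_L_x6 hm hg).symm.trans (cz_x6 hc)
  obtain ⟨s3, s4, s5⟩ := inv_W hm h
  have k3 : m.y3 = 0 := by simp_all
  have k7 : m.x7 = 0 := by simp_all
  have k5 : m.y5 = 0 := by simp_all
  have k6 : m.x6 = 0 := by
    by_contra k
    simp_all
  simp_all

theorem cL7 (hm : m ∈ sW) (h : m * m = 1) (hg : g ∈ QL) (h1 : g.y1 = 0) (h7 : g.y7 ≠ 0) (hc : m * g = g * m) :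
    m ∈ sV := by
  have e2 := (cf_W_L_x2 hm hg).symm.trans (cz_x2 hc)
  have e4 := (cf_W_L_x4 hm hg).symm.trans (cz_x4 hc)
  obtain ⟨s1, s2⟩ := inv_W0 hm h (by simp_all)
  have k2 : m.x2 = 0 := by
    by_contra k
    simp_all
  simp_all

theorem cD (hm : m ∈ sV1) (hm' : m ∉ sZ3) (he : e ∈ QL) (hc : m * e = e * m) : e ∈ sD := by
  have e2 := (cf_V1_L_x2 hm he).symm.trans (cz_x2 hc)
  have e4 := (cf_V1_L_x4 hm he).symm.trans (cz_x4 hc)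
  have e5 := (cf_V1_L_x5 hm he).symm.trans (cz_x5 hc)
  by_cases h : m.x1 = 0
  · have h2 : m.x2 ≠ 0 := fun k => hm' (by simp_all)
    simp_all
  · simp_all

theorem cR (hm : m ∈ sV) (hm' : m ∉ sZ3) (he : e ∈ QL) (hc : m * e = e * m) : e ∈ sR := by
  have e3 := (cf_V_L_x3 hm he).symm.trans (cz_x3 hc)
  have e4 := (cf_V_L_x4 hm he).symm.trans (cz_x4 hc)
  have e6 := (cf_V_L_x6 hm he).symm.trans (cz_x6 hc)
  by_cases h : m.x7 = 0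
  · have h2 : m.x6 ≠ 0 := fun k => hm' (by simp_all)
    simp_all
  · simp_all

theorem c_X3 (h : X3 1 * x = x * X3 1) : x ∈ QL := by
  simpa using (cf_Z2_S_x5 x (by simp)).symm.trans (cz_x5 h)

theorem c_X4 (h : ⁅X4 (1 : K), x⁆ ∈ sZ1) : x ∈ sP := by
  have := h.2.2.2.2.1
  rw [cm_x3, cf_Z3_S_x3 x (by simp)] at this
  simpa using this

theorem c_Z3 (h3 : X3 1 * x = x * X3 1) (h4 : X4 1 * x = x * X4 1) : x ∈ sW := by
  have k1 := c_X3 h3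
  have k2 := c_X4 (commutatorElement_eq_one_iff_mul_comm.2 h4 ▸ one_mem _)
  have := (cf_Z3_P_x5 (by simp) k2).symm.trans (cz_x5 h4)
  simp_all

theorem c_A (hx : x ∈ sW) (h2 : X2 1 * x = x * X2 1) (h6 : X6 1 * x = x * X6 1) : x ∈ sA := by
  have k1 := cA (by simp) hx h2
  have k2 := cA (by simp) hx h6
  simp_all

theorem c_W (hx : x ∈ sA) (h1 : X1 1 * x = x * X1 1) (h7 : X7 1 * x = x * X7 1) : x ∈ sZ3 := by
  have k1 := cV1 (by simp) (A_W hx) h1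
  have k2 := cV (by simp) (A_W hx) h7
  simp_all

theorem c_V (h3 : X3 1 * x = x * X3 1) (h4 : X4 1 * x = x * X4 1) (h6 : X6 1 * x = x * X6 1)
    (h7 : X7 1 * x = x * X7 1) : x ∈ sC := by
  have hx := c_Z3 h3 h4
  have k1 := cA (by simp) hx h6
  have k2 := cV (by simp) hx h7
  simp_all

end Cfsg.Agent.Rf.U
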