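import Cfsg.Agent.Rf.B4

/-! S5262, slice B: `Ω₁Z(E) ≤ W`, and `E ≰ W` for an essential subgroup `E`. -/

set_option autoImplicit false
set_option maxRecDepth 8000
set_option linter.unusedSimpArgs false
set_option linter.unusedVariables false
set_option linter.unusedSectionVars false

namespace Cfsg.Agent.Rf.U

open Subgroup Cfsg.Fus Cfsg.Agent.Pu Equiv
open Cfsg.FusionSystem hiding inv_mem
open scoped commutatorElement

variable {K : Type*} [Field K] [TF K] [Finite K] {a b c e g m x s : U K} {F : FusionSystem (⊤ : Subgroup (U K))}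
  {E E' A B C : Subgroup (U K)}

/-- invariant subgroups -/
abbrev Is (F : FusionSystem (⊤ : Subgroup (U K))) (E A : Subgroup (U K)) : Prop := Iw F E (A : Set (U K))

theorem add_eq_zero2 {p q : K} : p + q = 0 ↔ p = q := CharTwo.add_eq_zero

theorem ZE_conj (h : ∀ x, s * x * s⁻¹ ∈ E' ↔ x ∈ E) (hm : m ∈ ZE E) : s * m * s⁻¹ ∈ ZE E' :=
  ⟨(h m).2 hm.1, by rw [conj_mul, hm.2.1]; simp, fun e he => by
    have := hm.2.2 (s⁻¹ * e * s) ((h _).1 (by simpa [mul_assoc] using he))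
    calc _ = s * (m * (s⁻¹ * e * s)) * s⁻¹ := by group
      _ = _ := by rw [this]; group⟩

theorem le_conj (h : ∀ x, s * x * s⁻¹ ∈ E' ↔ x ∈ E) (hA : ∀ s, ∀ a ∈ A, s * a * s⁻¹ ∈ A) (hE : E ≤ A) : E' ≤ A :=
  fun x hx => by simpa [mul_assoc] using hA s _ (hE ((h (s⁻¹ * x * s)).1 (by simpa [mul_assoc] using hx)))

theorem iwA (hW : Is F E sW) (h3 : Is F E sZ3) : Is F E sA := ⟨fun x hx => hW.1 x (A_W hx), fun τ hτ x hx => by
  by_cases h : x ∈ sZ3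
  · exact Z3_A (h3.2 τ hτ x h)
  have k := hτ.homOn.mono (show sW ≤ E from hW.1)
  refine ((pA hx h).map k (hW.2 τ hτ) (hW.2 _ hτ.symm) (A_W hx)).mem (hW.2 τ hτ x (A_W hx)) ?_
  rw [← k.map_mul (A_W hx) (A_W hx), sq_A hx, k.map_one]⟩

section
variable (hE : F.IsEssential 2 E)
include hE

theorem fin (h : St F E g A) (h2 : ∀ x ∈ E, ⁅x, g⁆ ∈ A) : g ∈ E := h.fin two_U hE (mem_top g) h2

theorem centE (h : ∀ x ∈ E, g * x = x * g) : g ∈ E := ess_cent hE (mem_top g) fun x hx => (h x hx).symm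

theorem Z1M (ha : a ∈ sZ1) : a ∈ ZE E :=
  ⟨centE hE fun x _ => cc_Z1_S x ha, sq_V (Z1_V ha), fun x _ => cc_Z1_S x ha⟩

theorem off2 (hC : C ≤ ZE E) (h1 : ∀ e ∈ E, ∀ b ∈ B, ⁅e, b⁆ ∈ ZE E) (h2 : ∀ m ∈ ZE E, ∀ b ∈ B, ⁅m, b⁆ ∈ C)
    (h3 : ∀ c ∈ C, ∀ b ∈ B, c * b = b * c) (h4 : ∀ m ∈ ZE E, ∀ b ∈ B, m * b = b * m → m ∈ C ∨ b ∈ E)
    (h5 : ∀ b ∈ B, b * b ∈ E) (f : U K → K) (hf : ∀ m ∈ ZE E, ∀ m' ∈ ZE E, f m = f m' → m⁻¹ * m' ∈ C)
    (g : K × K → U K) (hg : ∀ k, g k ∈ B) (hg' : ∀ k k', (g k)⁻¹ * g k' ∈ E → k = k') : False :=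
  card_lt (off two_U hE le_top hC h1 h2 h3 h4 h5 f hf g hg hg')

theorem caseA (hm : m ∈ ZE E) (hV : m ∈ sV8) (h8 : m.x8 ≠ 0) : False := by
  have hD : ∀ e ∈ E, e ∈ sD7 := fun e he =>
    c8_D7 hV h8 (commutatorElement_eq_one_iff_mul_comm.2 (hm.2.2 e he) ▸ one_mem _)
  have hN : ∀ n ∈ sN7, n ∈ ZE E := fun n hn =>
    ⟨centE hE fun x hx => cc_N7_D7 hn (hD x hx), sq_V (N7_V hn), fun x hx => cc_N7_D7 hn (hD x hx)⟩
  have h8' : ∀ n ∈ ZE E, n ∈ sV8 := fun n hn => inv_D7 (hD n hn.1) hn.2.1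
  refine off2 hE (B := sB0) (C := ZE E ⊓ sV) inf_le_left (fun e he b hb => hN _ (cm_D7_B0 (hD e he) hb))
    (fun e he b hb => ⟨hN _ (cm_D7_B0 (hD e he.1) hb), N7_V (cm_D7_B0 (hD e he.1) hb)⟩)
    (fun c hc b hb => cc_V_B0 hc.2 hb) (fun n hn b hb e => ?_) (fun b hb => (Z1M hE (sq_B0 hb)).1) U.x8
    (fun n hn n' hn' e => ?_) (fun p => ⟨0, 0, 0, 0, p.1, 0, p.2, 0, 0, 0, 0, 0⟩) (fun p => by simp)
    fun p q h => ?_
  · by_cases k : n.x8 = 0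
    · exact Or.inl ⟨hn, by have := h8' n hn; simp_all⟩
    · exact Or.inr (Z1M hE (c8_B0 (h8' n hn) k hb e)).1
  · have k := mul_mem (inv_mem hn) hn'
    have k1 := h8' _ k
    have k2 : (n⁻¹ * n').x8 = 0 := by usimp; exact add_eq_zero2.2 e
    exact mem_inf.2 ⟨k, by simp_all only [mem_V8, mem_V, and_self]⟩
  · have k := c8_B0 hV h8 (mul_mem (inv_mem (by simp)) (by simp)) (hm.2.2 _ h)
    have k3 := k.2.2.2.2.1
    have k5 := k.2.2.2.2.2.2.1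
    revert k3 k5
    usimp
    exact fun k3 k5 => Prod.ext (add_eq_zero2.1 k3) (add_eq_zero2.1 k5)

theorem ZE_W (hm : m ∈ ZE E) : m ∈ sW := by
  refine inv_L ?_ hm.2.1
  by_contra h
  obtain ⟨s, hs⟩ := inv_out hm.2.1 h
  obtain ⟨E', h1, h2⟩ := ess_conj hE (mem_top s)
  exact caseA h1 (ZE_conj h2 hm) hs (by rwa [cj_x8])

theorem Z2E (ha : a ∈ sZ2) : a ∈ E :=
  fin hE (St.one iw_ZE fun x hx => (cc_Z2_L ha (W_L (ZE_W hE hx))).symm) fun x _ => Z1M hE (cm_symm (cm_Z2_S x ha))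

theorem Z2M (hL : E ≤ QL) (ha : a ∈ sZ2) : a ∈ ZE E := ⟨Z2E hE ha, sq_V (Z2_V ha), fun x hx => cc_Z2_L ha (hL hx)⟩

theorem Z3E_L (hL : E ≤ QL) (ha : a ∈ sZ3) : a ∈ E :=
  fin hE (St.one iw_ZE fun x hx => (cc_Z3_W ha (ZE_W hE hx)).symm) fun x _ => Z2M hE hL (cm_symm (cm_Z3_S x ha))

theorem Z3E_P (hP : E ≤ sP) (ha : a ∈ sZ3) : a ∈ E :=
  fin hE (St.one iw_ZE fun x hx => (cc_Z3_W ha (ZE_W hE hx)).symm) fun x hx => Z1M hE (cm_symm (cm_Z3_P ha (hP hx)))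

theorem L_le (hL : E ≤ QL) (hW : Is F E sW) (h3 : Is F E sZ3) : QL ≤ E := fun g hg => by
  have hA := iwA hW h3
  have h2 : Is F E sZ2 := (hA.comm hW).of_eq (by rintro _ ⟨a, ha, b, hb, rfl⟩; exact cm_A_W ha hb) fun x hx =>
    ⟨X2 1, by simp, zA (by simp) (by simp) hx⟩
  exact fin hE ((((St.one h2 fun x hx => cc_Z2_L hx hg).step h3 fun x hx => cm_Z3_S g hx).step hA
    fun x hx => cm_A_L hx hg).step hW fun x hx => cm_W_L hx hg) fun x hx => cm_L_L (hL hx) hg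

section
variable (hW : E ≤ sW)
include hW

theorem Z3M (ha : a ∈ sZ3) : a ∈ ZE E :=
  ⟨centE hE fun x hx => cc_Z3_W ha (hW hx), sq_V (Z3_V ha), fun x hx => cc_Z3_W ha (hW hx)⟩

theorem cW (hg : g ∈ sW) (h : ∀ m ∈ ZE E, m * g = g * m) : g ∈ E :=
  fin hE (St.one iw_ZE h) fun x hx => Z3M hE hW (cm_W_W (hW hx) hg)

theorem offW (hB : B ≤ sW) (hC : C ≤ ZE E) (hC' : sZ3 ≤ C) (h3 : ∀ c ∈ C, ∀ b ∈ B, c * b = b * c)
    (h4 : ∀ m ∈ ZE E, ∀ b ∈ B, m * b = b * m → m ∈ C ∨ b ∈ E) (f : U K → K)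
    (hf : ∀ m ∈ ZE E, ∀ m' ∈ ZE E, f m = f m' → m⁻¹ * m' ∈ C)
    (g : K × K → U K) (hg : ∀ k, g k ∈ B) (hg' : ∀ k k', (g k)⁻¹ * g k' ∈ E → k = k') : False :=
  off2 hE hC (fun e he b hb => Z3M hE hW (cm_W_W (hW he) (hB hb))) (fun e he b hb => hC' (cm_W_W (hW he.1) (hB hb)))
    h3 h4 (fun b hb => (Z3M hE hW (sq_W (hB hb))).1) f hf g hg hg'

theorem caseV1 (hm : m ∈ ZE E) (hV : m ∈ sV1) (h1 : m.x1 ≠ 0) : False := by
  have MV : ∀ n ∈ ZE E, n ∈ sV1 := fun n hn => invV1 hV h1 (hW hn.1) hn.2.1 (hm.2.2 n hn.1)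
  by_cases hl : ∀ n ∈ ZE E, n.x1 = 0 → n ∈ sZ3
  · have k : ∀ n ∈ ZE E, n.x1 ≠ 0 → ∀ b ∈ sV, n * b = b * n → b ∈ sZ3 := fun n hn k b hb e => by
      obtain ⟨c1, c2⟩ := cV1 (MV n hn) (V_W hb) e
      simp_all
    refine offW hE hW (B := sV) (C := sZ3) (fun _ => V_W) (fun _ => Z3M hE hW) le_rfl
      (fun c hc b hb => cc_Z3_W hc (V_W hb)) (fun n hn b hb e => ?_) U.x1 (fun n hn n' hn' e => ?_)
      (fun p => ⟨0, 0, 0, 0, 0, 0, 0, 0, p.1, 0, p.2, 0⟩) (fun p => by simp) fun p q h => ?_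
    · by_cases k1 : n.x1 = 0
      · exact Or.inl (hl n hn k1)
      · exact Or.inr (Z3M hE hW (k n hn k1 b hb e)).1
    · refine hl _ (mul_mem (inv_mem hn) hn') ?_
      have := MV n hn
      usimp
      simp_all [add_eq_zero2]
    · have k := k m hm h1 _ (mul_mem (inv_mem (by simp)) (by simp)) (hm.2.2 _ h)
      have k3 := k.2.2.2.2.2.1
      have k5 := k.2.2.2.2.2.2.2.1
      revert k3 k5
      usimp
      exact fun k3 k5 => Prod.ext (add_eq_zero2.1 k3) (add_eq_zero2.1 k5)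
  push Not at hl
  obtain ⟨n, hn, n1, n2⟩ := hl
  have n3 : n.x2 ≠ 0 := fun k => n2 (by have := MV n hn; simp_all)
  have hC : ∀ e ∈ E, e ∈ sC1 := fun e he => by
    obtain ⟨k1, k1'⟩ := cV1 hV (hW he) (hm.2.2 e he)
    obtain ⟨k2, k2'⟩ := cV1 (MV n hn) (hW he) (hn.2.2 e he)
    have := hW he
    simp_all
  have hC' : ∀ e ∈ sC1, e ∈ E := fun e he => cW hE hW (C1_W he) fun x hx => cc_V1_C1 (MV x hx) he
  have i1 : Is F E sV1 := Iw.top.invol.of_eq (fun x hx => invV1 hV h1 (hW hx.1) hx.2 (hm.2.2 x hx.1))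
    fun x hx => ⟨hC' x (V1_C1 hx), sq_V1 hx⟩
  have i2 : Is F E sT3 := Iw.top.sq.of_eq (by rintro _ ⟨a, ha, rfl⟩; exact sq_C1 (hC a ha)) fun x hx => by
    obtain ⟨t, ht⟩ := norm_surj x.x3
    exact ⟨Y3 t, hC' _ (by simp), ext_T3 (sq_C1 (by simp)) hx (by rw [sq_x3]; simpa using ht)⟩
  have := fin hE (g := X6 1) ((St.one i2 fun x hx => cc_Z2_L (T3_Z2 hx) (by simp)).step i1
    fun x hx => cm_V1_D hx (by simp)) fun x hx => Z3_V1 (cm_W_W (hW hx) (by simp))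
  simpa using hC _ this

theorem caseV (hm : m ∈ ZE E) (hV : m ∈ sV) (h1 : m.x7 ≠ 0) : False := by
  have MV : ∀ n ∈ ZE E, n ∈ sV := fun n hn => invV hV h1 (hW hn.1) hn.2.1 (hm.2.2 n hn.1)
  by_cases hl : ∀ n ∈ ZE E, n.x7 = 0 → n ∈ sZ3
  · have k : ∀ n ∈ ZE E, n.x7 ≠ 0 → ∀ b ∈ sV1, n * b = b * n → b ∈ sZ3 := fun n hn k b hb e => by
      obtain ⟨c1, c2⟩ := cV (MV n hn) (V1_W hb) e
      simp_all
    refine offW hE hW (B := sV1) (C := sZ3) (fun _ => V1_W) (fun _ => Z3M hE hW) le_rfl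
      (fun c hc b hb => cc_Z3_W hc (V1_W hb)) (fun n hn b hb e => ?_) U.x7 (fun n hn n' hn' e => ?_)
      (fun p => ⟨0, p.1, p.2, 0, 0, 0, 0, 0, 0, 0, 0, 0⟩) (fun p => by simp) fun p q h => ?_
    · by_cases k1 : n.x7 = 0
      · exact Or.inl (hl n hn k1)
      · exact Or.inr (Z3M hE hW (k n hn k1 b hb e)).1
    · refine hl _ (mul_mem (inv_mem hn) hn') ?_
      have := MV n hn
      have := MV n' hn'
      usimp
      simp_all [add_eq_zero2]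
    · have k := k m hm h1 _ (mul_mem (inv_mem (by simp)) (by simp)) (hm.2.2 _ h)
      have k3 := k.2.1
      have k5 := k.2.2.1
      revert k3 k5
      usimp
      exact fun k3 k5 => Prod.ext (add_eq_zero2.1 k3) (add_eq_zero2.1 k5)
  push Not at hl
  obtain ⟨n, hn, n1, n2⟩ := hl
  have n3 : n.x6 ≠ 0 := fun k => n2 (by have := MV n hn; simp_all)
  have hC : ∀ e ∈ E, e ∈ sC := fun e he => by
    obtain ⟨k1, k1'⟩ := cV hV (hW he) (hm.2.2 e he)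
    obtain ⟨k2, k2'⟩ := cV (MV n hn) (hW he) (hn.2.2 e he)
    have := hW he
    simp_all
  have hC' : ∀ e ∈ sC, e ∈ E := fun e he => cW hE hW (C_W he) fun x hx => cc_V_C (MV x hx) he
  have i1 : Is F E sV := Iw.top.invol.of_eq (fun x hx => invV hV h1 (hW hx.1) hx.2 (hm.2.2 x hx.1))
    fun x hx => ⟨hC' x (V_C hx), sq_V hx⟩
  have i2 : Is F E sZ1 := Iw.top.sq.of_eq (by rintro _ ⟨a, ha, rfl⟩; exact sq_C (hC a ha)) fun x hx => by
    obtain ⟨t, ht⟩ := norm_surj x.x5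
    exact ⟨Y5 t, hC' _ (by simp), ext_Z1 (sq_C (by simp)) hx (by rw [sq_x5]; simpa using ht)⟩
  have := fin hE (g := X2 1) ((St.one i2 fun x hx => cc_Z1_S _ hx).step i1
    fun x hx => cm_V_Q hx (by simp)) fun x hx => Z3_V (cm_W_W (hW hx) (by simp))
  simpa using hC _ this

theorem caseW : False := by
  by_cases h3 : ∀ m ∈ ZE E, m ∈ sZ3
  · have k : ∀ g ∈ sW, g ∈ E := fun g hg => cW hE hW hg fun m hm => cc_Z3_W (h3 m hm) hg
    have := L_le hE (fun _ h => W_L (hW h)) (Iw.top.of_eq hW k) (iw_ZE.of_eq h3 fun _ => Z3M hE hW)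
      (show Y1 1 ∈ QL by simp)
    simpa using hW this
  push Not at h3
  obtain ⟨m, hm, m3⟩ := h3
  by_cases hA : ∀ m ∈ ZE E, m ∈ sA
  · have AE : ∀ a ∈ sA, a ∈ E := fun a ha => cW hE hW (A_W ha) fun m hm => cc_A_A (hA m hm) ha
    by_cases h2 : ∀ m ∈ ZE E, m.x2 = 0
    · have k : ∀ n ∈ ZE E, n.x6 ≠ 0 → ∀ b ∈ sB2, n * b = b * n → b ∈ sA := fun n hn k b hb e => by
        have := cA (hA n hn) (B2_W hb) e
        simp_all
      have k' : ∀ n ∈ ZE E, n.x6 = 0 → n ∈ sZ3 := fun n hn k => by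
        have := hA n hn
        have := h2 n hn
        simp_all only [mem_A, mem_Z3, and_self]
      refine offW hE hW (B := sB2) (C := sZ3) (fun _ => B2_W) (fun _ => Z3M hE hW) le_rfl
        (fun c hc b hb => cc_Z3_W hc (B2_W hb)) (fun n hn b hb e => ?_) U.x6 (fun n hn n' hn' e => ?_)
        (fun p => ⟨0, p.1, 0, p.2, 0, 0, 0, 0, 0, 0, 0, 0⟩) (fun p => by simp) fun p q h => ?_
      · by_cases k1 : n.x6 = 0
        · exact Or.inl (k' n hn k1)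
        · exact Or.inr (AE _ (k n hn k1 b hb e))
      · refine k' _ (mul_mem (inv_mem hn) hn') ?_
        have := hA n hn
        usimp
        simp_all [add_eq_zero2]
      · have k := k m hm (fun e => m3 (k' m hm e)) _ (mul_mem (inv_mem (by simp)) (by simp)) (hm.2.2 _ h)
        have k3 := k.2.1
        have k5 := k.2.2.1
        revert k3 k5
        usimp
        exact fun k3 k5 => Prod.ext (add_eq_zero2.1 k3) (add_eq_zero2.1 k5)
    push Not at h2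
    obtain ⟨m, hm, m2⟩ := h2
    have k : ∀ n ∈ ZE E, n.x2 ≠ 0 → ∀ b ∈ sB1, n * b = b * n → b ∈ sA := fun n hn k b hb e => by
      have := cA (hA n hn) (B1_W hb) e
      simp_all
    have k' : ∀ n ∈ ZE E, n.x2 = 0 → n ∈ ZE E ⊓ sZ4 := fun n hn k => mem_inf.2 ⟨hn, by
      have := hA n hn
      simp_all only [mem_A, mem_Z4, and_self]⟩
    refine offW hE hW (B := sB1) (C := ZE E ⊓ sZ4) (fun _ => B1_W) inf_le_left
      (fun _ h => ⟨Z3M hE hW h, Z3_Z4 h⟩) (fun c hc b hb => cc_Z4_B1 hc.2 hb) (fun n hn b hb e => ?_) U.x2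
      (fun n hn n' hn' e => ?_) (fun p => ⟨0, 0, 0, 0, 0, 0, p.1, 0, 0, 0, p.2, 0⟩) (fun p => by simp)
      fun p q h => ?_
    · by_cases k1 : n.x2 = 0
      · exact Or.inl (k' n hn k1)
      · exact Or.inr (AE _ (k n hn k1 b hb e))
    · refine k' _ (mul_mem (inv_mem hn) hn') ?_
      have := hA n hn
      usimp
      simp_all [add_eq_zero2]
    · have k := k m hm m2 _ (mul_mem (inv_mem (by simp)) (by simp)) (hm.2.2 _ h)
      have k3 := k.2.2.2.1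
      have k5 := k.2.2.2.2.2.1
      revert k3 k5
      usimp
      exact fun k3 k5 => Prod.ext (add_eq_zero2.1 k3) (add_eq_zero2.1 k5)
  push Not at hA
  obtain ⟨m, hm, mA⟩ := hA
  by_cases h1 : m.x1 = 0
  · obtain ⟨k1, k2⟩ := inv_W0 (hW hm.1) hm.2.1 h1
    have h7 : m.x7 ≠ 0 := fun e => mA (by simp_all)
    exact caseV hE hW hm (by simp_all) h7
  · obtain ⟨s, k1, k2⟩ := cj8_W (hW hm.1) hm.2.1 h1
    obtain ⟨E', h1, h2⟩ := ess_conj hE (mem_top s)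
    exact caseV1 h1 (le_conj h2 (fun s _ => nrm_W s) hW) (ZE_conj h2 hm) k1 k2

end

end

end Cfsg.Agent.Rf.U
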