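import Cfsg.Agent.Rf.B5

/-! S5262, slice B: essential subgroups inside `QL` or `QS`. -/

set_option autoImplicit false
set_option maxRecDepth 8000
set_option linter.unusedSimpArgs false
set_option linter.unusedVariables false
set_option linter.unusedSectionVars false

namespace Cfsg.Agent.Rf.U

open Subgroup Cfsg.Fus Cfsg.Agent.Pu Equiv
open Cfsg.FusionSystem hiding inv_mem
open scoped commutatorElement

variable {K : Type*} [Field K] [TF K] [Finite K] {a b c e f g m x s : U K} {F : FusionSystem (⊤ : Subgroup (U K))}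
  {E E' A B C : Subgroup (U K)}

/-- `Ω₁Z(Ω₁ E)` -/
def XE (E : Subgroup (U K)) : Subgroup (U K) :=
  closure {x | (x ∈ E ∧ x * x = 1) ∧ ∀ a, a ∈ E ∧ a * a = 1 → x * a = a * x}

theorem iXE : Is F E (XE E) := (Iw.top.invol.cent Iw.top.invol).clos

theorem eq_conj (h : ∀ x, s * x * s⁻¹ ∈ E' ↔ x ∈ E) (hA : ∀ s, ∀ a ∈ A, s * a * s⁻¹ ∈ A) (hE : E' = A) : E = A := by
  ext x
  rw [← h, hE]
  exact ⟨fun k => by simpa [mul_assoc] using hA s⁻¹ _ k, hA s x⟩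

variable (hE : F.IsEssential 2 E)
include hE

section
variable (hL : E ≤ QL)
include hL

theorem Z3X (ha : a ∈ sZ3) : a ∈ XE E :=
  subset_closure ⟨⟨Z3E_L hE hL ha, sq_V (Z3_V ha)⟩, fun b hb => cc_Z3_W ha (inv_L (hL hb.1) hb.2)⟩

theorem caseL1 (hg : g ∈ E) (h1 : g.y1 ≠ 0) (h7 : g.y7 = 0) (hm : m ∈ ZE E) : m ∈ sZ2 := by
  have MV : ∀ n ∈ ZE E, n ∈ sV1 := fun n hn => cL1 (ZE_W hE hn) hn.2.1 (hL hg) h1 h7 (hn.2.2 g hg)
  have m3 : m ∈ sZ3 := by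
    by_contra m3
    have hD : ∀ e ∈ E, e ∈ sD := fun e he => cD (MV m hm) m3 (hL he) (hm.2.2 e he)
    have VE : ∀ v ∈ sV1, v ∈ E := fun v hv => fin hE (St.one iw_ZE fun x hx => cc_V1_C1 (MV x hx) (V1_C1 hv))
      fun x hx => Z2M hE hL (T3_Z2 (cm_symm (cm_V1_D hv (hD x hx))))
    have XV : XE E ≤ sV1 := (closure_le _).2 fun x hx => invV1 (m := X1 1) (by simp) (by simp)
      (inv_L (hL hx.1.1) hx.1.2) hx.1.2 (hx.2 _ ⟨VE _ (by simp), sq_V1 (by simp)⟩).symm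
    have iT : Is F E sT3 := (iXE.comm Iw.top).of_eq (by rintro _ ⟨a, ha, b, hb, rfl⟩; exact cm_V1_D (XV ha) (hD b hb))
      fun x hx => ⟨X4 (x.x3 / g.y1), Z3X hE hL (by simp), g, hg, ext_T3 (cm_V1_D (by simp) (hD g hg)) hx (by
        rw [cm_x3, cf_Z3_S_x3 g (by simp), X4_x4, div_mul_cancel₀ _ h1])⟩
    have BE : ∀ d ∈ sB3, d ∈ E := fun d hd => fin hE ((St.one iT fun x hx => cc_Z2_L (T3_Z2 hx) (B3_L hd)).step iXE
      fun x hx => cm_V1_D (XV hx) (B3_D hd)) fun x hx => Z3X hE hL (cm_D_B3 (hD x hx) hd)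
    have k1 := cV1 (b := X6 1) (MV m hm) (by simp) (hm.2.2 _ (BE _ (by simp)))
    have k2 := cV1 (b := Y5 1) (MV m hm) (by simp) (hm.2.2 _ (BE _ (by simp)))
    have := MV m hm
    exact m3 (by simp_all)
  have := (cf_Z3_S_x3 g m3).symm.trans (cz_x3 (hm.2.2 g hg))
  simp_all

theorem caseL7 (hg : g ∈ E) (h1 : g.y1 = 0) (h7 : g.y7 ≠ 0) (hm : m ∈ ZE E) : m ∈ sZ2 := by
  have MV : ∀ n ∈ ZE E, n ∈ sV := fun n hn => cL7 (ZE_W hE hn) hn.2.1 (hL hg) h1 h7 (hn.2.2 g hg)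
  have g8 : g.x8 = 0 := hL hg
  have m3 : m ∈ sZ3 := by
    by_contra m3
    have hD : ∀ e ∈ E, e ∈ sR := fun e he => cR (MV m hm) m3 (hL he) (hm.2.2 e he)
    have VE : ∀ v ∈ sV, v ∈ E := fun v hv => fin hE (St.one iw_ZE fun x hx => cc_V_C (MV x hx) (V_C hv))
      fun x hx => Z1M hE (cm_symm (cm_V_Q hv (R_Q (hD x hx))))
    have XV : XE E ≤ sV := (closure_le _).2 fun x hx => invV (m := X7 1) (by simp) (by simp)
      (inv_L (hL hx.1.1) hx.1.2) hx.1.2 (hx.2 _ ⟨VE _ (by simp), sq_V (by simp)⟩).symm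
    have iT : Is F E sZ1 :=
      (iXE.comm Iw.top).of_eq (by rintro _ ⟨a, ha, b, hb, rfl⟩; exact cm_V_Q (XV ha) (R_Q (hD b hb)))
      fun x hx => ⟨X4 (x.x5 / g.y7), Z3X hE hL (by simp), g, hg, ext_Z1 (cm_Z3_P (by simp) h1) hx (by
        rw [cm_x5, cf_Z3_P_x5 (by simp) h1]; simp [div_mul_cancel₀ _ h7])⟩
    have BE : ∀ d ∈ sB4, d ∈ E := fun d hd => fin hE ((St.one iT fun x hx => cc_Z1_S d hx).step iXE
      fun x hx => cm_V_Q (XV hx) (B4_Q hd)) fun x hx => Z3X hE hL (cm_R_B4 (hD x hx) hd)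
    have k1 := cV (b := X2 1) (MV m hm) (by simp) (hm.2.2 _ (BE _ (by simp)))
    have k2 := cV (b := Y3 1) (MV m hm) (by simp) (hm.2.2 _ (BE _ (by simp)))
    have := MV m hm
    exact m3 (by simp_all)
  have := (cf_Z3_P_x5 m3 h1).symm.trans (cz_x5 (hm.2.2 g hg))
  simp_all

theorem caseL2 (hM : ∀ m ∈ ZE E, m ∈ sZ2) : E = QL := by
  have i2 : Is F E sZ2 := iw_ZE.of_eq hM fun _ => Z2M hE hL
  have iO := (Iw.top (F := F) (E := E)).invol.clos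
  have OW : closure {x | x ∈ (E : Set (U K)) ∧ x * x = 1} ≤ sW := (closure_le _).2 fun x hx => inv_L (hL hx.1) hx.2
  have AE : ∀ a ∈ sA, a ∈ E := fun a ha => fin hE ((St.one i2 fun x hx => cc_Z2_L hx (A_L ha)).step iO
    fun x hx => cm_symm (cm_A_W ha (OW hx))) fun x hx =>
      have k := cm_symm (cm_A_L ha (hL hx))
      subset_closure ⟨Z3E_L hE hL k, sq_V (Z3_V k)⟩
  have XA : XE E ≤ sA := (closure_le _).2 fun x hx => c_A (inv_L (hL hx.1.1) hx.1.2)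
    (hx.2 _ ⟨AE _ (by simp), sq_A (by simp)⟩).symm (hx.2 _ ⟨AE _ (by simp), sq_A (by simp)⟩).symm
  have WE : ∀ w ∈ sW, w ∈ E := fun w hw => fin hE (((St.one i2 fun x hx => cc_Z2_L hx (W_L hw)).step iXE
    fun x hx => cm_A_W (XA hx) hw).step iO fun x hx => Z3X hE hL (cm_W_W (OW hx) hw)) fun x hx =>
      have k := cm_symm (cm_W_L hw (hL hx))
      subset_closure ⟨AE _ k, sq_A k⟩
  have X3 : XE E ≤ sZ3 := (closure_le _).2 fun x hx => c_W (XA (subset_closure hx))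
    (hx.2 _ ⟨WE _ (by simp), sq_V1 (by simp)⟩).symm (hx.2 _ ⟨WE _ (by simp), sq_V (by simp)⟩).symm
  have i3 : Is F E sZ3 := iXE.of_eq X3 fun _ => Z3X hE hL
  have iW : Is F E sW := (Iw.top.cent i3).of_eq
    (fun x hx => c_Z3 (hx.2 _ (by simp)).symm (hx.2 _ (by simp)).symm)
    fun x hx => ⟨WE x hx, fun a ha => (cc_Z3_W ha hx).symm⟩
  exact le_antisymm hL (L_le hE hL iW i3)

theorem caseL : E = QL := by
  by_cases hW : E ≤ sW
  · exact (caseW hE hW).elim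
  obtain ⟨g, hg, hg'⟩ := SetLike.not_le_iff_exists.1 hW
  by_cases h1 : g.y1 = 0
  · exact caseL2 hE hL fun m => caseL7 hE hL hg h1 fun h7 => hg' ⟨h1, h7, hL hg⟩
  obtain ⟨s, k1, k2⟩ := cj8_L h1
  obtain ⟨E', h1, h2⟩ := ess_conj hE (mem_top s)
  have hL' := le_conj h2 (fun s _ => nrm_L s) hL
  exact eq_conj h2 (fun s _ => nrm_L s) (caseL2 h1 hL' fun m => caseL1 h1 hL' ((h2 g).2 hg) k1 k2)

end

section
variable (hQ : E ≤ QS)
include hQ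

theorem QMV (he : e ∈ E) (h8 : e.x8 ≠ 0) (hm : m ∈ ZE E) : m ∈ sV := by
  have k := (inv_W0 (ZE_W hE hm) hm.2.1 (hQ hm.1).2).1
  have := (cf_Z5_Q_x6 k (hQ he)).symm.trans (cz_x6 (hm.2.2 e he))
  simp_all

theorem QN0 (hf : f ∈ E) (hV : f ∈ sV8) (h8 : f.x8 ≠ 0) (h : ∀ x ∈ E, ⁅f, x⁆ ∈ sZ1) : False := by
  have hD : ∀ e ∈ E, e ∈ sD7 := fun e he => c8_D7 hV h8 (h e he)
  have hN : ∀ n ∈ sN7, n ∈ ZE E := fun n hn =>
    ⟨centE hE fun x hx => cc_N7_D7 hn (hD x hx), sq_V (N7_V hn), fun x hx => cc_N7_D7 hn (hD x hx)⟩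
  have := fin hE (g := Y5 1) (St.one iw_ZE fun x hx => cc_V_C (QMV hE hQ hf h8 hx) (by simp))
    fun x hx => hN _ (cm_D7_B0 (hD x hx) (by simp))
  simpa using hD _ this

theorem QN (hf : f ∈ E) (h2 : f * f = 1) (h8 : f.x8 ≠ 0) (h : ∀ x ∈ E, ⁅f, x⁆ ∈ sZ1) : False := by
  obtain ⟨s, hs⟩ := inv_out h2 h8
  obtain ⟨E', h1, h3⟩ := ess_conj hE (mem_top s)
  refine QN0 h1 (le_conj h3 (fun s _ => nrm_Q s) hQ) ((h3 f).2 hf) hs (by rwa [cj_x8]) fun x hx => ?_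
  have k := h (s⁻¹ * x * s) ((h3 _).1 (by simpa [mul_assoc] using hx))
  have : ⁅s * f * s⁻¹, x⁆ = s * ⁅f, s⁻¹ * x * s⁆ * s⁻¹ := by simp only [commutatorElement_def]; group
  rwa [this, ← cc_Z1_S s k, mul_inv_cancel_right]

theorem caseQ (he : e ∈ E) (h8 : e.x8 ≠ 0) : E = QS := by
  have VE : ∀ v ∈ sV, v ∈ E := fun v hv =>
    fin hE (St.one iw_ZE fun x hx => cc_V_C (QMV hE hQ he h8 hx) (V_C hv))
      fun x hx => Z1M hE (cm_symm (cm_V_Q hv (hQ hx)))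
  have iV : Is F E sV := ⟨VE, fun τ hτ v hv => by
    by_contra hf
    have vE := VE v hv
    have fE := hτ.mem vE
    have f2 : τ v * τ v = 1 := by rw [← hτ.homOn.map_mul vE vE, sq_V hv, hτ.homOn.map_one]
    have f5 : (τ v).x8 = 0 → τ v ∈ sZ5 ∧ (τ v).x2 ≠ 0 := fun h =>
      have k := (inv_W0 (inv_L h f2) f2 (hQ fE).2).1
      ⟨k, fun e => hf (by simp_all only [mem_Z5, SetLike.mem_coe, mem_V, and_self])⟩
    have k1 : ∀ z ∈ sZ1, τ⁻¹ z ∈ sZ1 := fun z hz => by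
      obtain ⟨w, hw, rfl⟩ : ∃ w ∈ sV, ⁅w, τ v⁆ = z := by
        by_cases h : (τ v).x8 = 0
        · refine ⟨X7 (z.x5 / (τ v).x2), by simp, ext_Z1 (cm_V_Q (by simp) (hQ fE)) hz ?_⟩
          rw [cm_x5, cf_V_Q_x5 (by simp) (hQ fE)]
          simp [div_mul_cancel₀ _ (f5 h).2]
        · refine ⟨X3 (z.x5 / (τ v).x8), by simp, ext_Z1 (cm_V_Q (by simp) (hQ fE)) hz ?_⟩
          rw [cm_x5, cf_V_Q_x5 (by simp) (hQ fE)]
          simp [div_mul_cancel₀ _ h]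
      rw [hom_cm hτ.symm.homOn (VE w hw) fE, show τ⁻¹ (τ v) = v from τ.left_inv v]
      exact cm_symm (cm_V_Q hv (hQ (hτ.symm.mem (VE w hw))))
    have k2 := (setStab sZ1).inv_mem (mem_setStab_of_finite k1)
    have k3 : ∀ x ∈ E, ⁅τ v, x⁆ ∈ sZ1 := fun x hx => by
      have := (k2 _).2 (cm_V_Q hv (hQ (hτ.symm.mem hx)))
      rwa [inv_inv, hom_cm hτ.homOn vE (hτ.symm.mem hx), perm_apply_inv_self] at this
    by_cases h : (τ v).x8 = 0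
    · have k4 := (k3 e he).2.2.2.2.2.2.2.1
      rw [cm_x6, cf_Z5_Q_x6 (f5 h).1 (hQ he)] at k4
      simp [(f5 h).2, h8] at k4
    · exact QN hE hQ fE f2 h k3⟩
  have i1 : Is F E sZ1 := (iV.comm Iw.top).of_eq (by rintro _ ⟨a, ha, b, hb, rfl⟩; exact cm_V_Q ha (hQ hb))
    fun x hx => ⟨X3 (x.x5 / e.x8), by simp, e, he, ext_Z1 (cm_Z2_S e (by simp)) hx (by
      rw [cm_x5, cf_Z2_S_x5 e (by simp), X3_x3, div_mul_cancel₀ _ h8])⟩
  exact le_antisymm hQ fun g hg => fin hE ((St.one i1 fun x hx => cc_Z1_S g hx).step iV fun x hx => cm_V_Q hx hg)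
    fun x hx => cm_Q_Q (hQ hx) hg

end

end Cfsg.Agent.Rf.U
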