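import Cfsg.Agent.Rf.M1
import Cfsg.Agent.H4.Sp4S
import Cfsg.Agent.H6.RealQ

/-! Interface for `S5262` (see notes/rf.md). -/

set_option autoImplicit false
set_option linter.unusedSectionVars false

open Equiv

namespace Cfsg.Agent.Rf

open Cfsg.Fus Cfsg.FusionSystem U

variable {K : Type} [Field K] [Finite K] [TF K]

theorem gal_pow (γ : K ≃+* K) : ∃ k : ℕ, ∀ x, γ x = x ^ 2 ^ k := by
  haveI : Fact (Nat.Prime 2) := ⟨Nat.prime_two⟩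
  letI := ZMod.algebra K 2
  haveI := Fintype.ofFinite K
  let e : K ≃ₐ[ZMod 2] K := AlgEquiv.ofRingEquiv (f := γ) fun x => by
    have := RingHom.ext_zmod ((γ : K →+* K).comp (algebraMap (ZMod 2) K)) (algebraMap (ZMod 2) K)
    exact congrArg (fun f : ZMod 2 →+* K => f x) this
  obtain ⟨n, hn⟩ := (FiniteField.bijective_frobeniusAlgEquivOfAlgebraic_pow (ZMod 2) K).2 e
  refine ⟨n, fun x => ?_⟩
  have : e x = _ := (congrArg (fun f : K ≃ₐ[ZMod 2] K => f x) hn).symm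
  rw [show γ x = e x from rfl, this]
  simp [AlgEquiv.coe_pow, FiniteField.coe_frobeniusAlgEquivOfAlgebraic_iterate]

theorem gal_comm (γ δ : K ≃+* K) (t : K) : γ (δ t) = δ (γ t) := by
  obtain ⟨k, h⟩ := gal_pow δ
  rw [h, h, map_pow]

theorem gal_odd : ∃ m : ℕ, Odd m ∧ ∀ γ : K ≃+* K, γ ^ m = 1 := by
  obtain ⟨j, hj⟩ := gal_pow (φ : K ≃+* K)
  have h2 : ∀ n : ℕ, ∀ x : K, ((φ : K ≃+* K) ^ (2 * n)) x = x ^ 2 ^ n := fun n => by
    induction n with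
    | zero => simp
    | succ n ih =>
      intro x
      rw [mul_add, pow_add, RingAut.mul_apply, ih, mul_one, pow_two, RingAut.mul_apply, φφ, ← pow_mul, ← pow_succ']
  have h3 : ∀ γ : K ≃+* K, ∃ k, γ = φ ^ (2 * k) := fun γ => by
    obtain ⟨k, hk⟩ := gal_pow γ
    exact ⟨k, RingEquiv.ext fun x => by rw [hk, h2]⟩
  obtain ⟨k, hk⟩ := h3 (φ : K ≃+* K)⁻¹
  refine ⟨2 * k + 1, odd_two_mul_add_one k, fun γ => ?_⟩
  obtain ⟨l, rfl⟩ := h3 γ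
  rw [← pow_mul, mul_comm, pow_mul, pow_succ, ← hk, inv_mul_cancel, one_pow]

theorem φ_ne_zero {a : K} (h : a ≠ 0) : φ a ≠ 0 := (map_ne_zero _).2 h

theorem au_au (a b c d : K) (γ δ : K ≃+* K) (u : U K) :
    au a b γ (au c d δ u) = au (a * γ c) (b * γ d) (γ * δ) u := by
  ext <;> simp only [au, map_mul, map_pow, RingAut.mul_apply, gal_comm γ φ] <;> ring

theorem au_one (u : U K) : au 1 1 1 u = u := by ext <;> simp [au]

/-- torus and field automorphisms as permutations -/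
def aup (a b : Kˣ) (γ : K ≃+* K) : Perm (U K) where
  toFun := au a b γ
  invFun := au (γ⁻¹ (a⁻¹ : Kˣ)) (γ⁻¹ (b⁻¹ : Kˣ)) γ⁻¹
  left_inv u := by rw [au_au, ← map_mul, ← map_mul]; simpa using au_one u
  right_inv u := by
    rw [au_au, ← RingAut.mul_apply, ← RingAut.mul_apply]; simpa using au_one u

theorem aup_apply (a b : Kˣ) (γ : K ≃+* K) (u : U K) : aup a b γ u = au (a : K) b γ u := rfl

theorem homOn_aup (a b : Kˣ) (γ : K ≃+* K) (P : Subgroup (U K)) : HomOn (aup a b γ) P :=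
  fun x _ y _ => au_mul _ _ (gal_comm γ φ) x y

section RO
variable {V : Type} [AddCommGroup V] [Module K V] (Q : Subgroup (U K)) (π : U K → V)

/-- `σ` is `γ`-semilinear on `V = π Q` -/
def Sem (σ : U K → U K) (γ : K ≃+* K) : Prop :=
  ∀ x ∈ Q, ∀ y ∈ Q, ∀ c : K, π y = c • π x → π (σ y) = γ c • π (σ x)

/-- `σ` moves the line of `x` to the line of `y` -/
def Mv (σ : U K → U K) (x y : U K) : Prop := ∃ c : K, π (σ x) = c • π y

/-- rank one data on `Q` -/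
structure RO (g0 g1 : U K) : Prop where
  nrm : ∀ s, ∀ x ∈ Q, s * x * s⁻¹ ∈ Q
  hom : ∀ x ∈ Q, ∀ y ∈ Q, π (x * y) = π x + π y
  surj : ∀ v, ∃ x ∈ Q, π x = v
  m0 : g0 ∈ Q
  m1 : g1 ∈ Q
  ind : ∀ c d : K, c • π g0 = d • π g1 → c = 0 ∧ d = 0
  cj0 : ∀ s, π (s * g0 * s⁻¹) = π g0
  cjS : ∀ s, Sem Q π (cj s) 1
  auQ : ∀ a b γ, ∀ x ∈ Q, aup a b γ x ∈ Q
  auS : ∀ a b γ, Sem Q π (aup a b γ) γ
  au0 : ∀ a b γ, Mv π (aup a b γ) g0 g0
  au1 : ∀ a b γ, Mv π (aup a b γ) g1 g1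
  semi : ∀ σ ∈ autStab Q, ∃ γ, Sem Q π σ γ
  pt : ∀ σ ∈ autStab Q, ∀ g, g = g0 ∨ g = g1 → Mv π σ g g0 ∨ ∃ s : U K, Mv π (cj s * σ : Perm (U K)) g g1
  fl : ∀ σ ∈ autStab Q, Mv π σ g0 g0 → Mv π σ g1 g1 → ∃ a b γ, ∀ x ∈ Q, π (σ x) = π (aup a b γ x)
  two : ∀ σ ∈ autStab Q, (∀ x ∈ Q, π (σ x) = π x) → ∃ k, σ ^ 2 ^ k ∈ fixP Q
  cen : ∀ σ ∈ autStab Q, (∀ x ∈ Q, π (σ x) = π x) →
    (∀ a b, ∀ x ∈ Q, σ (aup a b 1 x) = aup a b 1 (σ x)) → σ ∈ fixP Q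

end RO

/-- the natural module of `L₂(q)` -/
def πL (u : U K) : K × K := (u.y1, u.y7)

/-- the natural module of `Sz(q)` -/
def πS (u : U K) : K × K × K × K := (u.x2, u.y3, u.y7, u.x8)

/-- slice `RL` -/
class RL : Prop where
  out : ∀ {K : Type} [Field K] [Finite K] [TF K], (∃ c : K, c ≠ 0 ∧ c ≠ 1) → RO (QL (K := K)) πL (Y7 1) (Y1 1)

/-- slice `RS` -/
class RS : Prop where
  out : ∀ {K : Type} [Field K] [Finite K] [TF K], (∃ c : K, c ≠ 0 ∧ c ≠ 1) → RO (QS (K := K)) πS (X2 1) (X8 1)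

/-- slice `RT` -/
class RT : Prop where
  dec : ∀ {K : Type} [Field K] [Finite K] [TF K], ∀ σ ∈ autStab (⊤ : Subgroup (U K)), σ ∈ setStab QL →
    σ ∈ setStab QS → ∃ (a b : Kˣ) (γ : K ≃+* K), ∀ x, (σ x).y1 = a * γ x.y1 ∧ (σ x).x8 = b * γ x.x8
  two : ∀ {K : Type} [Field K] [Finite K] [TF K], (∃ c : K, c ≠ 0 ∧ c ≠ 1) →
    ∀ σ ∈ autStab (⊤ : Subgroup (U K)), (∀ x, (σ x).y1 = x.y1 ∧ (σ x).x8 = x.x8) → ∃ k, σ ^ 2 ^ k = 1

/-- slice `B` (helper5) -/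
class ESS : Prop where
  out : ∀ {K : Type} [Field K] [Finite K] [TF K] {F : FusionSystem (⊤ : Subgroup (U K))}, F.IsSaturated 2 →
    ∀ E, F.IsEssential 2 E → E = QL ∨ E = QS

/-- slice `D` (helper3): `q = 2` -/
class D2 : Prop where
  out : ∀ {K : Type} [Field K] [Finite K] [TF K], (∀ c : K, c = 0 ∨ c = 1) →
    ∀ F F0 : FusionSystem (⊤ : Subgroup (U K)), F.IsSaturated 2 → F0.IsSaturated 2 →
      F.IsEssential 2 QL → F.IsEssential 2 QS → F0.IsEssential 2 QL → F0.IsEssential 2 QS →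
      ∃ θ θ', L.Transp ⊤ ⊤ θ θ' F F0

end Cfsg.Agent.Rf
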