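import Cfsg.Agent.Rf.B6
import Cfsg.Agent.Rf.I

/-! S5262, slice B: the essential subgroups are among `QL`, `QS`. -/

set_option autoImplicit false
set_option maxRecDepth 8000
set_option linter.unusedSimpArgs false
set_option linter.unusedVariables false
set_option linter.unusedSectionVars false

namespace Cfsg.Agent.Rf

namespace U

open Subgroup Cfsg.Fus Cfsg.Agent.Pu Equiv
open Cfsg.FusionSystem hiding inv_mem
open scoped commutatorElement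

variable {K : Type*} [Field K] [TF K] [Finite K] {a b c e f g m x y s : U K} {F : FusionSystem (⊤ : Subgroup (U K))}
  {E E' A B C : Subgroup (U K)}

theorem cP (hy : y ∈ sP) (h2 : y * y = 1) (he : e ∈ sP) (h1 : e.x1 ≠ 0) (h8 : e.x8 ≠ 0) (h : ⁅y, e⁆ ∈ sV) :
    y ∈ sZ5 := by
  have k := h.2.2.2.1
  rw [cm_y3, cf_P_P_y3 hy he] at k
  have k2 := sz_y3 h2
  have k8 : y.x8 = 0 := by
    by_contra k
    simp_all
  exact (inv_W0 (inv_L k8 h2) h2 (by simp_all)).1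

theorem Z5_dec (hx : x ∈ sZ5) : (X2 x.x2)⁻¹ * x ∈ sV := by
  have k := mul_mem (inv_mem (show X2 x.x2 ∈ sZ5 by simp)) hx
  have : ((X2 x.x2)⁻¹ * x).x2 = 0 := by usimp; exact CharTwo.add_self_eq_zero _
  simp_all only [mem_Z5, mem_V, and_self]

theorem Z3_dec (hx : x ∈ sZ3) (he : e ∈ sP) (h1 : e.x1 ≠ 0) : ∃ v : U K, v ∈ sV ∧ ⁅v, e⁆⁻¹ * x ∈ sZ1 := by
  have hv : (⟨0, 0, 0, 0, 0, 0, 0, 0, (x.x3 + x.x4 / e.x1 * φ e.x1) / e.x1, 0, x.x4 / e.x1, 0⟩ : U K) ∈ sV := by simp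
  refine ⟨_, hv, ?_⟩
  have k := cm_V_P hv he
  have k3 := (cm_x3 _ e).trans (cf_V_P_x3 hv he)
  have k4 := (cm_x4 _ e).trans (cf_V_P_x4 hv he)
  simp only [div_mul_cancel₀ _ h1, add_assoc, CharTwo.add_self_eq_zero, add_zero] at k3 k4
  revert k k3 k4
  generalize ⁅(_ : U K), e⁆ = u
  intro k k3 k4
  have k' := mul_mem (inv_mem k) hx
  have e3 : (u⁻¹ * x).x3 = 0 := by usimp; simp_all [CharTwo.add_self_eq_zero]
  have e4 : (u⁻¹ * x).x4 = 0 := by usimp; simp_all [CharTwo.add_self_eq_zero]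
  simp_all only [mem_Z3, mem_Z1, and_self]

theorem rg5 (h2 : y * y = 1) (h1 : g.y1 ≠ 0) (h8 : g.x8 ≠ 0) (h : ⁅y, g⁆ ∈ sZ5) : y ∈ sZ5 ∧ y.x2 * y.x7 = 0 := by
  have k7 := h.2.2.2.2.1
  have k3 := h.2.2.1
  rw [cm_y7, cf_P_S_y7 g (inv_y1' h2)] at k7
  have hW := inv_L (by simpa [h1] using k7) h2
  rw [cm_y3, cf_W_S_y3 g hW] at k3
  exact inv_W0 hW h2 (by simpa [h8] using k3)

theorem rg4 (h2 : y * y = 1) (h1 : g.y1 ≠ 0) (h8 : g.x8 ≠ 0) (h : ⁅y, g⁆ ∈ sZ3) : y ∈ sZ4 := by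
  obtain ⟨k1, k2⟩ := rg5 h2 h1 h8 (Z3_Z5 h)
  have k := h.2.2.2.2.2.1
  rw [cm_x6, cf_Z5_S_x6 g k1] at k
  have : y.x2 = 0 := by
    by_contra k
    simp_all
  simp_all

theorem rg3 (h2 : y * y = 1) (h1 : g.y1 ≠ 0) (h8 : g.x8 ≠ 0) (h : ⁅y, g⁆ ∈ sZ2) : y ∈ sZ3 := by
  have k1 := rg4 h2 h1 h8 (Z2_Z3 h)
  have k := h.2.2.2.2.1
  rw [cm_x4, cf_Z4_S_x4 g k1] at k
  simp_all

theorem rg2 (h2 : y * y = 1) (h1 : g.y1 ≠ 0) (h8 : g.x8 ≠ 0) (h : ⁅y, g⁆ ∈ sZ1) : y ∈ sZ2 := by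
  have k1 := rg3 h2 h1 h8 (Z1_Z2 h)
  have k := h.2.2.2.2.1
  rw [cm_x3, cf_Z3_S_x3 g k1] at k
  simp_all

theorem rg1 (h2 : y * y = 1) (h1 : g.y1 ≠ 0) (h8 : g.x8 ≠ 0) (h : y * g = g * y) : y ∈ sZ1 := by
  have k1 := rg2 h2 h1 h8 (commutatorElement_eq_one_iff_mul_comm.2 h ▸ one_mem _)
  have k := (cf_Z2_S_x5 g k1).symm.trans (cz_x5 h)
  simp_all

variable (hF : F.IsSaturated 2) (hE : F.IsEssential 2 E)
include hF hE

theorem caseP (hP : E ≤ sP) (he : e ∈ E) (h1 : e.x1 ≠ 0) (h8 : e.x8 ≠ 0) : False := by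
  haveI : Fact (Nat.Prime 2) := ⟨Nat.prime_two⟩
  have eP := hP he
  have e0 : e.y1 = 0 := eP
  have M3 : ∀ m ∈ ZE E, m ∈ sZ3 := fun m hm => by
    have c := hm.2.2 e he
    have k5 := cP (hP hm.1) hm.2.1 eP h1 h8 (commutatorElement_eq_one_iff_mul_comm.2 c ▸ one_mem _)
    have k6 := (cf_Z5_S_x6 e k5).symm.trans (cz_x6 c)
    have kV : m ∈ sV := by simp_all
    have k4 := (cf_V_P_x4 kV eP).symm.trans (cz_x4 c)
    have k3 := (cf_V_P_x3 kV eP).symm.trans (cz_x3 c)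
    have k7 : m.x7 = 0 := by simpa [h1] using k4
    simp_all
  have iG := ((Iw.top (F := F) (E := E)).invol.cmm Iw.top iw_ZE).clos
  set G := closure {x | x ∈ {x | x ∈ (E : Set (U K)) ∧ x * x = 1} ∧ ∀ a ∈ (E : Set (U K)), ⁅x, a⁆ ∈ (ZE E : Set (U K))}
  have GV : ∀ y ∈ G, y ∈ sV ∧ (y.x6 * e.x1 + y.x7 * φ e.x1) * e.x8 + y.x7 * e.x1 * e.y7 = 0 := fun y hy => by
    induction hy using closure_induction with
    | mem y hy =>
      have k := M3 _ (hy.2 e he)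
      have k5 := cP (hP hy.1.1) hy.1.2 eP h1 h8 (Z3_V k)
      have k6 := k.2.2.2.2.2.1
      rw [cm_x6, cf_Z5_S_x6 e k5] at k6
      have kV : y ∈ sV := by simp_all
      have := (cf_Z3_P_x5 k eP).symm.trans (cz_x5 ((hy.2 e he).2.2 e he))
      rw [cm_x3, cm_x4, cf_V_P_x3 kV eP, cf_V_P_x4 kV eP] at this
      exact ⟨kV, this⟩
    | one => simp
    | mul x y _ _ i1 i2 =>
      refine ⟨mul_mem i1.1 i2.1, ?_⟩
      have a1 := i1.1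
      have a2 := i2.1
      simp only [mem_V] at a1 a2
      usimp
      simp only [a1, a2, map_zero, mul_zero, zero_mul, add_zero]
      linear_combination i1.2 + i2.2
    | inv x _ i => rwa [inv_eq_of_mul_eq_one_right (sq_V i.1)]
  have Z3G : ∀ z ∈ sZ3, z ∈ G := fun z hz =>
    subset_closure ⟨⟨Z3E_P hE hP hz, sq_V (Z3_V hz)⟩, fun a ha => Z1M hE (cm_Z3_P hz (hP ha))⟩
  have VE : ∀ v ∈ sV, v ∈ E := fun v hv => fin hE (St.one iG fun x hx => cc_V_C (GV x hx).1 (V_C hv))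
    fun x hx => Z3G _ (cm_symm (cm_V_P hv (hP hx)))
  have iV : Is F E sV := (Iw.top.invol.cmm Iw.top iG).of_eq (fun y hy => by
    obtain ⟨k, k'⟩ := GV _ (hy.2 e he)
    have k5 := cP (hP hy.1.1) hy.1.2 eP h1 h8 k
    rw [(cm_Z5_S e k5).2.2.2.2.2.2.1, cm_x6, cf_Z5_S_x6 e k5] at k'
    simp_all) fun v hv => ⟨⟨VE v hv, sq_V hv⟩, fun a ha => Z3G _ (cm_V_P hv (hP ha))⟩
  have i1 : Is F E sZ1 := (iV.comm Iw.top.sq).of_eq
    (by rintro _ ⟨a, ha, _, ⟨b, hb, rfl⟩, rfl⟩; exact cm_V_Q ha (R_Q (sq_P (hP hb)))) fun x hx =>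
    ⟨X6 (x.x5 / (e.x1 * e.x8)), by simp, _, ⟨e, he, rfl⟩, ext_Z1 (cm_V_Q (by simp) (R_Q (sq_P eP))) hx (by
      rw [cm_x5, cf_V_Q_x5 (by simp) (R_Q (sq_P eP)), sq_y3]
      simp [e0, div_mul_cancel₀ _ (mul_ne_zero h1 h8)])⟩
  have iS : Iw F E {x | x ∈ E ∧ x ∈ QS} := (Iw.top.cmm iV i1).of_eq (fun x hx => ⟨hx.1, hP hx.1, by
    have k := (cm_symm (hx.2 (X7 1) (by simp))).2.2.2.2.2.1
    rw [cm_x4, cf_V_P_x4 (by simp) (hP hx.1)] at k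
    simpa using k⟩) fun x hx => ⟨hx.1, fun a ha => cm_symm (cm_V_Q ha hx.2)⟩
  have Z6E : ∀ z ∈ sZ6, z ∈ E := fun z hz => fin hE ((St.one i1 fun x hx => cc_Z1_S z hx).step iV
    fun x hx => cm_V_Q hx (Z6_Q hz)) fun x hx => cm_P_Z6 (hP hx) hz
  have i3 : Is F E sZ3 := ((iV.comm Iw.top).mul i1).of_eq
    (by rintro _ ⟨_, ⟨a, ha, b, hb, rfl⟩, c, hc, rfl⟩; exact mul_mem (cm_V_P ha (hP hb)) (Z1_Z3 hc)) fun x hx => by
    obtain ⟨v, hv, k⟩ := Z3_dec hx eP h1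
    exact ⟨_, ⟨v, hv, e, he, rfl⟩, _, k, mul_inv_cancel_left _ _⟩
  have i6 : Is F E sZ6 := (iS.cent i3).of_eq (fun x hx => by
    have k := c_Z3 (hx.2 _ (by simp)).symm (hx.2 _ (by simp)).symm
    have := hx.1.2
    simp_all) fun x hx => ⟨⟨Z6E x hx, Z6_Q hx⟩, fun a ha => (cc_Z3_W ha (Z6_W hx)).symm⟩
  have i5 : Is F E sZ5 := i6.invol.of_cl (fun x hx => (inv_W0 (Z6_W hx.1) hx.2 hx.1.2.1).1) fun x hx => by
    have := mul_mem (subset_closure (k := {x | x ∈ (sZ6 : Subgroup (U K)) ∧ x * x = 1})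
      (show X2 x.x2 ∈ _ from ⟨by simp, sq_A (by simp)⟩)) (subset_closure ⟨V_Z6 (Z5_dec hx), sq_V (Z5_dec hx)⟩)
    rwa [mul_inv_cancel_left] at this
  have iC : Is F E sC := (Iw.top.cent iV).of_eq (fun x hx => c_V (hx.2 _ (by simp)).symm (hx.2 _ (by simp)).symm
    (hx.2 _ (by simp)).symm (hx.2 _ (by simp)).symm) fun x hx => ⟨Z6E x (C_Z6 hx), fun a ha => (cc_V_C ha hx).symm⟩
  have i2 : Is F E sZ2 := (i5.comm iC).of_eq (by rintro _ ⟨a, ha, b, hb, rfl⟩; exact cm_Z5_C ha hb) fun x hx =>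
    ⟨X2 1, by simp, ⟨0, 0, 0, 0, 0, 0, x.x3, 0, 0, 0, x.x5, 0⟩, by simp, ext_Z2 (cm_Z5_C (by simp) (by simp)) hx
      (by rw [cm_x3, cf_W_W_x3 (by simp) (by simp)]; simp) (by rw [cm_x5, cf_W_W_x5 (by simp) (by simp)]; simp)⟩
  have i4 : Is F E sZ4 := (iV.cent i5).of_eq (fun x hx => by
    have k := cA (m := X2 1) (by simp) (V_W hx.1) (hx.2 _ (by simp)).symm
    have := hx.1
    simp_all) fun x hx => ⟨Z4_V hx, fun a ha => cc_Z4_Z5 hx ha⟩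
  have iR : Is F E (E ⊓ sR) := (iS.cent i2).of_eq
    (fun x hx => ⟨hx.1.1, hx.1.2.1, hx.1.2.2, c_X3 (hx.2 _ (by simp)).symm⟩)
    fun x hx => ⟨⟨hx.1, R_Q hx.2⟩, fun a ha => (cc_Z2_L ha (R_L hx.2)).symm⟩
  obtain ⟨n, ⟨-, n1⟩, n2⟩ := SetLike.exists_of_lt (lt_normalizerIn two_U (hE.lt hF two_U))
  exact n2 (fin hE (((((((St.one i1 fun x hx => cc_Z1_S n hx).step i2 fun x hx => cm_Z2_S n hx).step i3
    fun x hx => cm_Z3_S n hx).step i4 fun x hx => cm_Z4_S n hx).step i5 fun x hx => cm_Z5_S n hx).step i6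
    fun x hx => cm_Z6_S n hx).step iR fun x hx => cm_Z7_S n (R_Z7 hx.2)) fun x hx => ⟨by
      have := mul_mem hx ((mem_normalizer_iff.1 n1 _).1 (inv_mem hx))
      simpa [commutatorElement_def, mul_assoc] using this, cm_P_S n (hP hx)⟩)

theorem caseS (hg : g ∈ E) (h1 : g.y1 ≠ 0) (h8 : g.x8 ≠ 0) : False := by
  haveI : Fact (Nat.Prime 2) := ⟨Nat.prime_two⟩
  have i1 : Is F E sZ1 := iw_ZE.of_eq (fun m hm => rg1 hm.2.1 h1 h8 (hm.2.2 g hg)) fun _ => Z1M hE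
  have i2 : Is F E sZ2 := (Iw.top.invol.cmm Iw.top i1).of_eq (fun y hy => rg2 hy.1.2 h1 h8 (hy.2 g hg))
    fun y hy => ⟨⟨Z2E hE hy, sq_V (Z2_V hy)⟩, fun a _ => cm_Z2_S a hy⟩
  have s2 : ∀ n, St F E n sZ2 := fun n => (St.one i1 fun x hx => cc_Z1_S n hx).step i2 fun x hx => cm_Z2_S n hx
  have i3 : Is F E sZ3 := (Iw.top.invol.cmm Iw.top i2).of_eq (fun y hy => rg3 hy.1.2 h1 h8 (hy.2 g hg))
    fun y hy => ⟨⟨fin hE (s2 y) fun x _ => cm_symm (cm_Z3_S x hy), sq_V (Z3_V hy)⟩, fun a _ => cm_Z3_S a hy⟩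
  have s3 : ∀ n, St F E n sZ3 := fun n => (s2 n).step i3 fun x hx => cm_Z3_S n hx
  have i4 : Is F E sZ4 := (Iw.top.invol.cmm Iw.top i3).of_eq (fun y hy => rg4 hy.1.2 h1 h8 (hy.2 g hg))
    fun y hy => ⟨⟨fin hE (s3 y) fun x _ => cm_symm (cm_Z4_S x hy), sq_V (Z4_V hy)⟩, fun a _ => cm_Z4_S a hy⟩
  have s4 : ∀ n, St F E n sZ4 := fun n => (s3 n).step i4 fun x hx => cm_Z4_S n hx
  have Z5E : ∀ y ∈ sZ5, y ∈ E := fun y hy => fin hE (s4 y) fun x _ => cm_symm (cm_Z5_S x hy)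
  have i5 : Is F E sZ5 := (Iw.top.invol.cmm Iw.top i4).of_cl
    (fun y hy => (rg5 hy.1.2 h1 h8 (Z4_Z5 (hy.2 g hg))).1) fun x hx => by
      rw [← mul_inv_cancel_left (X2 x.x2) x]
      exact mul_mem (subset_closure ⟨⟨Z5E _ (by simp), sq_A (by simp)⟩, fun a _ => cm_Z5_S a (by simp)⟩)
        (subset_closure ⟨⟨Z5E _ (V_Z5 (Z5_dec hx)), sq_V (Z5_dec hx)⟩, fun a _ => cm_Z5_S a (V_Z5 (Z5_dec hx))⟩)
  have s5 : ∀ n, St F E n sZ5 := fun n => (s4 n).step i5 fun x hx => cm_Z5_S n hx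
  have i6 : Is F E sZ6 := ((Iw.top.cent i3).cmm Iw.top i5).of_eq (fun y hy => by
    have k := c_Z3 (hy.1.2 _ (by simp)).symm (hy.1.2 _ (by simp)).symm
    have k3 := (hy.2 g hg).2.2.1
    rw [cm_y3, cf_W_S_y3 g k] at k3
    simp_all) fun y hy => ⟨⟨fin hE (s5 y) fun x _ => cm_symm (cm_Z6_S x hy),
      fun a ha => (cc_Z3_W ha (Z6_W hy)).symm⟩, fun a _ => cm_Z6_S a hy⟩
  have s6 : ∀ n, St F E n sZ6 := fun n => (s5 n).step i6 fun x hx => cm_Z6_S n hx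
  have i7 : Is F E sZ7 := ((Iw.top.cent i2).cmm i3 i1).of_eq (fun y hy =>
    ⟨c_X4 (cm_symm (hy.2 _ (by simp))), c_X3 (hy.1.2 _ (by simp)).symm⟩)
    fun y hy => ⟨⟨fin hE (s6 y) fun x _ => cm_symm (cm_Z7_S x hy), fun a ha => (cc_Z2_L ha (Z7_L hy)).symm⟩,
      fun a ha => cm_symm (cm_Z3_P ha (Z7_P hy))⟩
  exact (hE.lt hF two_U).not_ge fun n _ => fin hE ((s6 n).step i7 fun x hx => cm_Z7_S n hx) fun x _ => cm_S_S x n

theorem ess : E = QL ∨ E = QS := by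
  by_cases hL : E ≤ QL
  · exact Or.inl (caseL hE hL)
  obtain ⟨e, he, h8⟩ := SetLike.not_le_iff_exists.1 hL
  by_cases hQ : E ≤ QS
  · exact Or.inr (caseQ hE hQ he h8)
  exfalso
  by_cases hP : E ≤ sP
  · obtain ⟨g, hg, g1⟩ := SetLike.not_le_iff_exists.1 hQ
    have g0 : g.y1 = 0 := hP hg
    have g1 : g.x1 ≠ 0 := fun h => g1 ⟨g0, h⟩
    by_cases k1 : e.x1 = 0
    · by_cases k8 : g.x8 = 0
      · refine caseP hF hE hP (mul_mem hg he) ?_ ?_ <;> usimp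
        · simpa [g0, k1] using g1
        · simpa [k8] using h8
      · exact caseP hF hE hP hg g1 k8
    · exact caseP hF hE hP he k1 h8
  obtain ⟨g, hg, g1⟩ := SetLike.not_le_iff_exists.1 hP
  by_cases k1 : e.y1 = 0
  · by_cases k8 : g.x8 = 0
    · refine caseS hF hE (mul_mem hg he) ?_ ?_ <;> usimp
      · simpa [k1] using g1
      · simpa [k8] using h8
    · exact caseS hF hE hg g1 k8
  · exact caseS hF hE he k1 h8

end U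

instance instESS : ESS := ⟨fun hF _ hE => U.ess hF hE⟩

end Cfsg.Agent.Rf
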