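import Cfsg.Agent.Rf.I
import Cfsg.Agent.H1.SchurZ

/-! Rank one data: the automizer of `Q` is determined by the automizer of `S`. -/

set_option autoImplicit false
set_option linter.unusedSectionVars false

open Equiv

namespace Cfsg.Agent.Rf

open Cfsg.Fus Cfsg.FusionSystem U

variable {K : Type} [Field K] [Finite K] [TF K]

theorem card_two_pow : ∃ n, Nat.card K = 2 ^ (n + 1) := by
  haveI := Fintype.ofFinite K
  obtain ⟨n, -, h⟩ := FiniteField.card K 2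
  exact ⟨n - 1, by rw [Nat.card_eq_fintype_card, h, Nat.sub_add_cancel (show 1 ≤ (n : ℕ) from n.2)]⟩

theorem isPGroup_U : IsPGroup 2 (U K) := by
  haveI : Fact (Nat.Prime 2) := ⟨Nat.prime_two⟩
  obtain ⟨n, h⟩ := card_two_pow (K := K)
  let e : U K ≃ K × K × K × K × K × K × K × K × K × K × K × K :=
    ⟨fun u => (u.y1, u.x1, u.x2, u.y3, u.x3, u.x4, u.y5, u.x5, u.x6, u.y7, u.x7, u.x8),
      fun (a, b, c, d, e, f, g, h, i, j, k, l) => ⟨a, b, c, d, e, f, g, h, i, j, k, l⟩, fun _ => rfl, fun _ => rfl⟩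
  refine IsPGroup.of_card (n := (n + 1) * 12) ?_
  simp only [Nat.card_congr e, Nat.card_prod, h]
  ring

theorem isP (P : Subgroup (U K)) : IsPGroup 2 P := isPGroup_U.to_subgroup P

theorem odd_units : Odd (Nat.card Kˣ) := by
  obtain ⟨n, h⟩ := card_two_pow (K := K)
  rw [Nat.card_units, h]
  exact Nat.Even.sub_odd Nat.one_le_two_pow (by simp [Nat.even_pow]) odd_one

theorem aup_mul (a b c d : Kˣ) (γ δ : K ≃+* K) : aup a b γ * aup c d δ =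
    aup (a * Units.map (γ : K →* K) c) (b * Units.map (γ : K →* K) d) (γ * δ) :=
  Equiv.ext fun u => au_au _ _ _ _ _ _ u

theorem aup_one : aup (1 : Kˣ) 1 1 = 1 := Equiv.ext au_one

/-- the torus -/
def tor : Kˣ × Kˣ →* Perm (U K) := MonoidHom.mk' (fun a => aup a.1 a.2 1) fun a b => (aup_mul a.1 a.2 b.1 b.2 1 1).symm

theorem aup_cj (a b : Kˣ) (γ : K ≃+* K) (g : U K) : aup a b γ * cj g * (aup a b γ)⁻¹ = cj (aup a b γ g) :=
  Equiv.ext fun _ => (homOn_aup a b γ ⊤).conj_cj trivial trivial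

theorem inv_app {α : Type*} (σ : Perm α) (x : α) : σ⁻¹ (σ x) = x := σ.symm_apply_apply x

theorem app_inv {α : Type*} (σ : Perm α) (x : α) : σ (σ⁻¹ x) = x := σ.apply_symm_apply x

theorem innS_conj {Ω : Type*} [Group Ω] {Q : Subgroup Ω} {σ ρ : Perm Ω} (hσ : σ ∈ innS Q Q)
    (hρ : ρ ∈ autStab Q) : ρ * σ * ρ⁻¹ ∈ innS Q Q := by
  obtain ⟨g, hg, e⟩ := mem_innS_self.1 hσ
  have hi := (autStab Q).inv_mem hρ
  refine mem_innS_self.2 ⟨ρ g, (hρ.2 g).2 hg, fun x hx => ?_⟩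
  rw [Perm.mul_apply, Perm.mul_apply, e _ ((hi.2 x).2 hx), hρ.1.map_conj hg ((hi.2 x).2 hx)]
  simp

/-- the automizer of `S` is normalised -/
structure Nrm (Γ : Subgroup (K ≃+* K)) (F : FusionSystem (⊤ : Subgroup (U K))) : Prop where
  sat : F.IsSaturated 2
  top : ∀ σ, F.Iso ⊤ ⊤ σ → ∃ s a b, ∃ γ ∈ Γ, σ = cj s * aup a b γ
  gal : ∀ γ ∈ Γ, ∃ a b, F.Iso ⊤ ⊤ (aup a b γ)

variable {F F0 : FusionSystem (⊤ : Subgroup (U K))} {Γ : Subgroup (K ≃+* K)}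

theorem iso_cj_top (F : FusionSystem (⊤ : Subgroup (U K))) (s : U K) : F.Iso ⊤ ⊤ (cj s) :=
  F.iso_cj le_rfl trivial (mem_normalizer_of_finite fun _ _ => trivial)

theorem Nrm.all (h : Nrm Γ F) (hT : ∀ a b, F.Iso ⊤ ⊤ (aup a b 1)) (a b : Kˣ) {γ : K ≃+* K} (hγ : γ ∈ Γ) :
    F.Iso ⊤ ⊤ (aup a b γ) := by
  obtain ⟨c, d, e⟩ := h.gal γ hγ
  have := e.trans (hT (a / c) (b / d))
  rw [aup_mul] at this
  convert this using 2 <;> ext <;> simp

namespace RO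

variable {V : Type} [AddCommGroup V] [Module K V] {Q : Subgroup (U K)} {π : U K → V} {g0 g1 : U K}
  (h : RO Q π g0 g1) {σ τ : Perm (U K)} {γ δ : K ≃+* K}

theorem mem (hσ : σ ∈ autStab Q) {x : U K} (hx : x ∈ Q) : σ x ∈ Q := (hσ.2 x).2 hx

include h

theorem one : π 1 = 0 := by simpa using h.hom 1 Q.one_mem 1 Q.one_mem

theorem ne0 : π g0 ≠ 0 := fun e => one_ne_zero (h.ind 1 0 (by simp [e])).1

theorem ne1 : π g1 ≠ 0 := fun e => one_ne_zero (h.ind 0 1 (by simp [e])).2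

theorem resp (hσ : σ ∈ autStab Q) {x y : U K} (hx : x ∈ Q) (hy : y ∈ Q) (e : π x = π y) : π (σ x) = π (σ y) := by
  obtain ⟨γ, hγ⟩ := h.semi σ hσ
  simpa using hγ y hy x hx 1 (by simpa using e)

theorem ne (hσ : σ ∈ autStab Q) {x : U K} (hx : x ∈ Q) (e : π x ≠ 0) : π (σ x) ≠ 0 := fun e' => by
  have hi := (autStab Q).inv_mem hσ
  have := h.resp hi (mem hσ hx) Q.one_mem (e'.trans h.one.symm)
  rw [hi.1.map_one, h.one] at this
  exact e (by simpa using this)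

theorem cj_mem (s : U K) : cj s ∈ autStab Q :=
  ⟨homOn_cj _ _, fun x => ⟨fun hx => by simpa [mul_assoc] using h.nrm s⁻¹ _ hx, h.nrm s x⟩⟩

theorem aup_mem (a b : Kˣ) (γ : K ≃+* K) : aup a b γ ∈ autStab Q :=
  ⟨homOn_aup a b γ Q, fun x => ⟨fun hx => by
    have := h.auQ (Units.map (γ⁻¹ : K ≃+* K) a⁻¹) (Units.map (γ⁻¹ : K ≃+* K) b⁻¹) γ⁻¹ _ hx
    exact (aup a b γ).left_inv x ▸ this, h.auQ a b γ x⟩⟩

theorem iso_cj (F : FusionSystem (⊤ : Subgroup (U K))) (s : U K) : F.Iso Q Q (cj s) :=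
  (F.isMap_cj le_top trivial).iso_of_setStab (h.cj_mem s).2

theorem res (hσ : F.Iso ⊤ ⊤ σ) (hm : σ ∈ autStab Q) : F.Iso Q Q σ := (hσ.isMap.mono le_top).iso_of_setStab hm.2

omit h in
theorem sem_mul (h1 : Sem Q π σ γ) (h2 : Sem Q π τ δ) (hτ : τ ∈ autStab Q) : Sem Q π (σ * τ :) (γ * δ) :=
  fun x hx y hy c e => h1 _ (mem hτ hx) _ (mem hτ hy) _ (h2 x hx y hy c e)

omit h in
theorem sem_congr (h1 : Sem Q π σ γ) (e : ∀ x ∈ Q, π (τ x) = π (σ x)) : Sem Q π τ γ :=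
  fun x hx y hy c e' => by rw [e x hx, e y hy, h1 x hx y hy c e']

theorem sem_uniq (hσ : σ ∈ autStab Q) (h1 : Sem Q π σ γ) (h2 : Sem Q π σ δ) : γ = δ := RingEquiv.ext fun c => by
  obtain ⟨y, hy, e⟩ := h.surj (c • π g0)
  exact smul_left_injective K (h.ne hσ h.m0 h.ne0) ((h1 _ h.m0 y hy c e).symm.trans (h2 _ h.m0 y hy c e))

theorem sem_inv (hσ : σ ∈ autStab Q) (h1 : Sem Q π σ γ) : Sem Q π (σ⁻¹ :) γ⁻¹ := by
  have hi := (autStab Q).inv_mem hσ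
  obtain ⟨δ, hδ⟩ := h.semi _ hi
  have := sem_mul h1 hδ hi
  rw [mul_inv_cancel] at this
  rwa [inv_eq_of_mul_eq_one_right (h.sem_uniq (autStab Q).one_mem this fun x _ y _ c e => e)]

theorem mv_mul {x y z : U K} (hσ : σ ∈ autStab Q) (hτ : τ ∈ autStab Q) (hx : x ∈ Q) (hy : y ∈ Q)
    (h1 : Mv π σ y z) (h2 : Mv π τ x y) : Mv π (σ * τ :) x z := by
  obtain ⟨γ, hγ⟩ := h.semi σ hσ
  obtain ⟨c, e⟩ := h1
  obtain ⟨d, e'⟩ := h2
  exact ⟨γ d * c, by rw [Perm.mul_apply, hγ y hy _ (mem hτ hx) d e', e, mul_smul]⟩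

theorem mv_inv {x y : U K} (hσ : σ ∈ autStab Q) (hx : x ∈ Q) (hy : y ∈ Q) (h0 : π x ≠ 0)
    (h1 : Mv π σ x y) : Mv π (σ⁻¹ :) y x := by
  obtain ⟨γ, hγ⟩ := h.semi _ ((autStab Q).inv_mem hσ)
  obtain ⟨c, e⟩ := h1
  have := hγ y hy _ (mem hσ hx) c e
  rw [inv_app] at this
  have hc : γ c ≠ 0 := fun e => h0 (by rw [this, e, zero_smul])
  exact ⟨(γ c)⁻¹, by rw [this, inv_smul_smul₀ hc]⟩

theorem not_both {x : U K} (hσ : σ ∈ autStab Q) (hx : x ∈ Q) (h0 : π x ≠ 0) (h1 : Mv π σ x g0)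
    (h2 : Mv π σ x g1) : False := by
  obtain ⟨c, e⟩ := h1
  obtain ⟨d, e'⟩ := h2
  exact h.ne hσ hx h0 (by rw [e, (h.ind c d (e.symm.trans e')).1, zero_smul])

theorem mv_cj (s : U K) : Mv π (cj s) g0 g0 := ⟨1, by simpa using h.cj0 s⟩

omit h in
/-- the kernel of the action on `V` -/
def ker (_ : RO Q π g0 g1) : Subgroup (Perm (U K)) where
  carrier := {σ | σ ∈ autStab Q ∧ ∀ x ∈ Q, π (σ x) = π x}
  one_mem' := ⟨(autStab Q).one_mem, fun _ _ => rfl⟩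
  mul_mem' {a b} ha hb := ⟨(autStab Q).mul_mem ha.1 hb.1, fun x hx => by
    rw [Perm.mul_apply, ha.2 _ (mem hb.1 hx), hb.2 x hx]⟩
  inv_mem' {a} ha := ⟨(autStab Q).inv_mem ha.1, fun x hx => by
    rw [← ha.2 _ (mem ((autStab Q).inv_mem ha.1) hx), app_inv]⟩

theorem ker_conj (hσ : σ ∈ h.ker) (hτ : τ ∈ autStab Q) : τ * σ * τ⁻¹ ∈ h.ker := by
  have hi := (autStab Q).inv_mem hτ
  refine ⟨(autStab Q).mul_mem ((autStab Q).mul_mem hτ hσ.1) hi, fun x hx => ?_⟩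
  rw [Perm.mul_apply, Perm.mul_apply, h.resp hτ (mem hσ.1 (mem hi hx)) (mem hi hx) (hσ.2 _ (mem hi hx)),
    app_inv]

theorem mem_ker (hσ : σ ∈ autStab Q) (hτ : τ ∈ autStab Q) (e : ∀ x ∈ Q, π (τ x) = π (σ x)) : σ⁻¹ * τ ∈ h.ker := by
  have hi := (autStab Q).inv_mem hσ
  refine ⟨(autStab Q).mul_mem hi hτ, fun x hx => ?_⟩
  rw [Perm.mul_apply, h.resp hi (mem hτ hx) (mem hσ hx) (e x hx), inv_app]

theorem cj_ker {u : U K} (hu : u ∈ Q) : cj u ∈ h.ker := ⟨h.cj_mem u, fun x hx => by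
  have := h.hom _ (h.nrm u x hx) u hu
  rw [inv_mul_cancel_right, h.hom u hu x hx, add_comm] at this
  exact (add_right_cancel this).symm⟩

theorem inn (hE : F.IsEssential 2 Q) (hσ : F.Iso Q Q σ) (hk : σ ∈ h.ker) : σ ∈ innS Q Q := by
  haveI : Fact (Nat.Prime 2) := ⟨Nat.prime_two⟩
  rw [← (hE.isRadical (isP _)).opStab_eq]
  exact le_opStab le_top (U := F.stab Q ⊓ h.ker) inf_le_left (fun τ hτ => h.two τ hτ.2.1 hτ.2.2)
    (fun τ hτ u hu => ⟨(hτ.conj ((mem_stab le_top).1 hu.1)).mem_stab, h.ker_conj hu.2 hτ.mem_autStab⟩)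
    ⟨hσ.mem_stab, hk⟩

theorem fix1 (hσ : σ ∈ autStab Q) (h0 : Mv π σ g0 g0) : ∃ s : U K, Mv π (cj s * σ :) g1 g1 :=
  (h.pt σ hσ g1 (Or.inr rfl)).resolve_left fun e => h.not_both ((autStab Q).inv_mem hσ) h.m0 h.ne0
    (h.mv_inv hσ h.m0 h.m0 h.ne0 h0) (h.mv_inv hσ h.m1 h.m0 h.ne1 e)

theorem ext0 (hF : F.IsSaturated 2) (hE : F.IsEssential 2 Q) (hσ : F.Iso Q Q σ) (h0 : Mv π σ g0 g0) :
    ∃ α, F.Iso ⊤ ⊤ α ∧ ∀ x ∈ Q, α x = σ x := by
  haveI : Fact (Nat.Prime 2) := ⟨Nat.prime_two⟩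
  obtain ⟨s, h1⟩ := h.fix1 hσ.mem_autStab h0
  have hτ := hσ.trans (h.iso_cj F s)
  obtain ⟨a, b, γ, e⟩ := h.fl _ hτ.mem_autStab
    (h.mv_mul (h.cj_mem s) hσ.mem_autStab h.m0 h.m0 (h.mv_cj s) h0) h1
  have hl := h.aup_mem a b γ
  have hk := h.mem_ker hl hτ.mem_autStab e
  obtain ⟨α, h2, h3⟩ := H4.Sp.exists_ext_top (hE.isFullyNormalized.isReceptive hF (isP _))
    (fun g _ => mem_normalizer_of_finite (h.nrm g)) hτ fun g _ => by
      have h4 := h.inn hE ((hτ.conj (h.iso_cj F g)).trans (h.iso_cj F (aup a b γ g)).symm) (by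
        have := h.ker_conj (h.ker.mul_mem (h.ker_conj hk ((autStab Q).inv_mem (h.cj_mem g))) (h.ker.inv_mem hk)) hl
        rw [← aup_cj]
        convert this using 1
        group)
      have := (innS ⊤ Q).mul_mem (cj_mem_innS (S := ⊤) trivial (mem_normalizer_of_finite (h.nrm (aup a b γ g))))
        (innS_mono le_top Q h4)
      rwa [mul_inv_cancel_left] at this
  exact ⟨_, h2.trans (iso_cj_top F s).symm, fun x hx => by rw [Perm.mul_apply, h3 x hx]; simp [mul_assoc]⟩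

theorem exists_sw (hF : F.IsSaturated 2) (hE : F.IsEssential 2 Q) :
    ∃ n, F.Iso Q Q n ∧ Mv π n g0 g1 ∧ Mv π n g1 g0 := by
  haveI : Fact (Nat.Prime 2) := ⟨Nat.prime_two⟩
  obtain ⟨σ, hσ, h0⟩ : ∃ σ, F.Iso Q Q σ ∧ ¬ Mv π σ g0 g0 := by
    by_contra! H
    refine hE.extStab_ne (isP _) (le_antisymm (F.extStab_le_stab Q) fun σ hσ => ?_)
    have hσ := (mem_stab le_top).1 hσ
    obtain ⟨α, h1, h2⟩ := h.ext0 hF hE hσ (H σ hσ)
    exact Extendable.mem_extStab ⟨⊤, hE.lt hF (isP _), α, h1.isMap, h2⟩ hσ.mem_setStab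
  obtain ⟨s, h1⟩ := (h.pt σ hσ.mem_autStab g0 (Or.inl rfl)).resolve_left h0
  have hτ := hσ.trans (h.iso_cj F s)
  obtain ⟨r, h2⟩ := (h.pt _ hτ.symm.mem_autStab g0 (Or.inl rfl)).resolve_left fun e =>
    h.not_both hτ.mem_autStab h.m0 h.ne0 (by simpa using h.mv_inv hτ.symm.mem_autStab h.m0 h.m0 h.ne0 e) h1
  have hρ := hτ.symm.trans (h.iso_cj F r)
  refine ⟨_, hρ.symm, ?_, h.mv_inv hρ.mem_autStab h.m0 h.m1 h.ne0 h2⟩
  rw [mul_inv_rev, inv_inv, ← map_inv]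
  exact h.mv_mul hτ.mem_autStab (h.cj_mem _) h.m0 h.m0 h1 (h.mv_cj _)

/-- an automorphism fixing the line of `g0` is induced by a standard one -/
theorem std (hN : Nrm Γ F) (hE : F.IsEssential 2 Q) (hσ : F.Iso Q Q σ) (h0 : Mv π σ g0 g0) (h1 : Sem Q π σ γ) :
    γ ∈ Γ ∧ ∃ s a b, F.Iso ⊤ ⊤ (aup a b γ) ∧ ∀ x ∈ Q, σ x = s * aup a b γ x * s⁻¹ := by
  obtain ⟨α, h2, h3⟩ := h.ext0 hN.sat hE hσ h0
  obtain ⟨s, a, b, δ, hδ, rfl⟩ := hN.top α h2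
  obtain rfl : γ = δ := h.sem_uniq hσ.mem_autStab h1 (sem_congr
    (one_mul δ ▸ sem_mul (h.cjS s) (h.auS a b δ) (h.aup_mem a b δ)) fun x hx => by rw [h3 x hx])
  exact ⟨hδ, s, a, b, by simpa using h2.trans (iso_cj_top F s).symm, fun x hx => (h3 x hx).symm⟩

theorem gam (hN : Nrm Γ F) (hE : F.IsEssential 2 Q) (hσ : F.Iso Q Q σ) (h0 : Mv π σ g0 g1) (h1 : Mv π σ g1 g0)
    (h2 : Sem Q π σ γ) : γ ∈ Γ := by
  have := (h.std hN hE (hσ.trans hσ) (h.mv_mul hσ.mem_autStab hσ.mem_autStab h.m0 h.m1 h1 h0)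
    (sem_mul h2 h2 hσ.mem_autStab)).1
  obtain ⟨_, ⟨k, rfl⟩, hm⟩ := gal_odd (K := K)
  have e := hm γ
  rw [pow_succ, pow_mul, pow_two] at e
  exact inv_mem_iff.1 (eq_inv_of_mul_eq_one_left e ▸ Γ.pow_mem this k)

theorem key (hE : F.IsEssential 2 Q) (hE0 : F0.IsEssential 2 Q) (hT : ∀ a b, F.Iso ⊤ ⊤ (aup a b 1))
    (hT0 : ∀ a b, F0.Iso ⊤ ⊤ (aup a b 1)) {n m : Perm (U K)} (hn : F.Iso Q Q n) (hm : F0.Iso Q Q m)
    (h0 : Mv π m g0 g1) (h1 : Mv π m g1 g0) (hk : n * m⁻¹ ∈ h.ker) : F0.Iso Q Q n := by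
  haveI : Fact (Nat.Prime 2) := ⟨Nat.prime_two⟩
  have hma := hm.mem_autStab
  have hmi := hm.symm.mem_autStab
  have step : ∀ a b : Kˣ, (n * m⁻¹)⁻¹ * aup a b 1 * (n * m⁻¹) * (aup a b 1)⁻¹ ∈ innS Q Q := fun a b => by
    have ht := h.aup_mem a b 1
    have hc := (autStab Q).mul_mem ((autStab Q).mul_mem hmi ht) hma
    obtain ⟨c, d, δ, e⟩ := h.fl _ hc
      (h.mv_mul ((autStab Q).mul_mem hmi ht) hma h.m0 h.m1
        (h.mv_mul hmi ht h.m1 h.m1 (h.mv_inv hma h.m0 h.m1 h.ne0 h0) (h.au1 a b 1)) h0)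
      (h.mv_mul ((autStab Q).mul_mem hmi ht) hma h.m1 h.m0
        (h.mv_mul hmi ht h.m0 h.m0 (h.mv_inv hma h.m1 h.m0 h.ne1 h1) (h.au0 a b 1)) h1)
    obtain ⟨γ, hγ⟩ := h.semi m hma
    obtain rfl : 1 = δ := h.sem_uniq hc
      (by simpa using sem_mul (sem_mul (h.sem_inv hma hγ) (h.auS a b 1) ht) hγ hma) (sem_congr (h.auS c d δ) e)
    have ht' := h.aup_mem c d 1
    have k0 := h.mem_ker ht' hc e
    have i0 := h.inn hE0 (((hm.trans (h.res (hT0 a b) ht)).trans hm.symm).trans (h.res (hT0 c d) ht').symm)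
      (by simpa [mul_assoc] using k0)
    have i1 := h.inn hE (((hn.trans (h.res (hT a b) ht)).trans hn.symm).trans (h.res (hT c d) ht').symm) (by
      have := h.ker.mul_mem (h.ker_conj (h.ker.mul_mem (h.ker.inv_mem hk) (h.ker_conj hk ht))
        ((autStab Q).mul_mem ((autStab Q).inv_mem ht') hmi)) k0
      convert this using 1
      group)
    have := innS_conj ((innS Q Q).mul_mem i1 ((innS Q Q).inv_mem i0)) ((autStab Q).mul_mem hma ht')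
    convert this using 1
    group
  let t : Kˣ × Kˣ →* MulAut Q := (resHom Q).comp (tor.codRestrict (autStab Q) fun a => h.aup_mem a.1 a.2 1)
  have ht : ∀ a, t a = resAut Q (aup a.1 a.2 1) := fun a => (resAut_eq _).symm
  obtain ⟨k, hk2⟩ := (isPGroup_autInducedBy (isP Q) Q).exists_card_eq
  rw [autInducedBy_self] at hk2
  have hr := homOn_resAut Q
  obtain ⟨i, hi, hc⟩ := H1.exists_centralizer_in_coset (A := t.range) (N := Inn Q) (x := resAut Q (n * m⁻¹))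
    (by
      rintro _ ⟨a, rfl⟩
      refine mem_normalizer_of_finite fun i hi => ?_
      have := innS_conj (σ := extAut Q i) (by rw [innS_self, mem_liftAut]; exact ⟨extAut_mem_autStab i, by rwa [resAut_extAut]⟩)
        (h.aup_mem a.1 a.2 1)
      rw [innS_self, mem_liftAut, hr.map_conj (h.aup_mem _ _ _) (extAut_mem_autStab i), resAut_extAut] at this
      exact ht a ▸ this.2)
    (by
      rw [hk2]
      refine (Nat.Coprime.pow_right _ (Odd.coprime_two_right (Odd.of_dvd_nat ?_ (Subgroup.card_range_dvd t))))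
      rw [Nat.card_prod]
      exact odd_units.mul odd_units)
    (Or.inr (H1.IsPGroup.isSolvable (IsPGroup.of_card hk2)))
    (by
      rintro _ ⟨a, rfl⟩
      have := step a.1 a.2
      have ha := h.aup_mem a.1 a.2 1
      rw [innS_self, mem_liftAut, hr.map_mul ((autStab Q).mul_mem ((autStab Q).mul_mem (inv_mem hk.1) ha) hk.1)
        (inv_mem ha), hr.map_conj' hk.1 ha, hr.map_inv ha] at this
      exact ht a ▸ this.2)
  obtain ⟨u, hu, e⟩ := mem_innS_self.1 (show extAut Q i ∈ innS Q Q by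
    rw [innS_self, mem_liftAut]; exact ⟨extAut_mem_autStab i, by rwa [resAut_extAut]⟩)
  have hν := h.ker.mul_mem hk (h.cj_ker hu)
  have e1 : resAut Q (n * m⁻¹ * cj u) = resAut Q (n * m⁻¹) * i := by
    rw [hr.map_mul hk.1 (h.cj_mem u), (resAut_congr (h.cj_mem u) (extAut_mem_autStab i)).2 fun x hx => (e x hx).symm,
      resAut_extAut]
  have hf := h.cen _ hν.1 hν.2 fun a b => by
    have ha := h.aup_mem a b 1
    have := hc _ ⟨(a, b), rfl⟩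
    rw [← e1, ht, ← hr.map_mul ha hν.1, ← hr.map_mul hν.1 ha,
      resAut_congr ((autStab Q).mul_mem ha hν.1) ((autStab Q).mul_mem hν.1 ha)] at this
    exact fun x hx => (this x hx).symm
  have := (hm.trans (h.iso_cj F0 u).symm).trans (F0.iso_of_fix le_top hf)
  simpa [mul_assoc] using this

theorem le (hN : Nrm Γ F) (hN0 : Nrm Γ F0) (hE : F.IsEssential 2 Q) (hE0 : F0.IsEssential 2 Q)
    (hT : ∀ a b, F.Iso ⊤ ⊤ (aup a b 1)) (hT0 : ∀ a b, F0.Iso ⊤ ⊤ (aup a b 1)) (hσ : F.Iso Q Q σ) :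
    F0.Iso Q Q σ := by
  have fx : ∀ σ, F.Iso Q Q σ → Mv π σ g0 g0 → F0.Iso Q Q σ := fun σ hσ h0 => by
    obtain ⟨γ, hγ⟩ := h.semi σ hσ.mem_autStab
    obtain ⟨h1, s, a, b, -, e⟩ := h.std hN hE hσ h0 hγ
    exact ((h.res (hN0.all hT0 a b h1) (h.aup_mem a b γ)).trans (h.iso_cj F0 s)).congr e
  obtain ⟨n, hn, n0, n1⟩ := h.exists_sw hN.sat hE
  obtain ⟨m, hm, m0, m1⟩ := h.exists_sw hN0.sat hE0
  have hna := hn.mem_autStab
  have hma := hm.mem_autStab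
  have hmi := hm.symm.mem_autStab
  obtain ⟨γ, hγ⟩ := h.semi n hna
  obtain ⟨δ, hδ⟩ := h.semi m hma
  obtain ⟨a, b, ε, e⟩ := h.fl _ ((autStab Q).mul_mem hna hmi)
    (h.mv_mul hna hmi h.m0 h.m1 n1 (h.mv_inv hma h.m1 h.m0 h.ne1 m1))
    (h.mv_mul hna hmi h.m1 h.m0 n0 (h.mv_inv hma h.m0 h.m1 h.ne0 m0))
  have hε : ε ∈ Γ := h.sem_uniq ((autStab Q).mul_mem hna hmi) (sem_mul hγ (h.sem_inv hma hδ) hmi)
    (sem_congr (h.auS a b ε) e) ▸ Γ.mul_mem (h.gam hN hE hn n0 n1 hγ) (Γ.inv_mem (h.gam hN0 hE0 hm m0 m1 hδ))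
  have hl := h.aup_mem a b ε
  have hn0 := h.key hE hE0 hT hT0 hn (hm.trans (h.res (hN0.all hT0 a b hε) hl))
    (h.mv_mul hl hma h.m0 h.m1 (h.au1 a b ε) m0) (h.mv_mul hl hma h.m1 h.m0 (h.au0 a b ε) m1) (by
      have := h.ker_conj (h.mem_ker hl ((autStab Q).mul_mem hna hmi) e) hl
      convert this using 1
      group)
  rcases h.pt σ hσ.mem_autStab g0 (Or.inl rfl) with h0 | ⟨s, h0⟩
  · exact fx σ hσ h0
  · have hτ := hσ.trans (h.iso_cj F s)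
    have := ((fx _ (hτ.trans hn) (h.mv_mul hna hτ.mem_autStab h.m0 h.m1 n1 h0)).trans hn0.symm).trans
      (h.iso_cj F0 s).symm
    simpa [mul_assoc] using this

end RO

end Cfsg.Agent.Rf
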