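import Cfsg.Agent.Rf.C1

/-! The torus lies in the automizer of `S`; normalising the automizer of `S`. -/

set_option autoImplicit false
set_option linter.unusedSectionVars false

open Equiv

namespace Cfsg.Agent.Rf

open Cfsg.Fus Cfsg.FusionSystem U

variable {K : Type} [Field K] [Finite K] [TF K]
variable {F F0 : FusionSystem (⊤ : Subgroup (U K))} {Γ : Subgroup (K ≃+* K)}

theorem cj_y1 (s x : U K) : (s * x * s⁻¹).y1 = x.y1 := by usimp; grind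

theorem cj_x8 (s x : U K) : (s * x * s⁻¹).x8 = x.x8 := by usimp; grind

theorem torL (h : RO (QL (K := K)) πL (Y7 1) (Y1 1)) (hN : Nrm Γ F) (hE : F.IsEssential 2 QL) (l : Kˣ) :
    F.Iso ⊤ ⊤ (aup l (l⁻¹ ^ 2) 1) := by
  obtain ⟨n, hn, ⟨c, n0⟩, ⟨d, n1⟩⟩ := h.exists_sw hN.sat hE
  have hna := hn.mem_autStab
  obtain ⟨γ, hγ⟩ := h.semi n hna
  have hc : c ≠ 0 := fun e => h.ne hna h.m0 h.ne0 (by rw [n0, e, zero_smul])
  have hd : d ≠ 0 := fun e => h.ne hna h.m1 h.ne1 (by rw [n1, e, zero_smul])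
  have fn : ∀ x ∈ QL, (n x).y1 = c * γ x.y7 ∧ (n x).y7 = d * γ x.y1 := fun x hx => by
    have m1 : Y1 x.y1 ∈ QL := rfl
    have m7 : Y7 x.y7 ∈ QL := rfl
    have e := h.resp hna hx (QL.mul_mem m1 m7) (by rw [h.hom _ m1 _ m7]; simp [πL, Y1, Y7])
    rw [hna.1.map_mul m1 m7, h.hom _ (RO.mem hna m1) _ (RO.mem hna m7),
      hγ _ h.m1 _ m1 x.y1 (by simp [πL, Y1]), hγ _ h.m0 _ m7 x.y7 (by simp [πL, Y7]), n0, n1] at e
    simpa [πL, Y1, Y7, mul_comm] using e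
  have up : ∀ s : K, ∀ x ∈ QL, (cj (X8 s) x).y1 = x.y1 ∧ (cj (X8 s) x).y7 = x.y7 + s * x.y1 :=
    fun s x (hx : x.x8 = 0) => by
      rw [cj_apply]
      constructor <;> usimp <;> simp only [hx] <;> grind
  have lo : ∀ r : K, ∃ σ, F.Iso QL QL σ ∧ ∀ x ∈ QL, (σ x).y1 = x.y1 + r * x.y7 ∧ (σ x).y7 = x.y7 := fun r =>
    ⟨_, hn.conj (h.iso_cj F (X8 (γ.symm (r * d / c)))), fun x hx => by
      have hz := hn.inv_mem hx
      have e1 := fn _ hz
      have e2 := up (γ.symm (r * d / c)) _ hz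
      have e3 := fn _ ((h.iso_cj F (X8 (γ.symm (r * d / c)))).mem hz)
      rw [app_inv] at e1
      rw [Perm.mul_apply, Perm.mul_apply, e3.1, e3.2, e2.1, e2.2, e1.1, e1.2, map_add, map_mul,
        RingEquiv.apply_symm_apply]
      exact ⟨by field_simp, rfl⟩⟩
  have w : ∀ r : K, r ≠ 0 → ∃ σ, F.Iso QL QL σ ∧ ∀ x ∈ QL, (σ x).y1 = r⁻¹ * x.y7 ∧ (σ x).y7 = r * x.y1 :=
    fun r hr => by
      obtain ⟨σ, h1, h2⟩ := lo r⁻¹
      have hu := h.iso_cj F (X8 r)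
      refine ⟨_, (hu.trans h1).trans hu, fun x hx => ?_⟩
      have e1 := up r x hx
      have e2 := h2 _ (hu.mem hx)
      have e3 := up r _ (h1.mem (hu.mem hx))
      rw [Perm.mul_apply, Perm.mul_apply, e3.1, e3.2, e2.1, e2.2, e1.1, e1.2]
      constructor <;> field_simp <;> grind
  obtain ⟨σ, h1, h2⟩ := w (l⁻¹ : Kˣ) (Units.ne_zero _)
  obtain ⟨τ, h3, h4⟩ := w 1 one_ne_zero
  have e : ∀ x ∈ QL, ((σ * τ) x).y1 = l * x.y1 ∧ ((σ * τ) x).y7 = (l⁻¹ : Kˣ) * x.y7 := fun x hx => by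
    rw [Perm.mul_apply, (h2 _ (h3.mem hx)).1, (h2 _ (h3.mem hx)).2, (h4 x hx).1, (h4 x hx).2]
    simp
  obtain ⟨-, s, a, b, h5, h6⟩ := h.std (γ := 1) hN hE (h3.trans h1)
    ⟨(l⁻¹ : Kˣ), Prod.ext (by simpa [πL, Y7] using (e _ h.m0).1) (by simpa [πL, Y7] using (e _ h.m0).2)⟩
    fun x hx y hy c e' => by
      simp only [πL, Prod.ext_iff, Prod.smul_mk, smul_eq_mul] at e' ⊢
      rw [(e x hx).1, (e x hx).2, (e y hy).1, (e y hy).2, e'.1, e'.2]
      constructor <;> simp only [RingAut.one_apply] <;> ring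
  have e1 := (e _ h.m1).1
  have e2 := (e _ h.m0).2
  rw [h6 _ h.m1, cj_y1] at e1
  have e3 := congrArg Prod.snd (h.cjS s _ h.m0 _ (h.auQ a b 1 _ h.m0) (a * b) (by simp [πL, aup_apply, au, Y7]))
  rw [cj_apply, cj_apply, h.cj0, ← h6 _ h.m0] at e3
  simp only [πL, e2] at e3
  simp [aup_apply, au, Y1] at e1
  simp [Y7, e1] at e3
  obtain rfl : a = l := Units.ext e1
  obtain rfl : b = a⁻¹ ^ 2 := Units.ext (by
    have := a.ne_zero
    simp only [Units.val_pow_eq_pow_val, Units.val_inv_eq_inv_val]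
    grind)
  exact h5

theorem sq_φ {x : K} (h : x ^ 2 * φ x = 1) : x = 1 := by
  have := congrArg φ h
  rw [map_mul, map_pow, φφ, map_one] at this
  grind

theorem torS (h : RO (QS (K := K)) πS (X2 1) (X8 1)) (hN : Nrm Γ F) (hE : F.IsEssential 2 QS)
    (hL : ∀ l : Kˣ, F.Iso ⊤ ⊤ (aup l (l⁻¹ ^ 2) 1)) (a b : Kˣ) : F.Iso ⊤ ⊤ (aup a b 1) := by
  obtain ⟨n, hn, ⟨c, n0⟩, ⟨d, n1⟩⟩ := h.exists_sw hN.sat hE
  have hna := hn.mem_autStab
  have hni := hn.symm.mem_autStab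
  obtain ⟨γ, hγ⟩ := h.semi n hna
  have hc : c ≠ 0 := fun e => h.ne hna h.m0 h.ne0 (by rw [n0, e, zero_smul])
  have hd : d ≠ 0 := fun e => h.ne hna h.m1 h.ne1 (by rw [n1, e, zero_smul])
  let f : Kˣ →* Kˣ := Units.map ((φ : K ≃+* K) : K →* K)
  have h1 : ∀ m : Kˣ, F.Iso ⊤ ⊤ (aup m⁻¹ (f m) 1) := fun m => by
    let l : Kˣ := Units.map (γ.symm : K →* K) m
    have hl : γ l = m := γ.apply_symm_apply _
    have ht := h.aup_mem l (l⁻¹ ^ 2) 1
    obtain ⟨-, s, a, b, h5, h6⟩ := h.std (γ := 1) hN hE (hn.conj (h.res (hL l) ht))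
      (h.mv_mul (mul_mem hna ht) hni h.m0 h.m1 (h.mv_mul hna ht h.m1 h.m1 ⟨d, n1⟩ (h.au1 _ _ _))
        (h.mv_inv hna h.m1 h.m0 h.ne1 ⟨d, n1⟩))
      (by simpa using RO.sem_mul (RO.sem_mul hγ (h.auS l (l⁻¹ ^ 2) 1) ht) (h.sem_inv hna hγ) hni)
    have e1 := h6 _ (hn.mem h.m0)
    have e2 := h6 _ (hn.mem h.m1)
    rw [Perm.mul_apply, Perm.mul_apply, inv_app] at e1 e2
    have e3 := hγ _ h.m0 _ (h.auQ l (l⁻¹ ^ 2) 1 _ h.m0) (φ (l : K)) (by simp [πS, aup_apply, au, X2]; field_simp)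
    have e4 := hγ _ h.m1 _ (h.auQ l (l⁻¹ ^ 2) 1 _ h.m1) ((l : K)⁻¹ ^ 2) (by simp [πS, aup_apply, au, X8])
    have e5 := h.cjS s _ h.m0 _ (h.auQ a b 1 _ (hn.mem h.m1)) (a ^ 2 * φ (a : K) * b * d) (by
      simp only [πS, X2, Prod.ext_iff, Prod.smul_mk, smul_eq_mul] at n1
      simp [πS, aup_apply, au, X2, n1])
    rw [cj_apply, cj_apply, h.cj0, ← e2, e4, n1, smul_smul] at e5
    rw [e1, n0] at e3
    have e6 := congrArg (fun v : K × K × K × K => v.2.2.2) e3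
    have e7 := congrArg (fun v : K × K × K × K => v.2.2.2) n0
    have e8 := congrArg (fun v : K × K × K × K => v.1) e5
    simp only [πS, cj_x8, X8, X2, Prod.smul_mk, smul_eq_mul, mul_one, aup_apply, au, RingAut.one_apply,
      gal_comm γ φ, hl, map_pow, map_inv₀] at e6 e7 e8
    obtain rfl : b = f m := Units.ext (mul_right_cancel₀ hc (by rw [e7] at e6; exact e6))
    obtain rfl : a = m⁻¹ := by
      refine eq_inv_of_mul_eq_one_left (Units.ext (sq_φ ?_))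
      have := mul_right_cancel₀ hd e8
      simp only [f, Units.coe_map, MonoidHom.coe_coe] at this
      simp only [Units.val_mul, map_mul]
      field_simp at this
      grind
    exact h5
  have inj : Function.Injective fun m : Kˣ => m⁻¹ ^ 2 * f m := fun m m' e => by
    have e1 := congrArg Units.val e
    simp only [f, Units.val_mul, Units.coe_map, MonoidHom.coe_coe, Units.val_pow_eq_pow_val,
      Units.val_inv_eq_inv_val] at e1
    have e2 := congrArg φ e1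
    simp only [map_mul, map_pow, map_inv₀, φφ] at e2
    have := φ_ne_zero m.ne_zero
    have := φ_ne_zero m'.ne_zero
    have := m.ne_zero
    have := m'.ne_zero
    refine Units.ext ?_
    field_simp at e1 e2
    grind
  obtain ⟨m, hm⟩ := Finite.injective_iff_surjective.1 inj (b * a ^ 2)
  have := ((h1 m).trans (hL m)).trans (hL a)
  rw [aup_mul, aup_mul] at this
  convert this using 2
  · ext; simp
  · change b = a⁻¹ ^ 2 * (m⁻¹ ^ 2 * f m)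
    rw [show m⁻¹ ^ 2 * f m = _ from hm, mul_comm b, inv_pow, inv_mul_cancel_left]
  · simp

theorem aup_inv (a b : Kˣ) (γ : K ≃+* K) : (aup a b γ)⁻¹ =
    aup (Units.map (γ⁻¹ : K ≃+* K) a⁻¹) (Units.map (γ⁻¹ : K ≃+* K) b⁻¹) γ⁻¹ := Equiv.ext fun _ => rfl

theorem not_LS {τ : Perm (U K)} (hτ : HomOn τ ⊤) : ¬ ∀ x ∈ QL, τ x ∈ QS := fun H => by
  have := (H (τ⁻¹ (Y1 1) * τ⁻¹ (Y1 1)) (show _ + _ = (0 : K) from CharTwo.add_self_eq_zero _)).2
  rw [hτ.map_mul trivial trivial, app_inv] at this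
  revert this
  usimp
  simp

theorem stab_ess [ESS] (hF : F.IsSaturated 2) {E : Subgroup (U K)} (hE : F.IsEssential 2 E) {σ : Perm (U K)}
    (hσ : F.Iso ⊤ ⊤ σ) : σ ∈ setStab E := by
  haveI : Fact (Nat.Prime 2) := ⟨Nat.prime_two⟩
  have h := hσ.restrict (R := E) le_top
  rcases ESS.out hF _ hE with rfl | rfl <;> rcases ESS.out hF _ (H4.Sp.essential_img hE hσ) with e | e <;>
    rw [e] at h
  · exact h.mem_iff
  · exact (not_LS hσ.homOn fun _ hx => h.mem hx).elim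
  · exact (not_LS hσ.symm.homOn fun _ hx => h.inv_mem hx).elim
  · exact h.mem_iff

/-- torus and field automorphisms -/
def Lam (K : Type) [Field K] [Finite K] [TF K] : Subgroup (Perm (U K)) where
  carrier := {σ | ∃ a b γ, σ = aup a b γ}
  one_mem' := ⟨1, 1, 1, aup_one.symm⟩
  mul_mem' := by
    rintro _ _ ⟨a, b, γ, rfl⟩ ⟨c, d, δ, rfl⟩
    exact ⟨_, _, _, aup_mul ..⟩
  inv_mem' := by
    rintro _ ⟨a, b, γ, rfl⟩
    exact ⟨_, _, _, aup_inv a b γ⟩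

theorem odd_Lam : Odd (Nat.card (Lam K)) := by
  haveI : Fact (Nat.Prime 2) := ⟨Nat.prime_two⟩
  obtain ⟨m, hm, h⟩ := gal_odd (K := K)
  by_contra he
  obtain ⟨⟨_, a, b, γ, rfl⟩, hx⟩ := exists_prime_orderOf_dvd_card' 2 (Nat.not_odd_iff_even.1 he).two_dvd
  have h1 : ∀ k, ∃ c d, aup a b γ ^ k = aup c d (γ ^ k) := fun k => by
    induction k with
    | zero => exact ⟨1, 1, aup_one.symm⟩
    | succ k ih =>
      obtain ⟨c, d, e⟩ := ih
      exact ⟨_, _, by rw [pow_succ, e, aup_mul, pow_succ]⟩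
  obtain ⟨c, d, e⟩ := h1 m
  have h2 : aup a b γ ^ (m * Nat.card (Kˣ × Kˣ)) = 1 := by
    rw [pow_mul, e, h, show aup c d 1 = tor (c, d) from rfl, ← map_pow, pow_card_eq_one', map_one]
  rw [← Subgroup.orderOf_coe] at hx
  have := orderOf_dvd_of_pow_eq_one h2
  rw [show orderOf (aup a b γ) = 2 from hx, Nat.card_prod] at this
  exact Nat.not_even_iff_odd.2 (hm.mul (odd_units.mul odd_units)) (even_iff_two_dvd.2 this)

/-- automorphisms of `S` trivial on the Frattini quotient -/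
def Ntr (K : Type) [Field K] [Finite K] [TF K] : Subgroup (Perm (U K)) where
  carrier := {σ | σ ∈ autStab ⊤ ∧ ∀ x, (σ x).y1 = x.y1 ∧ (σ x).x8 = x.x8}
  one_mem' := ⟨one_mem _, fun _ => ⟨rfl, rfl⟩⟩
  mul_mem' {a b} ha hb := ⟨mul_mem ha.1 hb.1, fun x =>
    ⟨(ha.2 _).1.trans (hb.2 x).1, (ha.2 _).2.trans (hb.2 x).2⟩⟩
  inv_mem' {a} ha := ⟨inv_mem ha.1, fun x => by simpa [eq_comm] using ha.2 (a⁻¹ x)⟩

theorem aup_top (a b : Kˣ) (γ : K ≃+* K) : aup a b γ ∈ autStab ⊤ := ⟨homOn_aup a b γ ⊤, fun _ => Iff.rfl⟩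

theorem exists_nrm [ESS] [RT] (hq : ∃ c : K, c ≠ 0 ∧ c ≠ 1) (hF : F.IsSaturated 2) (hL : F.IsEssential 2 QL)
    (hS : F.IsEssential 2 QS) : ∃ θ θ' Γ, ∃ F' : FusionSystem (⊤ : Subgroup (U K)), L.Transp ⊤ ⊤ θ θ' F F' ∧
      Nrm Γ F' ∧ F'.IsEssential 2 QL ∧ F'.IsEssential 2 QS := by
  haveI : Fact (Nat.Prime 2) := ⟨Nat.prime_two⟩
  have hb : ∀ σ ∈ fixP (⊤ : Subgroup (U K)), σ = 1 := fun σ h => Equiv.ext fun x => h x trivial
  have hI : IsPGroup 2 (innS (⊤ : Subgroup (U K)) ⊤) := fun σ =>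
    (isPMod_innS (isP ⊤) ⊤ σ.1 σ.2).imp fun k h => Subtype.ext (hb (σ.1 ^ 2 ^ k) h)
  have hN : IsPGroup 2 (Ntr K) := fun σ => (RT.two hq _ σ.2.1 σ.2.2).imp fun k h => Subtype.ext h
  have h1 := ((F.finMod_stab le_rfl).sylMod_iff_not_dvd (inf_le_left.trans (fixP_le_innS _ _))).1
    (isFullyAutomized_iff_sylMod.1 (F.isFullyNormalized_top.isFullyAutomized hF (isP _))).2
  have hn : F.stab ⊤ ≤ Subgroup.normalizer (innS (⊤ : Subgroup (U K)) ⊤ : Set (Perm (U K))) := fun σ hσ =>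
    mem_normalizer_of_finite fun x hx => innS_conj hx (F.stab_le_autStab _ hσ)
  obtain ⟨k, hk⟩ := hI.exists_card_eq
  obtain ⟨l, hl⟩ := hN.exists_card_eq
  have ho := ((Nat.prime_two.coprime_iff_not_dvd).2 h1.2.2)
  obtain ⟨D, d1, d2, -, d3⟩ := H1.exists_complement_rel h1.1 hn (hk ▸ ho.pow_left k)
  obtain ⟨ω, hω, hc⟩ := H1.exists_conj_le_of_le_sup (N := Ntr K) (H := Lam K) (K := D)
    (by
      rintro _ ⟨a, b, γ, rfl⟩
      refine mem_normalizer_of_finite fun σ hσ =>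
        ⟨mul_mem (mul_mem (aup_top a b γ) hσ.1) (inv_mem (aup_top a b γ)), fun x => ?_⟩
      obtain ⟨y, rfl⟩ := (aup a b γ).surjective x
      rw [Perm.mul_apply, Perm.mul_apply, inv_app]
      simp only [aup_apply, au, hσ.2 y, and_self])
    (fun σ hσ => by
      have hσ := (mem_stab le_rfl).1 (d1 hσ)
      obtain ⟨a, b, γ, e⟩ := RT.dec σ hσ.mem_autStab (stab_ess hF hL hσ) (stab_ess hF hS hσ)
      rw [← mul_inv_cancel_left (aup a b γ) σ]
      refine mul_mem (Subgroup.mem_sup_left ⟨a, b, γ, rfl⟩) (Subgroup.mem_sup_right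
        ⟨mul_mem (inv_mem (aup_top a b γ)) hσ.mem_autStab, fun x => ?_⟩)
      have h2 := e x
      rw [← app_inv (aup a b γ) (σ x), aup_apply] at h2
      simpa [au] using h2)
    (hl ▸ (Odd.coprime_two_right odd_Lam).pow_right l) (hl ▸ d3 ▸ ho.symm.pow_right l)
    (Or.inl (H1.IsPGroup.isSolvable hN))
  have t0 : L.PIso ⊤ ⊤ ω ⇑ω⁻¹ :=
    ⟨hω.1.1, fun _ _ => trivial, fun _ _ => trivial, fun x _ => inv_app ω x, fun x _ => app_inv ω x⟩
  obtain ⟨F', t⟩ := t0.exists_transp le_rfl F t0.img_self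
  have hF' := t.isSaturated hF
  refine ⟨_, _, ⟨⟨⟨{γ | ∃ a b, F'.Iso ⊤ ⊤ (aup a b γ)}, ?_⟩, ?_⟩, ?_⟩, F', t, ⟨hF', fun σ hσ => ?_, fun γ h => h⟩,
    ?_, ?_⟩
  · rintro γ δ ⟨a, b, h⟩ ⟨c, d, h'⟩
    exact ⟨_, _, aup_mul a b c d γ δ ▸ h'.trans h⟩
  · exact ⟨1, 1, aup_one (K := K) ▸ F'.iso_one le_rfl⟩
  · rintro γ ⟨a, b, h⟩
    exact ⟨_, _, aup_inv a b γ ▸ h.symm⟩
  · have h2 : F.Iso ⊤ ⊤ (ω⁻¹ * σ * ω) := IsMap.iso_self
      (by have := t.map' hσ.isMap; rw [t.img_eq'] at this; exact this) fun _ _ => trivial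
    have h3 := h2.mem_stab
    rw [← d2, ← SetLike.mem_coe, Subgroup.coe_mul_of_left_le_normalizer_right _ _ (d1.trans hn)] at h3
    obtain ⟨d, hd, i, hi, e⟩ := h3
    obtain ⟨a, b, γ, e'⟩ := hc (Subgroup.smul_mem_pointwise_smul d _ _ hd)
    obtain ⟨g, -, e2⟩ := mem_innS_self.1 (innS_conj (innS_conj hi hω.1) (aup_top a b γ))
    have e3 : σ = cj g * aup a b γ := by
      rw [← (Equiv.ext fun x => e2 x trivial : _ = cj g), ← e', MulAut.smul_def, MulAut.conj_apply,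
        show i = d⁻¹ * (ω⁻¹ * σ * ω) from eq_inv_mul_of_mul_eq e]
      group
    exact ⟨g, a, b, γ, ⟨a, b, by simpa [e3] using hσ.trans (iso_cj_top F' g).symm⟩, e3⟩
  · rcases ESS.out hF' _ (t.isEssential hL) with e | e
    · exact e ▸ t.isEssential hL
    · exact (not_LS hω.1.1 fun x hx => e ▸ mem_img_of_mem _ hx).elim
  · rcases ESS.out hF' _ (t.isEssential hS) with e | e
    · have : ω (X8 1) ∈ QL := e ▸ mem_img_of_mem _ ⟨rfl, rfl⟩
      exact (one_ne_zero ((hω.2 (X8 1)).2.symm.trans this)).elim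
    · exact e ▸ t.isEssential hS

theorem Nrm.le [ESS] [RL] [RS] (hq : ∃ c : K, c ≠ 0 ∧ c ≠ 1) (h : Nrm Γ F) (h0 : Nrm Γ F0)
    (hL : F.IsEssential 2 QL) (hS : F.IsEssential 2 QS) (hL0 : F0.IsEssential 2 QL) (hS0 : F0.IsEssential 2 QS) :
    F ≤ F0 := by
  haveI : Fact (Nat.Prime 2) := ⟨Nat.prime_two⟩
  have hT := torS (RS.out hq) h hS (torL (RL.out hq) h hL)
  have hT0 := torS (RS.out hq) h0 hS0 (torL (RL.out hq) h0 hL0)
  refine h.sat.le_of_essential (isP _) fun P σ hP hσ => ?_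
  rcases hP with rfl | hP
  · obtain ⟨s, a, b, γ, hγ, rfl⟩ := h.top σ hσ
    exact ((h0.all hT0 a b hγ).trans (iso_cj_top F0 s)).isMap
  · rcases ESS.out h.sat P hP with rfl | rfl
    · exact ((RL.out hq).le h h0 hL hL0 hT hT0 hσ).isMap
    · exact ((RS.out hq).le h h0 hS hS0 hT hT0 hσ).isMap

end Cfsg.Agent.Rf
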