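import Cfsg.Agent.Rf.D0

/-! Coded multiplication in a group with twelve generators satisfying the polycyclic relations. -/

set_option autoImplicit false

namespace Cfsg.Agent.Rf.D

open L.PC

/-- evaluate `x` before passing it on -/
def frc {β : Type} (x : ℕ) (f : ℕ → β) : β := Nat.rec (f 0) (fun n _ => f (Nat.succ n)) x

theorem frc_eq {β : Type} (x : ℕ) (f : ℕ → β) : frc x f = f x := by cases x <;> rfl

def st0 (v a : ℕ) : ℕ := frc a fun a => Nat.add (Nat.land (Nat.add a v) 3) (Nat.mul 4 (Nat.mod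
  (Nat.shiftRight tb0 (Nat.mul 10 (Nat.add (Nat.mul v 1024) (Nat.shiftRight a 2)))) 1024))
def st1 (v a : ℕ) : ℕ := frc a fun a => Nat.add (Nat.land a 3) (Nat.mul 4 (Nat.mod
  (Nat.shiftRight tb1 (Nat.mul 10 (Nat.add (Nat.mul v 1024) (Nat.shiftRight a 2)))) 1024))
def st2 (v a : ℕ) : ℕ := frc a fun a => Nat.add (Nat.land a 31) (Nat.mul 32 (Nat.mod
  (Nat.shiftRight tb2 (Nat.mul 7 (Nat.add (Nat.mul v 128) (Nat.shiftRight a 5)))) 128))
def st3 (v a : ℕ) : ℕ := frc a fun a => Nat.add (Nat.land a 255) (Nat.mul 256 (Nat.mod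
  (Nat.shiftRight tb3 (Nat.mul 4 (Nat.add (Nat.mul v 16) (Nat.shiftRight a 8)))) 16))

/-- product of two codes -/
def mulc (a b : ℕ) : ℕ := frc b fun b => st3 (Nat.shiftRight b 8) (st2 (Nat.land (Nat.shiftRight b 5) 7)
  (st1 (Nat.land (Nat.shiftRight b 2) 7) (st0 (Nat.land b 3) a)))

def invc (a : ℕ) : ℕ := Nat.mod (Nat.shiftRight tbI (Nat.mul 12 a)) 4096

/-- the code of `g h * g j` -/
def relc (h j : ℕ) : ℕ := Nat.mod (Nat.shiftRight tbR (Nat.mul 12 (Nat.add (Nat.mul 12 h) j))) 4096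

theorem land_le (a m : ℕ) : Nat.land a m ≤ m := Nat.and_le_right

theorem st0_lt (v a : ℕ) : st0 v a < 4096 := by
  rw [st0, frc_eq]
  have h1 := land_le (Nat.add a v) 3
  have h2 := Nat.mod_lt (Nat.shiftRight tb0 (Nat.mul 10 (Nat.add (Nat.mul v 1024) (Nat.shiftRight a 2))))
    (show 0 < 1024 by norm_num)
  change _ + 4 * (_ % 1024) < _
  omega

theorem st1_lt (v a : ℕ) : st1 v a < 4096 := by
  rw [st1, frc_eq]
  have h1 := land_le a 3
  have h2 := Nat.mod_lt (Nat.shiftRight tb1 (Nat.mul 10 (Nat.add (Nat.mul v 1024) (Nat.shiftRight a 2))))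
    (show 0 < 1024 by norm_num)
  change _ + 4 * (_ % 1024) < _
  omega

theorem st2_lt (v a : ℕ) : st2 v a < 4096 := by
  rw [st2, frc_eq]
  have h1 := land_le a 31
  have h2 := Nat.mod_lt (Nat.shiftRight tb2 (Nat.mul 7 (Nat.add (Nat.mul v 128) (Nat.shiftRight a 5))))
    (show 0 < 128 by norm_num)
  change _ + 32 * (_ % 128) < _
  omega

theorem st3_lt (v a : ℕ) : st3 v a < 4096 := by
  rw [st3, frc_eq]
  have h1 := land_le a 255
  have h2 := Nat.mod_lt (Nat.shiftRight tb3 (Nat.mul 4 (Nat.add (Nat.mul v 16) (Nat.shiftRight a 8))))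
    (show 0 < 16 by norm_num)
  change _ + 256 * (_ % 16) < _
  omega

theorem mulc_lt (a b : ℕ) : mulc a b < 4096 := by rw [mulc, frc_eq]; exact st3_lt _ _
theorem invc_lt (a : ℕ) : invc a < 4096 := Nat.mod_lt _ (by norm_num)

/-- right multiplication by the generator number `j` -/
def rg (j a : ℕ) : ℕ := cond (Nat.ble j 4)
  (cond (Nat.ble j 1) (st0 (Nat.pow 2 j) a) (st1 (Nat.pow 2 (Nat.sub j 2)) a))
  (cond (Nat.ble j 7) (st2 (Nat.pow 2 (Nat.sub j 5)) a) (st3 (Nat.pow 2 (Nat.sub j 8)) a))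

theorem rg_lt (j a : ℕ) : rg j a < 4096 := by
  unfold rg
  cases Nat.ble j 4 <;> cases Nat.ble j 1 <;> cases Nat.ble j 7 <;>
    first | exact st0_lt _ _ | exact st1_lt _ _ | exact st2_lt _ _ | exact st3_lt _ _

/-- right multiplication by the generators `k ≤ i < k + n` whose bit is set in `c` -/
def mfr (c k a n : ℕ) : ℕ :=
  Nat.rec a (fun i acc => cond (bit c (Nat.add k i)) (rg (Nat.add k i) acc) acc) n

def all12 (f : ℕ → Bool) : Bool := allb (fun i => allb (fun j => frc (Nat.add (Nat.mul 64 i) j) f) 64) 64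

theorem all12_iff {f : ℕ → Bool} (h : all12 f = true) {a : ℕ} (ha : a < 4096) : f a = true := by
  have := allb_iff.1 (allb_iff.1 h (a / 64) (by omega)) (a % 64) (Nat.mod_lt _ (by norm_num))
  rwa [show Nat.add (Nat.mul 64 (a / 64)) (a % 64) = a from Nat.div_add_mod a 64, frc_eq] at this

def ckT (st : ℕ → ℕ → ℕ) (s w : ℕ) : Bool := allb (fun v => frc v fun v => frc (Nat.shiftLeft v s) fun c =>
  all12 fun a => Nat.beq (st v a) (mfr c s a w)) (Nat.pow 2 w)

theorem ckT0 : ckT st0 0 2 = true := by decide +kernel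
theorem ckT1 : ckT st1 2 3 = true := by decide +kernel
theorem ckT2 : ckT st2 5 3 = true := by decide +kernel
theorem ckT3 : ckT st3 8 4 = true := by decide +kernel

/-- the table of `rg j` follows from the relations -/
def ckR (j : ℕ) : Bool := all12 fun a => cond (Nat.ble (Nat.pow 2 j) a)
  (frc (Nat.log2 a) fun h => frc (Nat.sub a (Nat.pow 2 h)) fun a' => frc (relc h j) fun c =>
    Nat.beq (rg j a) (mfr c (Nat.succ j) (cond (Nat.beq h j) a' (rg j a')) (Nat.sub 11 j)))
  (Nat.beq (rg j a) (Nat.add a (Nat.pow 2 j)))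

theorem ckR0 : allb ckR 3 = true := by decide +kernel
theorem ckR1 : allb (fun i => ckR (Nat.add 3 i)) 4 = true := by decide +kernel
theorem ckR2 : allb (fun i => ckR (Nat.add 7 i)) 5 = true := by decide +kernel

theorem ckR_all {j : ℕ} (hj : j < 12) : ckR j = true := by
  rcases Nat.lt_or_ge j 3 with h | h
  · exact allb_iff.1 ckR0 j h
  rcases Nat.lt_or_ge j 7 with h' | h'
  · have := allb_iff.1 ckR1 (j - 3) (by omega)
    rwa [show Nat.add 3 (j - 3) = j from by change 3 + (j - 3) = j; omega] at this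
  · have := allb_iff.1 ckR2 (j - 7) (by omega)
    rwa [show Nat.add 7 (j - 7) = j from by change 7 + (j - 7) = j; omega] at this

theorem ckI : all12 (fun a => Nat.beq (mulc a (invc a)) 0) = true := by decide +kernel

end Cfsg.Agent.Rf.D
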