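import Mathlib
import Cfsg.Prelude.Def_LieTwisted

/-! The Sylow `2`-subgroup of `²F₄(K)` in coordinates (order of the root groups `1, …, 8` of the octagon). -/

set_option autoImplicit false

namespace Cfsg.Agent.Rf

/-- a field of characteristic `2` with a square root `φ` of the Frobenius map -/
class TF (K : Type*) [Field K] extends CharP K 2 where
  φ : K ≃+* K
  φφ : ∀ t, φ (φ t) = t ^ 2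

export TF (φ φφ)

/-- `y₁ x₁ x₂ y₃ x₃ x₄ y₅ x₅ x₆ y₇ x₇ x₈` -/
@[ext] structure U (K : Type*) where
  (y1 x1 x2 y3 x3 x4 y5 x5 x6 y7 x7 x8 : K)

namespace U

variable {K : Type*} [Field K] [TF K]

def my1 (a b : U K) : K := a.y1 + b.y1
def mx1 (a b : U K) : K := a.x1 + b.x1 + a.y1 * φ b.y1
def mx2 (a b : U K) : K := a.x2 + b.x2 + a.y3 * b.y1 + a.y7 * b.x1 + a.x8 * φ b.x1 + a.x8 * b.x1 * b.y1 +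
  a.y7 * b.y1 * φ b.y1 + a.x8 * b.y1 ^ 2 * φ b.y1
def my3 (a b : U K) : K := a.y3 + b.y3 + a.x8 * b.x1 + a.y7 * φ b.y1
def mx3 (a b : U K) : K := a.x3 + b.x3 + a.x4 * b.y1 + a.x6 * b.x1 + a.y5 * b.x2 + a.x7 * φ b.x1 + a.y3 * φ b.y3 +
  a.y7 * φ b.x2 + a.x7 * b.x1 * b.y1 + a.y5 * a.y7 * b.x1 + a.x6 * b.y1 * φ b.y1 + a.x8 * a.y5 * φ b.x1 +
  a.x8 * b.x1 * φ b.y3 + a.x8 * φ b.x2 * b.y1 + φ a.x8 * b.x1 * b.x2 + φ a.y7 * b.x2 * b.y1 + a.y7 * φ b.y1 * φ b.y3 +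
  φ a.x8 * a.y3 * φ b.x1 + a.x7 * b.y1 ^ 2 * φ b.y1 + a.y3 * φ a.y7 * b.y1 ^ 2 + φ a.x8 * a.y7 * b.x1 ^ 2 +
  a.x8 * a.y5 * b.x1 * b.y1 + a.y5 * a.y7 * b.y1 * φ b.y1 + a.y7 * φ a.y7 * b.x1 * b.y1 +
  a.x8 * φ a.x8 * b.x1 * φ b.x1 + a.x8 * φ a.y7 * φ b.x1 * b.y1 + φ a.x8 * b.x2 * b.y1 * φ b.y1 +
  a.x8 * a.y5 * b.y1 ^ 2 * φ b.y1 + a.x8 * φ a.x8 * b.x1 ^ 2 * b.y1 + a.x8 * φ a.y7 * b.x1 * b.y1 ^ 2 +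
  a.x8 * φ a.y7 * b.y1 ^ 3 * φ b.y1 + a.y7 * φ a.y7 * b.y1 ^ 2 * φ b.y1 + a.x8 * φ a.x8 * b.y1 ^ 3 * φ b.y1 ^ 2 +
  φ a.x8 * a.y7 * b.y1 ^ 2 * φ b.y1 ^ 2 + a.x8 * φ a.x8 * φ b.x1 * b.y1 * φ b.y1
def mx4 (a b : U K) : K := a.x4 + b.x4 + a.x7 * b.x1 + a.y5 * b.y3 + a.x6 * φ b.y1 + a.x8 * φ b.x2 + φ a.y7 * b.x2 +
  a.x8 * a.y5 * b.x1 + a.y5 * a.y7 * φ b.y1 + a.y7 * φ a.y7 * b.x1 + φ a.x8 * b.x1 * b.y3 + φ a.y7 * b.y1 * b.y3 +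
  a.x8 * φ a.y7 * φ b.x1 + φ a.x8 * b.x2 * φ b.y1 + a.x8 * φ a.x8 * b.x1 ^ 2 + φ a.x8 * b.y1 * φ b.y1 * b.y3 +
  a.x8 * φ a.x8 * φ b.x1 * φ b.y1 + a.x8 * φ a.y7 * b.y1 ^ 2 * φ b.y1 + a.x8 * φ a.x8 * b.y1 ^ 2 * φ b.y1 ^ 2
def my5 (a b : U K) : K := a.y5 + b.y5 + φ a.x8 * b.x1 + φ a.y7 * b.y1 + φ a.x8 * b.y1 * φ b.y1
def mx5 (a b : U K) : K := a.x5 + b.x5 + a.x6 * b.y3 + a.x7 * b.x2 + a.x8 * b.x3 + a.y7 * b.x4 + a.y5 * φ b.y5 +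
  φ a.x6 * b.y1 + φ a.x7 * b.x1 + a.x6 * a.x8 * b.x1 + a.x7 * a.y7 * b.x1 + a.x7 * b.y1 * b.y3 + a.x8 * b.x4 * b.y1 +
  a.x6 * a.y7 * φ b.y1 + a.x7 * a.x8 * φ b.x1 + a.x8 * a.y7 * φ b.x2 + a.x8 * b.y3 * φ b.y3 + φ a.x8 * b.x2 * b.y3 +
  φ a.x7 * b.y1 * φ b.y1 + φ a.x8 * b.x1 * φ b.y5 + φ a.y7 * b.y1 * φ b.y5 + a.x8 ^ 2 * a.y5 * φ b.x1 +
  a.x8 ^ 2 * φ b.x2 * b.y1 + a.y5 * a.y7 ^ 2 * φ b.y1 + a.y7 ^ 2 * φ a.y7 * b.x1 + a.x8 * φ a.x8 * b.x1 * b.x2 +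
  φ a.x8 * a.y7 * b.x1 * b.y3 + a.x8 * φ a.x8 * φ b.x1 * b.y3 + φ a.x8 * a.y7 * b.x2 * φ b.y1 +
  a.x7 * a.x8 * b.y1 ^ 2 * φ b.y1 + a.x8 * φ a.x8 * a.y7 * b.x1 ^ 2 + φ a.x8 * b.y1 * φ b.y1 * φ b.y5 +
  a.x8 ^ 2 * φ a.y7 * φ b.x1 * b.y1 + a.x8 * φ a.x8 * b.x1 * b.y1 * b.y3 + a.x8 ^ 2 * a.y5 * b.y1 ^ 2 * φ b.y1 +
  a.x8 ^ 2 * φ a.x8 * b.x1 ^ 2 * b.y1 + φ a.x8 * a.y7 * b.y1 * φ b.y1 * b.y3 + a.x8 ^ 2 * φ a.y7 * b.y1 ^ 3 * φ b.y1 +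
  a.x8 * φ a.x8 * a.y7 * φ b.x1 * φ b.y1 + a.x8 * φ a.x8 * b.y1 ^ 2 * φ b.y1 * b.y3 +
  a.x8 ^ 2 * φ a.x8 * b.y1 ^ 3 * φ b.y1 ^ 2 + a.x8 ^ 2 * φ a.x8 * φ b.x1 * b.y1 * φ b.y1 +
  a.x8 * φ a.x8 * a.y7 * b.y1 ^ 2 * φ b.y1 ^ 2
def mx6 (a b : U K) : K := a.x6 + b.x6 + a.x7 * b.y1 + a.y7 * b.y5 + a.x8 * φ b.y3 + φ a.x8 * b.x2 +
  a.x8 * b.y1 * b.y5 + φ a.x8 * a.y7 * b.x1 + a.x8 * φ a.x8 * φ b.x1 + a.x8 * φ a.x8 * b.x1 * b.y1 +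
  φ a.x8 * a.y7 * b.y1 * φ b.y1 + a.x8 * φ a.x8 * b.y1 ^ 2 * φ b.y1
def my7 (a b : U K) : K := a.y7 + b.y7 + a.x8 * b.y1
def mx7 (a b : U K) : K := a.x7 + b.x7 + a.x8 * b.y5 + a.y7 * φ b.y7 + φ a.x8 * b.y3 + a.x8 * b.y1 * φ b.y7 +
  a.x8 * φ a.x8 * b.x1 + φ a.x8 * a.y7 * φ b.y1
def mx8 (a b : U K) : K := a.x8 + b.x8

def iy1 (a : U K) : K := a.y1
def ix1 (a : U K) : K := a.x1 + a.y1 * φ a.y1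
def ix2 (a : U K) : K := a.x2 + a.x1 * a.y7 + a.y1 * a.y3 + φ a.x1 * a.x8 + a.x1 * a.x8 * a.y1 +
  a.x8 * a.y1 ^ 2 * φ a.y1
def iy3 (a : U K) : K := a.y3 + a.x1 * a.x8 + φ a.y1 * a.y7 + a.x8 * a.y1 * φ a.y1
def ix3 (a : U K) : K := a.x3 + a.x1 * a.x6 + a.x2 * a.y5 + a.x4 * a.y1 + a.y3 * φ a.y3 + φ a.x1 * a.x7 +
  φ a.x2 * a.y7 + a.x1 * a.x7 * a.y1 + a.y1 * a.y3 * a.y5 + a.x1 * a.x2 * φ a.x8 + a.x1 * a.x8 * φ a.y3 +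
  a.x2 * a.y1 * φ a.y7 + φ a.x2 * a.x8 * a.y1 + φ a.x1 * a.y7 * φ a.y7 + a.x1 ^ 2 * φ a.x8 * a.y7 +
  a.x7 * a.y1 ^ 2 * φ a.y1 + a.y1 ^ 2 * a.y3 * φ a.y7 + a.x1 * φ a.x8 * a.y1 * a.y3 + a.x1 * φ a.x1 * a.x8 * φ a.x8 +
  φ a.x1 * a.x8 * a.y1 * φ a.y7 + a.x1 * a.x8 * a.y1 ^ 2 * φ a.y7 + a.x1 ^ 2 * a.x8 * φ a.x8 * a.y1 +
  a.x8 * a.y1 ^ 3 * φ a.y1 * φ a.y7 + a.y1 ^ 2 * φ a.y1 * a.y7 * φ a.y7 + a.x1 * a.x8 * φ a.x8 * a.y1 ^ 2 * φ a.y1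
def ix4 (a : U K) : K := a.x4 + a.x1 * a.x7 + a.y3 * a.y5 + a.x2 * φ a.y7 + a.x6 * φ a.y1 + φ a.x2 * a.x8 +
  a.x1 * φ a.x8 * a.y3 + a.x7 * a.y1 * φ a.y1 + a.x2 * φ a.x8 * φ a.y1 + a.x8 * φ a.y1 * φ a.y3 +
  φ a.x1 * a.x8 * φ a.y7 + a.x1 ^ 2 * a.x8 * φ a.x8 + φ a.x8 * a.y1 * φ a.y1 * a.y3 + φ a.x1 * a.x8 * φ a.x8 * φ a.y1 +
  a.x8 * φ a.x8 * a.y1 ^ 2 * φ a.y1 ^ 2
def iy5 (a : U K) : K := a.y5 + a.x1 * φ a.x8 + a.y1 * φ a.y7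
def ix5 (a : U K) : K := a.x5 + a.x2 * a.x7 + a.x3 * a.x8 + a.x4 * a.y7 + a.x6 * a.y3 + a.x1 * φ a.x7 + a.y5 * φ a.y5 +
  φ a.x6 * a.y1 + a.x1 * a.x6 * a.x8 + a.x1 * a.x7 * a.y7 + a.x2 * a.x8 * a.y5 + a.y3 * a.y5 * a.y7 +
  a.x2 * a.y7 * φ a.y7 + a.x2 * φ a.x8 * a.y3 + a.x6 * φ a.y1 * a.y7 + φ a.x1 * a.x7 * a.x8 + φ a.x2 * a.x8 * a.y7 +
  a.x1 * φ a.x8 * φ a.y5 + a.y1 * φ a.y5 * φ a.y7 + a.x1 * a.y7 ^ 2 * φ a.y7 + φ a.x2 * a.x8 ^ 2 * a.y1 +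
  φ a.x8 * a.y1 * a.y3 ^ 2 + a.x1 * a.x2 * a.x8 * φ a.x8 + a.x1 * φ a.x8 * a.y3 * a.y7 + a.x6 * a.x8 * a.y1 * φ a.y1 +
  a.x7 * a.y1 * φ a.y1 * a.y7 + a.x2 * φ a.x8 * φ a.y1 * a.y7 + a.x8 * φ a.y1 * φ a.y3 * a.y7 +
  φ a.x1 * a.x8 * a.y7 * φ a.y7 + φ a.x1 * a.x8 * φ a.x8 * a.y3 + a.x1 ^ 2 * a.x8 * φ a.x8 * a.y7 +
  a.x8 ^ 2 * a.y1 * φ a.y1 * φ a.y3 + φ a.x1 * a.x8 ^ 2 * a.y1 * φ a.y7 + a.x1 ^ 2 * a.x8 ^ 2 * φ a.x8 * a.y1 +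
  a.x2 * a.x8 * φ a.x8 * a.y1 * φ a.y1 + φ a.x8 * a.y1 * φ a.y1 * a.y3 * a.y7 + φ a.x1 * a.x8 * φ a.x8 * φ a.y1 * a.y7 +
  a.x8 ^ 2 * φ a.x8 * a.y1 ^ 3 * φ a.y1 ^ 2 + φ a.x1 * a.x8 ^ 2 * φ a.x8 * a.y1 * φ a.y1 +
  a.x8 * φ a.x8 * a.y1 ^ 2 * φ a.y1 ^ 2 * a.y7
def ix6 (a : U K) : K := a.x6 + a.x7 * a.y1 + a.y5 * a.y7 + a.x2 * φ a.x8 + a.x8 * φ a.y3 + a.x8 * a.y1 * a.y5 +
  a.x1 * φ a.x8 * a.y7 + a.y1 * a.y7 * φ a.y7 + φ a.x8 * a.y1 * a.y3 + φ a.x1 * a.x8 * φ a.x8 +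
  a.x1 * a.x8 * φ a.x8 * a.y1 + a.x8 * φ a.x8 * a.y1 ^ 2 * φ a.y1
def iy7 (a : U K) : K := a.y7 + a.x8 * a.y1
def ix7 (a : U K) : K := a.x7 + a.x8 * a.y5 + a.y7 * φ a.y7 + φ a.x8 * a.y3 + a.x1 * a.x8 * φ a.x8 +
  φ a.x8 * φ a.y1 * a.y7 + a.x8 * φ a.x8 * a.y1 * φ a.y1
def ix8 (a : U K) : K := a.x8

instance instMul : Mul (U K) := ⟨fun a b => ⟨my1 a b, mx1 a b, mx2 a b, my3 a b, mx3 a b, mx4 a b,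
  my5 a b, mx5 a b, mx6 a b, my7 a b, mx7 a b, mx8 a b⟩⟩
instance instOne : One (U K) := ⟨⟨0, 0, 0, 0, 0, 0, 0, 0, 0, 0, 0, 0⟩⟩
instance instInv : Inv (U K) := ⟨fun a => ⟨iy1 a, ix1 a, ix2 a, iy3 a, ix3 a, ix4 a, iy5 a, ix5 a, ix6 a, iy7 a, ix7 a, ix8 a⟩⟩

theorem mul_y1 (a b : U K) : (a * b).y1 = my1 a b := rfl
theorem mul_x1 (a b : U K) : (a * b).x1 = mx1 a b := rfl
theorem mul_x2 (a b : U K) : (a * b).x2 = mx2 a b := rfl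
theorem mul_y3 (a b : U K) : (a * b).y3 = my3 a b := rfl
theorem mul_x3 (a b : U K) : (a * b).x3 = mx3 a b := rfl
theorem mul_x4 (a b : U K) : (a * b).x4 = mx4 a b := rfl
theorem mul_y5 (a b : U K) : (a * b).y5 = my5 a b := rfl
theorem mul_x5 (a b : U K) : (a * b).x5 = mx5 a b := rfl
theorem mul_x6 (a b : U K) : (a * b).x6 = mx6 a b := rfl
theorem mul_y7 (a b : U K) : (a * b).y7 = my7 a b := rfl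
theorem mul_x7 (a b : U K) : (a * b).x7 = mx7 a b := rfl
theorem mul_x8 (a b : U K) : (a * b).x8 = mx8 a b := rfl
theorem inv_y1 (a : U K) : (a⁻¹).y1 = iy1 a := rfl
theorem inv_x1 (a : U K) : (a⁻¹).x1 = ix1 a := rfl
theorem inv_x2 (a : U K) : (a⁻¹).x2 = ix2 a := rfl
theorem inv_y3 (a : U K) : (a⁻¹).y3 = iy3 a := rfl
theorem inv_x3 (a : U K) : (a⁻¹).x3 = ix3 a := rfl
theorem inv_x4 (a : U K) : (a⁻¹).x4 = ix4 a := rfl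
theorem inv_y5 (a : U K) : (a⁻¹).y5 = iy5 a := rfl
theorem inv_x5 (a : U K) : (a⁻¹).x5 = ix5 a := rfl
theorem inv_x6 (a : U K) : (a⁻¹).x6 = ix6 a := rfl
theorem inv_y7 (a : U K) : (a⁻¹).y7 = iy7 a := rfl
theorem inv_x7 (a : U K) : (a⁻¹).x7 = ix7 a := rfl
theorem inv_x8 (a : U K) : (a⁻¹).x8 = ix8 a := rfl
omit [TF K] in
theorem one_def : (1 : U K) = ⟨0, 0, 0, 0, 0, 0, 0, 0, 0, 0, 0, 0⟩ := rfl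

def Y1 (t : K) : U K := ⟨t, 0, 0, 0, 0, 0, 0, 0, 0, 0, 0, 0⟩
def X1 (t : K) : U K := ⟨0, t, 0, 0, 0, 0, 0, 0, 0, 0, 0, 0⟩
def X2 (t : K) : U K := ⟨0, 0, t, 0, 0, 0, 0, 0, 0, 0, 0, 0⟩
def Y3 (t : K) : U K := ⟨0, 0, 0, t, 0, 0, 0, 0, 0, 0, 0, 0⟩
def X3 (t : K) : U K := ⟨0, 0, 0, 0, t, 0, 0, 0, 0, 0, 0, 0⟩
def X4 (t : K) : U K := ⟨0, 0, 0, 0, 0, t, 0, 0, 0, 0, 0, 0⟩
def Y5 (t : K) : U K := ⟨0, 0, 0, 0, 0, 0, t, 0, 0, 0, 0, 0⟩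
def X5 (t : K) : U K := ⟨0, 0, 0, 0, 0, 0, 0, t, 0, 0, 0, 0⟩
def X6 (t : K) : U K := ⟨0, 0, 0, 0, 0, 0, 0, 0, t, 0, 0, 0⟩
def Y7 (t : K) : U K := ⟨0, 0, 0, 0, 0, 0, 0, 0, 0, t, 0, 0⟩
def X7 (t : K) : U K := ⟨0, 0, 0, 0, 0, 0, 0, 0, 0, 0, t, 0⟩
def X8 (t : K) : U K := ⟨0, 0, 0, 0, 0, 0, 0, 0, 0, 0, 0, t⟩

/-- computes coordinates of products -/
macro "usimp" : tactic => `(tactic|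
  simp only [mul_y1, mul_x1, mul_x2, mul_y3, mul_x3, mul_x4, mul_y5, mul_x5, mul_x6, mul_y7, mul_x7, mul_x8, 
    inv_y1, inv_x1, inv_x2, inv_y3, inv_x3, inv_x4, inv_y5, inv_x5, inv_x6, inv_y7, inv_x7, inv_x8, my1, mx1, mx2, 
    my3, mx3, mx4, my5, mx5, mx6, my7, mx7, mx8, iy1, ix1, ix2, iy3, ix3, ix4, iy5, ix5, ix6, iy7, ix7, ix8, Y1, 
    X1, X2, Y3, X3, X4, Y5, X5, X6, Y7, X7, X8, one_def, map_add, map_mul, map_pow, map_zero, map_one, φφ, 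
    mul_zero, zero_mul, add_zero, zero_add, ne_eq, OfNat.ofNat_ne_zero, not_false_eq_true, zero_pow, mul_one, 
    one_mul, one_pow])

instance instGroup : Group (U K) := Group.ofLeftAxioms (fun a b c => by ext <;> usimp <;> grind)
  (fun a => by ext <;> usimp) fun a => by ext <;> usimp <;> grind

instance instFinite [Finite K] : Finite (U K) := Finite.of_injective
  (fun u : U K => ![u.y1, u.x1, u.x2, u.y3, u.x3, u.x4, u.y5, u.x5, u.x6, u.y7, u.x7, u.x8]) fun a b h => by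
    ext
    exacts [congrFun h 0, congrFun h 1, congrFun h 2, congrFun h 3, congrFun h 4, congrFun h 5, congrFun h 6,
      congrFun h 7, congrFun h 8, congrFun h 9, congrFun h 10, congrFun h 11]

theorem dec (u : U K) : u = Y1 u.y1 * (X1 u.x1 * (X2 u.x2 * (Y3 u.y3 * (X3 u.x3 * (X4 u.x4 * (Y5 u.y5 * (X5 u.x5 *
    (X6 u.x6 * (Y7 u.y7 * (X7 u.x7 * X8 u.x8)))))))))) := by
  have h10 : X7 u.x7 * ⟨0, 0, 0, 0, 0, 0, 0, 0, 0, 0, 0, u.x8⟩ =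
      ⟨0, 0, 0, 0, 0, 0, 0, 0, 0, 0, u.x7, u.x8⟩ := by ext <;> usimp
  have h9 : Y7 u.y7 * ⟨0, 0, 0, 0, 0, 0, 0, 0, 0, 0, u.x7, u.x8⟩ =
      ⟨0, 0, 0, 0, 0, 0, 0, 0, 0, u.y7, u.x7, u.x8⟩ := by ext <;> usimp
  have h8 : X6 u.x6 * ⟨0, 0, 0, 0, 0, 0, 0, 0, 0, u.y7, u.x7, u.x8⟩ =
      ⟨0, 0, 0, 0, 0, 0, 0, 0, u.x6, u.y7, u.x7, u.x8⟩ := by ext <;> usimp
  have h7 : X5 u.x5 * ⟨0, 0, 0, 0, 0, 0, 0, 0, u.x6, u.y7, u.x7, u.x8⟩ =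
      ⟨0, 0, 0, 0, 0, 0, 0, u.x5, u.x6, u.y7, u.x7, u.x8⟩ := by ext <;> usimp
  have h6 : Y5 u.y5 * ⟨0, 0, 0, 0, 0, 0, 0, u.x5, u.x6, u.y7, u.x7, u.x8⟩ =
      ⟨0, 0, 0, 0, 0, 0, u.y5, u.x5, u.x6, u.y7, u.x7, u.x8⟩ := by ext <;> usimp
  have h5 : X4 u.x4 * ⟨0, 0, 0, 0, 0, 0, u.y5, u.x5, u.x6, u.y7, u.x7, u.x8⟩ =
      ⟨0, 0, 0, 0, 0, u.x4, u.y5, u.x5, u.x6, u.y7, u.x7, u.x8⟩ := by ext <;> usimp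
  have h4 : X3 u.x3 * ⟨0, 0, 0, 0, 0, u.x4, u.y5, u.x5, u.x6, u.y7, u.x7, u.x8⟩ =
      ⟨0, 0, 0, 0, u.x3, u.x4, u.y5, u.x5, u.x6, u.y7, u.x7, u.x8⟩ := by ext <;> usimp
  have h3 : Y3 u.y3 * ⟨0, 0, 0, 0, u.x3, u.x4, u.y5, u.x5, u.x6, u.y7, u.x7, u.x8⟩ =
      ⟨0, 0, 0, u.y3, u.x3, u.x4, u.y5, u.x5, u.x6, u.y7, u.x7, u.x8⟩ := by ext <;> usimp
  have h2 : X2 u.x2 * ⟨0, 0, 0, u.y3, u.x3, u.x4, u.y5, u.x5, u.x6, u.y7, u.x7, u.x8⟩ =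
      ⟨0, 0, u.x2, u.y3, u.x3, u.x4, u.y5, u.x5, u.x6, u.y7, u.x7, u.x8⟩ := by ext <;> usimp
  have h1 : X1 u.x1 * ⟨0, 0, u.x2, u.y3, u.x3, u.x4, u.y5, u.x5, u.x6, u.y7, u.x7, u.x8⟩ =
      ⟨0, u.x1, u.x2, u.y3, u.x3, u.x4, u.y5, u.x5, u.x6, u.y7, u.x7, u.x8⟩ := by ext <;> usimp
  have h0 : Y1 u.y1 * ⟨0, u.x1, u.x2, u.y3, u.x3, u.x4, u.y5, u.x5, u.x6, u.y7, u.x7, u.x8⟩ =
      ⟨u.y1, u.x1, u.x2, u.y3, u.x3, u.x4, u.y5, u.x5, u.x6, u.y7, u.x7, u.x8⟩ := by ext <;> usimp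
  rw [X8, h10, h9, h8, h7, h6, h5, h4, h3, h2, h1, h0]

/-- torus and field automorphisms: `Y1 t ↦ Y1 (a * γ t)`, `X8 t ↦ X8 (b * γ t)` -/
def au (a b : K) (γ : K ≃+* K) (u : U K) : U K where
  y1 := a * γ u.y1
  x1 := a * φ a * γ u.x1
  x2 := a ^ 2 * φ a * b * γ u.x2
  y3 := a * φ a * b * γ u.y3
  x3 := a ^ 3 * φ a ^ 2 * b * φ b * γ u.x3
  x4 := a ^ 2 * φ a ^ 2 * b * φ b * γ u.x4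
  y5 := a * φ a * φ b * γ u.y5
  x5 := a ^ 3 * φ a ^ 2 * b ^ 2 * φ b * γ u.x5
  x6 := a ^ 2 * φ a * b * φ b * γ u.x6
  y7 := a * b * γ u.y7
  x7 := a * φ a * b * φ b * γ u.x7
  x8 := b * γ u.x8

theorem au_mul (a b : K) {γ : K ≃+* K} (h : ∀ t, γ (φ t) = φ (γ t)) (u w : U K) :
    au a b γ (u * w) = au a b γ u * au a b γ w := by
  ext <;> rw [au] <;> usimp <;> simp only [au, map_add, map_mul, map_pow, φφ, h] <;> ring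

/-- the unipotent radical with Levi factor `L₂(q)` -/
def QL : Subgroup (U K) where
  carrier := {u | u.x8 = 0}
  mul_mem' {a b} (ha : _ = _) (hb : _ = _) := show a.x8 + b.x8 = 0 by rw [ha, hb, add_zero]
  one_mem' := rfl
  inv_mem' h := h

/-- the unipotent radical with Levi factor `Sz(q)` -/
def QS : Subgroup (U K) where
  carrier := {u | u.y1 = 0 ∧ u.x1 = 0}
  mul_mem' {a b} ha hb := show a.y1 + b.y1 = 0 ∧ a.x1 + b.x1 + a.y1 * φ b.y1 = 0 by simp [ha.1, ha.2, hb.1, hb.2]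
  one_mem' := ⟨rfl, rfl⟩
  inv_mem' {a} h := show a.y1 = 0 ∧ a.x1 + a.y1 * φ a.y1 = 0 by simp [h.1, h.2]

/-- the group side: `G` is an extension of `²F₄(K)` by the field automorphisms in `Γ` -/
structure GD (Γ : Subgroup (K ≃+* K)) {G : Type*} [Group G] (J : U K →* G) (nL nS : G) : Prop where
  inj : Function.Injective J
  syl : ∃ P : Sylow 2 G, (P : Subgroup G) = J.range
  wL : ∀ t, nL * J (Y1 t) * nL⁻¹ = J (Y7 t) ∧ nL * J (X1 t) * nL⁻¹ = J (X7 t) ∧ nL * J (X2 t) * nL⁻¹ = J (X6 t) ∧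
    nL * J (Y3 t) * nL⁻¹ = J (Y5 t) ∧ nL * J (X3 t) * nL⁻¹ = J (X5 t) ∧ nL * J (X4 t) * nL⁻¹ = J (X4 t)
  wS : ∀ t, nS * J (X2 t) * nS⁻¹ = J (X8 t) ∧ nS * J (Y3 t) * nS⁻¹ = J (Y7 t) ∧ nS * J (X3 t) * nS⁻¹ = J (X7 t) ∧
    nS * J (X4 t) * nS⁻¹ = J (X6 t) ∧ nS * J (Y5 t) * nS⁻¹ = J (Y5 t) ∧ nS * J (X5 t) * nS⁻¹ = J (X5 t)
  LL : nL * nL = 1
  SS : nS * nS = 1
  tor : ∀ a b : K, a ≠ 0 → b ≠ 0 → ∀ γ ∈ Γ, ∃ g : G, ∀ u, g * J u * g⁻¹ = J (au a b γ u)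
  nrm : ∀ g ∈ Subgroup.normalizer (J.range : Set G), ∃ (s : U K) (a b : K), ∃ γ ∈ Γ, a ≠ 0 ∧ b ≠ 0 ∧
    ∀ u, g * J u * g⁻¹ = J (s * au a b γ u * s⁻¹)

end U

/-- slice `Lie` (helper6) -/
class LieS.{u} : Prop where
  syl : ∀ {K : Type u} [Field K] [Fintype K] (m : ℕ), Fintype.card K = 2 ^ (2 * m + 1) →
    ∀ T : Sylow 2 (Cfsg.Lie.twistedF4 K (2 ^ m)), ∃ (K' : Type) (_ : Field K') (_ : Fintype K') (_ : TF K'),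
      Fintype.card K' = 2 ^ (2 * m + 1) ∧ Nonempty ((T : Subgroup (Cfsg.Lie.twistedF4 K (2 ^ m))) ≃* U K')
  grp : ∀ (K : Type) [Field K] [Finite K] [TF K] (Γ : Subgroup (K ≃+* K)), ∃ (G : Type) (_ : Group G) (_ : Finite G)
    (J : U K →* G) (nL nS : G), U.GD Γ J nL nS

end Cfsg.Agent.Rf
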