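import Cfsg.Agent.Rf.D1
import Cfsg.Agent.Rf.M1

/-! Soundness of the coded multiplication. -/

set_option autoImplicit false

namespace Cfsg.Agent.Rf.D

open L.PC

variable {Ω : Type*} [Group Ω]

def evs (g : ℕ → Ω) (c k n : ℕ) : Ω :=
  Nat.rec 1 (fun i acc => acc * cond (bit c (k + i)) (g (k + i)) 1) n

/-- the normal word with code `c` -/
def ev (g : ℕ → Ω) (c : ℕ) : Ω := evs g c 0 12

variable {g : ℕ → Ω}

theorem evs_succ (c k n : ℕ) :
    evs g c k (n + 1) = evs g c k n * cond (bit c (k + n)) (g (k + n)) 1 := rfl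

theorem evs_congr {c d k n : ℕ} (h : ∀ i < n, bit c (k + i) = bit d (k + i)) :
    evs g c k n = evs g d k n := by
  induction n with
  | zero => rfl
  | succ n ih => rw [evs_succ, evs_succ, ih fun i hi => h i (by omega), h n (by omega)]

theorem evs_add (c k n m : ℕ) : evs g c k (n + m) = evs g c k n * evs g c (k + n) m := by
  induction m with
  | zero => exact (mul_one _).symm
  | succ m ih => rw [← add_assoc, evs_succ, evs_succ, ih, mul_assoc, add_assoc]

theorem evs_one {c k n : ℕ} (h : ∀ i < n, bit c (k + i) = false) : evs g c k n = 1 := by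
  induction n with
  | zero => rfl
  | succ n ih => rw [evs_succ, ih fun i hi => h i (by omega), h n (by omega)]; exact mul_one _

theorem ev_zero : ev g 0 = 1 := evs_one fun i _ => by rw [bit_eq]; simp

theorem ev_split (c : ℕ) {j : ℕ} (hj : j < 12) :
    ev g c = evs g c 0 j * cond (bit c j) (g j) 1 * evs g c (j + 1) (11 - j) := by
  have : 12 = (j + 1) + (11 - j) := by omega
  rw [ev, this, evs_add, evs_succ, zero_add, zero_add]

theorem ev_top {a j : ℕ} (hj : j < 12) (ha : a < 2 ^ j) : ev g (a + 2 ^ j) = ev g a * g j := by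
  rw [ev_split _ hj, ev_split a hj]
  have h1 : bit (a + 2 ^ j) j = true := by
    rw [bit_eq, add_comm, Nat.testBit_two_pow_add_eq, Nat.testBit_lt_two_pow ha]; rfl
  have h2 : bit a j = false := by rw [bit_eq, Nat.testBit_lt_two_pow ha]
  have h3 : ∀ i, a + 2 ^ j < 2 ^ (j + 1 + i) := fun i =>
    lt_of_lt_of_le (by rw [pow_succ]; omega) (Nat.pow_le_pow_right (by norm_num) (Nat.le_add_right (j + 1) i))
  rw [h1, h2, evs_one (k := j + 1) fun i _ => by rw [bit_eq, Nat.testBit_lt_two_pow (h3 i)],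
    evs_one (k := j + 1) fun i _ => by
      rw [bit_eq, Nat.testBit_lt_two_pow (lt_of_le_of_lt (Nat.le_add_right a (2 ^ j)) (h3 i))],
    evs_congr (d := a) fun i hi => by
      rw [bit_eq, bit_eq, add_comm a, zero_add, Nat.testBit_two_pow_add_gt hi]]
  simp

theorem ev_pow {j : ℕ} (hj : j < 12) : ev g (2 ^ j) = g j := by
  have := ev_top (g := g) hj (Nat.two_pow_pos j)
  rwa [zero_add, ev_zero, one_mul] at this

theorem mfr_succ (c k a n : ℕ) :
    mfr c k a (n + 1) = cond (bit c (k + n)) (rg (k + n) (mfr c k a n)) (mfr c k a n) := rfl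

theorem mfr_lt (c k : ℕ) {a : ℕ} (ha : a < 4096) (n : ℕ) : mfr c k a n < 4096 := by
  induction n with
  | zero => exact ha
  | succ n ih => rw [mfr_succ]; cases bit c (k + n); exacts [ih, rg_lt _ _]

theorem ev_mfr {c k a n : ℕ} (ha : a < 4096)
    (h : ∀ i < n, ∀ b < 4096, ev g (rg (k + i) b) = ev g b * g (k + i)) :
    ev g (mfr c k a n) = ev g a * evs g c k n := by
  induction n with
  | zero => exact (mul_one _).symm
  | succ n ih =>
    rw [mfr_succ, evs_succ, ← mul_assoc, ← ih fun i hi => h i (by omega)]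
    cases bit c (k + n)
    · exact (mul_one _).symm
    · exact h n (by omega) _ (mfr_lt c k ha n)

/-- the polycyclic relations -/
def Rel (g : ℕ → Ω) : Prop := ∀ h < 12, ∀ j ≤ h, g h * g j = ev g (relc h j)

theorem relc_bits : ∀ h < 12, ∀ j ≤ h, bit (relc h j) j = !(Nat.beq h j) ∧ ∀ i < j, bit (relc h j) i = false := by
  decide +kernel

theorem Rel.rg_aux (hg : Rel g) {j : ℕ} (hj : j < 12)
    (ih : ∀ i, j < i → i < 12 → ∀ b < 4096, ev g (rg i b) = ev g b * g i) (a : ℕ) :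
    a < 4096 → ev g (rg j a) = ev g a * g j := by
  induction a using Nat.strong_induction_on with
  | _ a iha =>
  intro ha
  have hc := all12_iff (ckR_all hj) ha
  simp only [frc_eq] at hc
  rcases Nat.lt_or_ge a (2 ^ j) with hlt | hge
  · rw [show Nat.ble (Nat.pow 2 j) a = false from by
      rw [← Bool.not_eq_true, Nat.ble_eq]; exact not_le.2 hlt, cond_false, beq_iff] at hc
    rw [hc]; exact ev_top hj hlt
  · rw [show Nat.ble (Nat.pow 2 j) a = true from by rw [Nat.ble_eq]; exact hge, cond_true, beq_iff] at hc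
    have h0 : a ≠ 0 := by have := Nat.two_pow_pos j; omega
    have h1 : 2 ^ a.log2 ≤ a := Nat.log2_self_le h0
    have h2 : a < 2 ^ (a.log2 + 1) := Nat.lt_log2_self
    have h3 : a.log2 < 12 := (Nat.log2_lt h0).2 ha
    have h4 : j ≤ a.log2 := (Nat.le_log2 h0).2 hge
    set h := a.log2
    have h5 : a - 2 ^ h < 2 ^ h := by rw [pow_succ] at h2; omega
    have h6 : ev g a = ev g (a - 2 ^ h) * g h := by rw [← ev_top h3 h5, Nat.sub_add_cancel h1]
    have h7 : a - 2 ^ h < a := by have := Nat.two_pow_pos h; omega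
    obtain ⟨b1, b2⟩ := relc_bits h h3 j h4
    have h8 : ∀ i < 11 - j, ∀ b < 4096, ev g (rg (j + 1 + i) b) = ev g b * g (j + 1 + i) :=
      fun i hi => ih _ (by omega) (by omega)
    rw [hc, h6, mul_assoc, hg h h3 j h4, ev_split (relc h j) hj, evs_one fun i hi => by simpa using b2 i hi, b1]
    change ev g (mfr (relc h j) (j + 1) (cond (Nat.beq h j) (a - 2 ^ h) (rg j (a - 2 ^ h))) (11 - j)) = _
    cases Nat.beq h j
    · rw [cond_false, ev_mfr (rg_lt _ _) h8, iha _ h7 (by omega)]; simp [mul_assoc]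
    · rw [cond_true, ev_mfr (by omega) h8]; simp

theorem Rel.ev_rg (hg : Rel g) {j : ℕ} (hj : j < 12) {a : ℕ} (ha : a < 4096) :
    ev g (rg j a) = ev g a * g j := by
  have : ∀ m i, 12 - m ≤ i → i < 12 → ∀ b < 4096, ev g (rg i b) = ev g b * g i := by
    intro m
    induction m with
    | zero => intro i h1 h2; omega
    | succ m ih => exact fun i h1 h2 b hb => hg.rg_aux h2 (fun i' h3 h4 => ih i' (by omega) h4) b hb
  exact this 12 j (by omega) hj a ha

theorem Rel.ev_st (hg : Rel g) {st : ℕ → ℕ → ℕ} {s w : ℕ} (h : ckT st s w = true) (hs : s + w ≤ 12)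
    {a v b : ℕ} (ha : a < 4096) (hv : v < 2 ^ w) (hb : ∀ i < w, v.testBit i = b.testBit (s + i)) :
    ev g (st v a) = ev g a * evs g b s w := by
  have h1 := allb_iff.1 h v hv
  simp only [frc_eq] at h1
  have h2 := beq_iff.1 (all12_iff h1 ha)
  rw [h2, ev_mfr ha fun i hi b hb => hg.ev_rg (by omega) hb, evs_congr (d := b) fun i hi => ?_]
  rw [bit_eq, bit_eq, ← hb i hi]
  change (v <<< s).testBit (s + i) = _
  simp [Nat.testBit_shiftLeft]

theorem Rel.ev_mul (hg : Rel g) {a b : ℕ} (ha : a < 4096) (hb : b < 4096) :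
    ev g (mulc a b) = ev g a * ev g b := by
  have e : ∀ (x w i : ℕ), i < w → (Nat.land x (2 ^ w - 1)).testBit i = x.testBit i := fun x w i hi => by
    change (x &&& (2 ^ w - 1)).testBit i = _
    simp [Nat.testBit_two_pow_sub_one, hi]
  have l : ∀ (x w : ℕ), Nat.land x (2 ^ w - 1) < 2 ^ w := fun x w =>
    lt_of_le_of_lt (land_le _ _) (by have := Nat.two_pow_pos w; omega)
  have s : ∀ (k i : ℕ), (Nat.shiftRight b k).testBit i = b.testBit (k + i) := fun k i => Nat.testBit_shiftRight b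
  rw [mulc, frc_eq, hg.ev_st ckT3 (b := b) le_rfl (st2_lt _ _)
      (show Nat.shiftRight b 8 < 2 ^ 4 by change b >>> 8 < _; rw [Nat.shiftRight_eq_div_pow]; omega) fun i _ => s 8 i,
    hg.ev_st ckT2 (b := b) (v := Nat.land _ 7) (by norm_num) (st1_lt _ _) (l _ 3) fun i hi => (e _ 3 i hi).trans (s 5 i),
    hg.ev_st ckT1 (b := b) (v := Nat.land _ 7) (by norm_num) (st0_lt _ _) (l _ 3) fun i hi => (e _ 3 i hi).trans (s 2 i),
    hg.ev_st ckT0 (b := b) (v := Nat.land _ 3) (by norm_num) ha (l _ 2) fun i hi => (e _ 2 i hi).trans (by rw [zero_add])]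
  rw [show ev g b = evs g b 0 (2 + 3 + 3 + 4) from rfl, evs_add, evs_add, evs_add]
  simp only [mul_assoc]

theorem Rel.ev_inv (hg : Rel g) {a : ℕ} (ha : a < 4096) : ev g (invc a) = (ev g a)⁻¹ := by
  have := hg.ev_mul ha (invc_lt a)
  rw [beq_iff.1 (all12_iff ckI ha), ev_zero] at this
  exact (eq_inv_of_mul_eq_one_right this.symm)

/-- polycyclic coordinates on `Ω` -/
structure PC (g : ℕ → Ω) : Prop where
  rel : Rel g
  surj : ∀ x, ∃ c < 4096, ev g c = x
  inj : ∀ a < 4096, ∀ b < 4096, ev g a = ev g b → a = b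

section model

instance instTF2 : TF (ZMod 2) where
  φ := RingEquiv.refl _
  φφ := by decide

variable {K : Type*} [Field K] [TF K]

def cb (K : Type*) [Field K] (c i : ℕ) : K := cond (bit c i) 1 0

def cu (K : Type*) [Field K] (c : ℕ) : U K := ⟨cb K c 0, cb K c 1, cb K c 2, cb K c 3, cb K c 4, cb K c 5,
  cb K c 6, cb K c 7, cb K c 8, cb K c 9, cb K c 10, cb K c 11⟩

def gU (K : Type*) [Field K] (i : ℕ) : U K := cu K (2 ^ i)

def mapU (f : ZMod 2 →+* K) (u : U (ZMod 2)) : U K :=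
  ⟨f u.y1, f u.x1, f u.x2, f u.y3, f u.x3, f u.x4, f u.y5, f u.x5, f u.x6, f u.y7, f u.x7, f u.x8⟩

theorem mapU_mul (f : ZMod 2 →+* K) (a b : U (ZMod 2)) : mapU f (a * b) = mapU f a * mapU f b := by
  have h : ∀ t, φ (f t) = f t := fun t => RingHom.congr_fun (RingHom.ext_zmod ((φ : K ≃+* K).toRingHom.comp f) f) t
  have h' : ∀ t : ZMod 2, φ t = t := fun _ => rfl
  ext <;> rw [mapU] <;> open U in usimp <;> simp only [mapU, map_add, map_mul, map_pow, h, h']

omit [TF K] in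
theorem mapU_cu (f : ZMod 2 →+* K) (c : ℕ) : mapU f (cu _ c) = cu K c := by
  have h : ∀ i, f (cb _ c i) = cb K c i := fun i => by unfold cb; cases bit c i <;> simp
  simp only [mapU, cu, h]

theorem rel2 : ∀ h < 12, ∀ j ≤ h, let u := cu (ZMod 2) (2 ^ h) * cu (ZMod 2) (2 ^ j); let w := cu (ZMod 2) (relc h j)
    u.y1 = w.y1 ∧ u.x1 = w.x1 ∧ u.x2 = w.x2 ∧ u.y3 = w.y3 ∧ u.x3 = w.x3 ∧ u.x4 = w.x4 ∧ u.y5 = w.y5 ∧
      u.x5 = w.x5 ∧ u.x6 = w.x6 ∧ u.y7 = w.y7 ∧ u.x7 = w.x7 ∧ u.x8 = w.x8 := by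
  decide +kernel

theorem ev_gU (c : ℕ) : ev (gU K) c = cu K c := by
  have e : ∀ (i : ℕ) (Y : K → U K), Y 0 = 1 → gU K i = Y 1 → cond (bit c i) (gU K i) 1 = Y (cb K c i) :=
    fun i Y h0 h1 => by unfold cb; cases bit c i; exacts [h0.symm, h1]
  have e0 : evs (gU K) c 0 0 = 1 := rfl
  rw [U.dec (cu K c), show ev (gU K) c = evs (gU K) c 0 (0+1+1+1+1+1+1+1+1+1+1+1+1) from rfl]
  simp only [evs_succ, e0, zero_add, one_mul, mul_assoc, Nat.reduceAdd]
  rw [e 0 U.Y1 rfl rfl, e 1 U.X1 rfl rfl, e 2 U.X2 rfl rfl, e 3 U.Y3 rfl rfl, e 4 U.X3 rfl rfl, e 5 U.X4 rfl rfl,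
    e 6 U.Y5 rfl rfl, e 7 U.X5 rfl rfl, e 8 U.X6 rfl rfl, e 9 U.Y7 rfl rfl, e 10 U.X7 rfl rfl, e 11 U.X8 rfl rfl]
  rfl

def cd (b0 b1 b2 b3 b4 b5 b6 b7 b8 b9 b10 b11 : Bool) : ℕ :=
  cond b0 1 0 + cond b1 2 0 + cond b2 4 0 + cond b3 8 0 + cond b4 16 0 + cond b5 32 0 + cond b6 64 0 +
    cond b7 128 0 + cond b8 256 0 + cond b9 512 0 + cond b10 1024 0 + cond b11 2048 0

theorem cd_spec : ∀ b0 b1 b2 b3 b4 b5 b6 b7 b8 b9 b10 b11 : Bool, let c := cd b0 b1 b2 b3 b4 b5 b6 b7 b8 b9 b10 b11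
    c < 4096 ∧ bit c 0 = b0 ∧ bit c 1 = b1 ∧ bit c 2 = b2 ∧ bit c 3 = b3 ∧ bit c 4 = b4 ∧ bit c 5 = b5 ∧
      bit c 6 = b6 ∧ bit c 7 = b7 ∧ bit c 8 = b8 ∧ bit c 9 = b9 ∧ bit c 10 = b10 ∧ bit c 11 = b11 := by
  decide +kernel

omit [TF K] in
theorem cb_inj {a b i : ℕ} (h : cb K a i = cb K b i) : bit a i = bit b i := by
  unfold cb at h
  revert h
  cases bit a i <;> cases bit b i <;> simp

theorem pcU (hK : Nat.card K = 2) : PC (gU K) where
  rel h hh j hj := by
    obtain ⟨h0, h1, h2, h3, h4, h5, h6, h7, h8, h9, h10, h11⟩ := rel2 h hh j hj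
    have := congrArg (mapU (ZMod.castHom (dvd_refl 2) K)) (U.ext h0 h1 h2 h3 h4 h5 h6 h7 h8 h9 h10 h11)
    rwa [mapU_mul, mapU_cu, mapU_cu, mapU_cu, ← ev_gU (relc h j)] at this
  surj u := by
    classical
    have e : ∀ t : K, cond (decide (t = 1)) (1 : K) 0 = t := fun t => by
      obtain ⟨y, -, hy⟩ := (Nat.card_eq_two_iff' (1 : K)).1 hK
      by_cases h : t = 1
      · simp [h]
      · simp [h, (hy t h).trans (hy 0 zero_ne_one).symm]
    obtain ⟨h, h0, h1, h2, h3, h4, h5, h6, h7, h8, h9, h10, h11⟩ := cd_spec (decide (u.y1 = 1))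
      (decide (u.x1 = 1)) (decide (u.x2 = 1)) (decide (u.y3 = 1)) (decide (u.x3 = 1)) (decide (u.x4 = 1))
      (decide (u.y5 = 1)) (decide (u.x5 = 1)) (decide (u.x6 = 1)) (decide (u.y7 = 1)) (decide (u.x7 = 1))
      (decide (u.x8 = 1))
    refine ⟨_, h, ?_⟩
    rw [ev_gU, cu]
    simp only [cb, h0, h1, h2, h3, h4, h5, h6, h7, h8, h9, h10, h11, e]
  inj a ha b hb h := by
    rw [ev_gU, ev_gU] at h
    simp only [cu, U.mk.injEq] at h
    obtain ⟨h0, h1, h2, h3, h4, h5, h6, h7, h8, h9, h10, h11⟩ := h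
    refine Nat.eq_of_testBit_eq fun i => ?_
    rcases Nat.lt_or_ge i 12 with hi | hi
    · rw [← bit_eq, ← bit_eq]
      interval_cases i <;> exact cb_inj (K := K) (by assumption)
    · have : 4096 ≤ 2 ^ i := Nat.pow_le_pow_right (show 0 < 2 by norm_num) hi
      rw [Nat.testBit_lt_two_pow (by omega), Nat.testBit_lt_two_pow (by omega)]

theorem mem_QL (c : ℕ) : ev (gU K) c ∈ U.QL ↔ bit c 11 = false := by
  rw [ev_gU]; change cb K c 11 = 0 ↔ _; unfold cb; cases bit c 11 <;> simp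

theorem mem_QS (c : ℕ) : ev (gU K) c ∈ U.QS ↔ bit c 0 = false ∧ bit c 1 = false := by
  rw [ev_gU]; change cb K c 0 = 0 ∧ cb K c 1 = 0 ↔ _; unfold cb; cases bit c 0 <;> cases bit c 1 <;> simp

end model

end Cfsg.Agent.Rf.D
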