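import Cfsg.Agent.Rf.D2
import Cfsg.Agent.H7.More
import Cfsg.Agent.H1.Frattini

/-! The action of automorphisms on the Frattini quotient of a coded normal subgroup. -/

set_option autoImplicit false

namespace Cfsg.Agent.Rf.D

open L.PC Equiv Cfsg.Fus

def gk (K i : ℕ) : ℕ := Nat.mod (Nat.shiftRight K (Nat.mul 12 i)) 4096
def g5 (K i : ℕ) : ℕ := Nat.mod (Nat.shiftRight K (Nat.mul 5 i)) 32
def cjc (s c : ℕ) : ℕ := mulc (mulc s c) (invc s)
def wev (K : ℕ) (w : List ℕ) : ℕ := List.rec 0 (fun t _ r => mulc (gk K t) r) w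
def lin (M v : ℕ) (n : ℕ) : ℕ := Nat.rec 0 (fun i acc => cond (bit v i) (Nat.xor acc (g5 M i)) acc) n

theorem gk_lt (K i : ℕ) : gk K i < 4096 := Nat.mod_lt _ (by norm_num)
theorem g5_lt (K i : ℕ) : g5 K i < 32 := Nat.mod_lt _ (by norm_num)
theorem cjc_lt (s c : ℕ) : cjc s c < 4096 := mulc_lt _ _
theorem wev_lt (K : ℕ) (w : List ℕ) : wev K w < 4096 := by
  cases w
  · exact (by norm_num : 0 < 4096)
  · exact mulc_lt _ _

theorem app_build' {w : ℕ} {f : ℕ → ℕ} {n : ℕ} (h : ∀ i < n, f i < 2 ^ w) (j : ℕ) :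
    app w (build w f n) j = if j < n then f j else 0 := by
  split_ifs with hj
  · exact app_build h hj
  · rw [app_eq, Nat.div_eq_of_lt ((build_lt h).trans_le
      (Nat.pow_le_pow_right (by norm_num) (Nat.mul_le_mul_left w (not_lt.1 hj))))]; simp

theorem gk_build {f : ℕ → ℕ} {n : ℕ} (h : ∀ i < n, f i < 4096) (j : ℕ) :
    gk (build 12 f n) j = if j < n then f j else 0 := app_build' (w := 12) h j

theorem g5_build {f : ℕ → ℕ} {n : ℕ} (h : ∀ i < n, f i < 32) (j : ℕ) :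
    g5 (build 5 f n) j = if j < n then f j else 0 := app_build' (w := 5) h j

/-- data for a normal subgroup -/
structure QD where
  m : ℕ
  d : ℕ
  G : ℕ
  W : List (List ℕ)
  P : ℕ
  R : ℕ
  Sq : ℕ

namespace QD

variable (D : QD)

def inQ (c : ℕ) : Bool := Nat.beq (Nat.land c D.m) 0
def pr (c : ℕ) : ℕ := g5 D.P c
def allQ (f : ℕ → Bool) : Bool := all12 fun c => cond (D.inQ c) (f c) true
def mm (A B : ℕ) : ℕ := build 5 (fun i => frc (g5 B i) fun v => lin A v D.d) D.d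
def idm : ℕ := build 5 (fun i => Nat.pow 2 i) D.d
def matc (s : ℕ) : ℕ := build 5 (fun i => D.pr (cjc s (gk D.G i))) D.d

def ok1 : Bool := D.allQ fun a => allb (fun j => cond (D.inQ (Nat.pow 2 j))
  (Nat.beq (D.pr (rg j a)) (Nat.xor (D.pr a) (D.pr (Nat.pow 2 j)))) true) 12
def ok2 : Bool := Nat.ble D.d 5 && Nat.beq (D.pr 0) 0 &&
  allb (fun i => D.inQ (gk D.G i) && Nat.beq (D.pr (gk D.G i)) (Nat.pow 2 i)) D.d &&
  allb (fun v => D.inQ (gk D.R v) && Nat.beq (D.pr (gk D.R v)) v) (Nat.pow 2 D.d) &&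
  allb (fun j => cond (D.inQ (Nat.pow 2 j)) (Nat.beq (wev D.G (D.W.getD j [])) (Nat.pow 2 j)) true) 12
def ok3 : Bool := D.allQ fun c => Nat.blt (D.pr c) (Nat.pow 2 D.d) && cond (Nat.beq (D.pr c) 0)
  (Nat.beq c 0 || frc (gk D.Sq c) fun a => frc (gk D.Sq (Nat.add 4096 c)) fun b => D.inQ a && D.inQ b &&
    Nat.blt (mulc (mulc c (invc (mulc a a))) (invc (mulc b b))) c) true

variable {D}

theorem allQ_iff {f : ℕ → Bool} (h : D.allQ f = true) {c : ℕ} (hc : c < 4096) (hq : D.inQ c = true) :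
    f c = true := by
  have := all12_iff h hc
  rwa [hq] at this

theorem inQ_bit {c j : ℕ} (hc : D.inQ c = true) (hj : bit c j = true) : D.inQ (2 ^ j) = true := by
  rw [inQ, beq_iff] at hc ⊢
  rw [bit_eq] at hj
  have h1 : (c &&& D.m).testBit j = false := by rw [show c &&& D.m = 0 from hc]; simp
  rw [Nat.testBit_and, hj, Bool.true_and] at h1
  change 2 ^ j &&& D.m = 0
  rw [Nat.two_pow_and, h1]; simp

end QD

variable {Ω : Type*} [Group Ω] {g : ℕ → Ω}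

namespace PC

variable (pc : PC g)

noncomputable def code (x : Ω) : ℕ := (pc.surj x).choose
theorem code_lt (x : Ω) : pc.code x < 4096 := (pc.surj x).choose_spec.1
theorem ev_code (x : Ω) : ev g (pc.code x) = x := (pc.surj x).choose_spec.2
theorem code_ev {c : ℕ} (hc : c < 4096) : pc.code (ev g c) = c := pc.inj _ (pc.code_lt _) _ hc (pc.ev_code _)
theorem code_eq {c : ℕ} (hc : c < 4096) {x : Ω} (h : ev g c = x) : pc.code x = c := h ▸ pc.code_ev hc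
theorem code_mul (x y : Ω) : pc.code (x * y) = mulc (pc.code x) (pc.code y) :=
  pc.code_eq (mulc_lt _ _) (by rw [pc.rel.ev_mul (pc.code_lt x) (pc.code_lt y), ev_code, ev_code])

include pc in
theorem finite : Finite Ω := Finite.of_surjective (fun c : Fin 4096 => ev g c) fun x =>
  ⟨⟨_, pc.code_lt x⟩, pc.ev_code x⟩

include pc in
theorem isPGroup : IsPGroup 2 Ω := by
  have : Nat.card (Fin 4096) = Nat.card Ω := Nat.card_eq_of_bijective (fun c : Fin 4096 => ev g c)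
    ⟨fun a b h => Fin.ext (pc.inj _ a.2 _ b.2 h), fun x => ⟨⟨_, pc.code_lt x⟩, pc.ev_code x⟩⟩
  exact IsPGroup.of_card (n := 12) (by rw [← this]; simp)

end PC

theorem Rel.ev_cjc (hg : Rel g) {s c : ℕ} (hs : s < 4096) (hc : c < 4096) :
    ev g (cjc s c) = ev g s * ev g c * (ev g s)⁻¹ := by
  rw [cjc, hg.ev_mul (mulc_lt _ _) (invc_lt _), hg.ev_mul hs hc, hg.ev_inv hs]

theorem mod_succ : ∀ v < 32, ∀ n < 5,
    v % 2 ^ (n + 1) = cond (bit v n) (Nat.xor (v % 2 ^ n) (2 ^ n)) (v % 2 ^ n) := by decide +kernel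

theorem lin_lt (M v n : ℕ) : lin M v n < 32 := by
  induction n with
  | zero => exact (by norm_num : 0 < 32)
  | succ n ih =>
    change cond (bit v n) (Nat.xor (lin M v n) (g5 M n)) (lin M v n) < 32
    cases bit v n
    exacts [ih, Nat.xor_lt_two_pow (n := 5) ih (g5_lt _ _)]

/-- a submonoid of a finite group -/
def subOf {G : Type*} [Group G] [Finite G] (p : G → Prop) (h1 : p 1) (hm : ∀ a b, p a → p b → p (a * b)) :
    Subgroup G where
  carrier := {a | p a}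
  mul_mem' := hm _ _
  one_mem' := h1
  inv_mem' {a} ha := by
    have : ∀ n : ℕ, p (a ^ n) := fun n => by
      induction n with
      | zero => simpa using h1
      | succ n ih => rw [pow_succ]; exact hm _ _ ih ha
    have e : a⁻¹ = a ^ (orderOf a - 1) := inv_eq_of_mul_eq_one_left (by
      rw [← pow_succ, Nat.sub_add_cancel (orderOf_pos a), pow_orderOf_eq_one])
    exact e ▸ this _

/-- `Q` is described by `D` -/
structure Ctx (g : ℕ → Ω) (D : QD) (Q : Subgroup Ω) : Prop where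
  pc : PC g
  ok1 : D.ok1 = true
  ok2 : D.ok2 = true
  ok3 : D.ok3 = true
  mem : ∀ c < 4096, ev g c ∈ Q ↔ D.inQ c = true
  nrm : Q.Normal

namespace Ctx

variable {D : QD} {Q : Subgroup Ω} (C : Ctx g D Q)

/-- the class in the Frattini quotient -/
noncomputable def π (x : Ω) : ℕ := D.pr (C.pc.code x)

theorem π_ev {c : ℕ} (hc : c < 4096) : C.π (ev g c) = D.pr c := by rw [π, C.pc.code_ev hc]

theorem inQ_code {x : Ω} (hx : x ∈ Q) : D.inQ (C.pc.code x) = true :=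
  (C.mem _ (C.pc.code_lt x)).1 (by rwa [C.pc.ev_code])

include C in
theorem spec2 : D.d ≤ 5 ∧ D.pr 0 = 0 ∧ (∀ i < D.d, ev g (gk D.G i) ∈ Q ∧ D.pr (gk D.G i) = 2 ^ i) ∧
    (∀ v < 2 ^ D.d, ev g (gk D.R v) ∈ Q ∧ D.pr (gk D.R v) = v) ∧
    ∀ j < 12, D.inQ (2 ^ j) = true → wev D.G (D.W.getD j []) = 2 ^ j := by
  have h := C.ok2
  simp only [QD.ok2, Bool.and_eq_true, allb_iff, beq_iff, Nat.ble_eq] at h
  obtain ⟨⟨⟨⟨h1, h2⟩, h3⟩, h4⟩, h5⟩ := h
  refine ⟨h1, h2, fun i hi => ⟨(C.mem _ (gk_lt _ _)).2 (h3 i hi).1, (h3 i hi).2⟩,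
    fun v hv => ⟨(C.mem _ (gk_lt _ _)).2 (h4 v hv).1, (h4 v hv).2⟩, fun j hj hq => ?_⟩
  have := h5 j hj
  rwa [show D.inQ (Nat.pow 2 j) = true from hq, cond_true, beq_iff] at this

include C in
theorem G_mem (i : ℕ) (hi : i < D.d) : ev g (gk D.G i) ∈ Q := (C.spec2.2.2.1 i hi).1

theorem π_G (i : ℕ) (hi : i < D.d) : C.π (ev g (gk D.G i)) = 2 ^ i :=
  (C.π_ev (gk_lt _ _)).trans (C.spec2.2.2.1 i hi).2

theorem π_one : C.π 1 = 0 := by rw [← ev_zero (g := g), C.π_ev (by norm_num)]; exact C.spec2.2.1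

include C in
theorem gen_mem {c j : ℕ} (hj : j < 12) (hc : D.inQ c = true) (hb : bit c j = true) : g j ∈ Q := by
  rw [← ev_pow (g := g) hj]
  exact (C.mem _ (Nat.pow_lt_pow_right (by norm_num) hj : 2 ^ j < 2 ^ 12)).2 (QD.inQ_bit hc hb)

include C in
theorem evs_mem {c : ℕ} (hc : D.inQ c = true) {n : ℕ} (hn : n ≤ 12) : evs g c 0 n ∈ Q := by
  induction n with
  | zero => exact Q.one_mem
  | succ n ih =>
    rw [evs_succ, zero_add]
    refine Q.mul_mem (ih (by omega)) ?_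
    cases hb : bit c n
    exacts [Q.one_mem, C.gen_mem hn hc hb]

theorem π_gen {x : Ω} (hx : x ∈ Q) {j : ℕ} (hj : j < 12) (hq : D.inQ (2 ^ j) = true) :
    C.π (x * g j) = C.π x ^^^ D.pr (2 ^ j) := by
  have h := allb_iff.1 (QD.allQ_iff C.ok1 (C.pc.code_lt x) (C.inQ_code hx)) j hj
  rw [show D.inQ (Nat.pow 2 j) = true from hq, cond_true, beq_iff] at h
  rw [π, C.pc.code_eq (rg_lt j (C.pc.code x)) (by rw [C.pc.rel.ev_rg hj (C.pc.code_lt x), C.pc.ev_code])]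
  exact h

theorem π_mul {x y : Ω} (hx : x ∈ Q) (hy : y ∈ Q) : C.π (x * y) = C.π x ^^^ C.π y := by
  have hc := C.inQ_code hy
  have : ∀ n ≤ 12, C.π (x * evs g (C.pc.code y) 0 n) = C.π x ^^^ C.π (evs g (C.pc.code y) 0 n) := by
    intro n hn
    induction n with
    | zero => change C.π (x * 1) = _ ^^^ C.π 1; rw [mul_one, C.π_one, Nat.xor_zero]
    | succ n ih =>
      have hm := C.evs_mem hc (show n ≤ 12 by omega)
      rw [evs_succ, zero_add]
      cases hb : bit (C.pc.code y) n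
      · simpa using ih (by omega)
      · rw [cond_true, ← mul_assoc, C.π_gen (Q.mul_mem hx hm) hn (QD.inQ_bit hc hb),
          C.π_gen hm hn (QD.inQ_bit hc hb), ih (by omega), Nat.xor_assoc]
  have := this 12 le_rfl
  rwa [show evs g (C.pc.code y) 0 12 = y from C.pc.ev_code y] at this

theorem π_inv {x : Ω} (hx : x ∈ Q) : C.π x⁻¹ = C.π x := by
  have := C.π_mul (Q.inv_mem hx) hx
  rw [inv_mul_cancel, C.π_one] at this
  exact Nat.xor_eq_zero_iff.1 this.symm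

theorem π_conj {q x : Ω} (hq : q ∈ Q) (hx : x ∈ Q) : C.π (q * x * q⁻¹) = C.π x := by
  rw [C.π_mul (Q.mul_mem hq hx) (Q.inv_mem hq), C.π_mul hq hx, C.π_inv hq, Nat.xor_comm (C.π q), Nat.xor_assoc]
  simp

theorem π_lt {x : Ω} (hx : x ∈ Q) : C.π x < 2 ^ D.d := by
  have h := QD.allQ_iff C.ok3 (C.pc.code_lt x) (C.inQ_code hx)
  simp only [Bool.and_eq_true, Nat.blt_eq] at h
  exact h.1

theorem π_lt' (x : Ω) : C.π x < 32 := g5_lt _ _

theorem sq_ind {p : Ω → Prop} (h1 : p 1) (hm : ∀ x ∈ Q, ∀ a ∈ Q, p x → p (x * (a * a))) {x : Ω} (hx : x ∈ Q)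
    (h0 : C.π x = 0) : p x := by
  have : ∀ c, ∀ x ∈ Q, C.pc.code x = c → C.π x = 0 → p x := by
    intro c
    induction c using Nat.strong_induction_on with
    | _ c ih =>
    rintro x hx rfl h0
    have h := QD.allQ_iff C.ok3 (C.pc.code_lt x) (C.inQ_code hx)
    rw [show D.pr (C.pc.code x) = 0 from h0] at h
    simp only [Bool.and_eq_true, Nat.blt_eq, frc_eq, show Nat.beq 0 0 = true from rfl, cond_true, Bool.or_eq_true,
      beq_iff] at h
    rcases h.2 with h | ⟨⟨h2, h4⟩, h3⟩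
    · rwa [← C.pc.ev_code x, h, ev_zero]
    set a := gk D.Sq (C.pc.code x)
    set b := gk D.Sq (Nat.add 4096 (C.pc.code x))
    have ha : ev g a ∈ Q := (C.mem _ (gk_lt _ _)).2 h2
    have hb : ev g b ∈ Q := (C.mem _ (gk_lt _ _)).2 h4
    have hy : x * (ev g a * ev g a)⁻¹ ∈ Q := Q.mul_mem hx (Q.inv_mem (Q.mul_mem ha ha))
    have hz := Q.mul_mem hy (Q.inv_mem (Q.mul_mem hb hb))
    have := hm _ hz _ hb (ih _ h3 _ hz (C.pc.code_eq (mulc_lt _ _) (by
      rw [C.pc.rel.ev_mul (mulc_lt _ _) (invc_lt _), C.pc.rel.ev_mul (C.pc.code_lt x) (invc_lt _), C.pc.ev_code,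
        C.pc.rel.ev_inv (mulc_lt _ _), C.pc.rel.ev_inv (mulc_lt _ _),
        C.pc.rel.ev_mul (gk_lt _ _) (gk_lt _ _), C.pc.rel.ev_mul (gk_lt _ _) (gk_lt _ _)])) (by
      rw [C.π_mul hy (Q.inv_mem (Q.mul_mem hb hb)), C.π_inv (Q.mul_mem hb hb), C.π_mul hb hb,
        C.π_mul hx (Q.inv_mem (Q.mul_mem ha ha)), C.π_inv (Q.mul_mem ha ha), C.π_mul ha ha, h0]; simp))
    rw [inv_mul_cancel_right] at this
    have := hm _ hy _ ha this
    rwa [inv_mul_cancel_right] at this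
  exact this _ x hx rfl h0

variable {σ τ : Perm Ω}

theorem _root_.Cfsg.Agent.Rf.D.amem (hσ : σ ∈ autStab Q) {x : Ω} (hx : x ∈ Q) : σ x ∈ Q := (hσ.2 x).2 hx

theorem π_congr (hσ : σ ∈ autStab Q) {x y : Ω} (hx : x ∈ Q) (hy : y ∈ Q) (h : C.π x = C.π y) :
    C.π (σ x) = C.π (σ y) := by
  have hz := Q.mul_mem (Q.inv_mem hy) hx
  have h0 : C.π (σ (y⁻¹ * x)) = 0 := C.sq_ind (p := fun z => C.π (σ z) = 0) (by rw [hσ.1.map_one, C.π_one])
    (fun z hz a ha h => by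
      rw [hσ.1.map_mul hz (Q.mul_mem ha ha), hσ.1.map_mul ha ha,
        C.π_mul (amem hσ hz) (Q.mul_mem (amem hσ ha) (amem hσ ha)), C.π_mul (amem hσ ha) (amem hσ ha), h]; simp)
    hz (by rw [C.π_mul (Q.inv_mem hy) hx, C.π_inv hy, h]; simp)
  rw [hσ.1.map_mul (Q.inv_mem hy) hx, hσ.1.map_inv hy, C.π_mul (Q.inv_mem (amem hσ hy)) (amem hσ hx),
    C.π_inv (amem hσ hy)] at h0
  exact (Nat.xor_eq_zero_iff.1 h0).symm

/-- the matrix of `σ` -/
noncomputable def mk' (σ : Perm Ω) : ℕ := build 5 (fun i => C.π (σ (ev g (gk D.G i)))) D.d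

theorem g5_mk (σ : Perm Ω) {i : ℕ} (hi : i < D.d) : g5 (C.mk' σ) i = C.π (σ (ev g (gk D.G i))) := by
  rw [mk', g5_build fun _ _ => C.π_lt' _, if_pos hi]

theorem π_lin (hσ : σ ∈ autStab Q) {x : Ω} (hx : x ∈ Q) : C.π (σ x) = lin (C.mk' σ) (C.π x) D.d := by
  obtain ⟨hd, -, -, hR, -⟩ := C.spec2
  have : ∀ n ≤ D.d, ∀ y ∈ Q, C.π y = C.π x % 2 ^ n → C.π (σ y) = lin (C.mk' σ) (C.π x) n := by
    intro n hn
    induction n with
    | zero =>
      intro y hy h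
      rw [C.π_congr hσ hy Q.one_mem (by rw [h, C.π_one]; simp [Nat.mod_one]), hσ.1.map_one, C.π_one]; rfl
    | succ n ih =>
      intro y hy h
      rw [mod_succ _ (C.π_lt' x) n (by omega)] at h
      change _ = cond (bit (C.π x) n) (Nat.xor (lin _ _ n) (g5 _ n)) (lin _ _ n)
      revert h
      cases bit (C.π x) n
      · exact ih (by omega) y hy
      intro h
      obtain ⟨r1, r2⟩ := hR (C.π x % 2 ^ n) (lt_of_le_of_lt (Nat.mod_le _ _) (C.π_lt hx))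
      rw [← C.π_ev (gk_lt _ _)] at r2
      have hG := C.G_mem n hn
      rw [C.π_congr hσ hy (Q.mul_mem r1 hG) (by rw [h, C.π_mul r1 hG, r2, C.π_G n hn]; rfl),
        hσ.1.map_mul r1 hG, C.π_mul (amem hσ r1) (amem hσ hG), ih (by omega) _ r1 r2, ← C.g5_mk σ hn]
      rfl
  exact this _ le_rfl x hx (Nat.mod_eq_of_lt (C.π_lt hx)).symm

theorem mk_mul (hσ : σ ∈ autStab Q) (hτ : τ ∈ autStab Q) : C.mk' (σ * τ) = D.mm (C.mk' σ) (C.mk' τ) :=
  build_congr fun i hi => by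
    rw [frc_eq, C.g5_mk τ hi, ← C.π_lin hσ (amem hτ (C.G_mem i hi))]; rfl

theorem mk_congr (h : ∀ x ∈ Q, C.π (σ x) = C.π (τ x)) : C.mk' σ = C.mk' τ :=
  build_congr fun i hi => h _ (C.G_mem i hi)

theorem mk_one : C.mk' 1 = D.idm := build_congr fun i hi => C.π_G i hi

theorem mk_cj {s : ℕ} (hs : s < 4096) : C.mk' (cj (ev g s)) = D.matc s :=
  build_congr fun i _ => by rw [cj_apply, ← C.pc.rel.ev_cjc hs (gk_lt _ _), C.π_ev (cjc_lt _ _)]

theorem π_of_mk (hσ : σ ∈ autStab Q) (hτ : τ ∈ autStab Q) (h : C.mk' σ = C.mk' τ) {x : Ω} (hx : x ∈ Q) :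
    C.π (σ x) = C.π (τ x) := by rw [C.π_lin hσ hx, C.π_lin hτ hx, h]

theorem two_of_triv (hσ : σ ∈ autStab Q) (h : ∀ x ∈ Q, C.π (σ x) = C.π x) : ∃ k, σ ^ 2 ^ k ∈ fixP Q := by
  haveI := C.pc.finite
  have hP : IsPGroup 2 Q := C.pc.isPGroup.to_subgroup Q
  obtain ⟨k, hk⟩ := H1.aut_pow_eq_one_of_frattini hP (resHom Q ⟨σ, hσ⟩) fun x => by
    have hz := Q.mul_mem (Q.inv_mem x.2) (amem hσ x.2)
    obtain ⟨_, h1⟩ := C.sq_ind (p := fun z => ∃ h : z ∈ Q, (⟨z, h⟩ : Q) ∈ frattini Q) ⟨Q.one_mem, one_mem _⟩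
      (fun z hz a ha ⟨_, h⟩ => ⟨Q.mul_mem hz (Q.mul_mem ha ha), mul_mem h (by
        simpa [pow_two] using H1.pow_mem_frattini hP ⟨a, ha⟩)⟩) hz (by
      rw [C.π_mul (Q.inv_mem x.2) (amem hσ x.2), C.π_inv x.2, h x x.2]; simp)
    exact h1
  refine ⟨k, fun x hx => ?_⟩
  rw [← map_pow] at hk
  exact congrArg (fun α : MulAut Q => ((α ⟨x, hx⟩ : Q) : Ω)) hk

end Ctx

end Cfsg.Agent.Rf.D
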