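import Cfsg.Agent.Rf.D3

/-! Automizers of a coded essential subgroup: the image in the Frattini quotient. -/

set_option autoImplicit false

namespace Cfsg.Agent.Rf.D

open L.PC Equiv Cfsg.Fus

def allK (Js : List (List ℕ)) : (ℕ → Bool) → Bool :=
  List.rec (fun f => f 0) (fun J _ r f => alll (fun v => r fun M => frc (Nat.add v (Nat.mul 32 M)) f) J) Js

theorem allK_spec {Js : List (List ℕ)} {f : ℕ → Bool} (h : allK Js f = true) {M : ℕ}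
    (hM : M < 2 ^ (5 * Js.length)) (hJ : ∀ i < Js.length, g5 M i ∈ Js.getD i []) : f M = true := by
  induction Js generalizing f M with
  | nil => obtain rfl : M = 0 := by simpa using hM
           exact h
  | cons J Js ih =>
    have h1 := alll_iff.1 h _ (hJ 0 (by simp))
    have := ih (M := M / 32) h1 (by
      rw [List.length_cons, Nat.mul_succ, pow_add] at hM
      exact Nat.div_lt_of_lt_mul (by rwa [mul_comm] at hM)) fun i hi => by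
      have := hJ (i + 1) (by simpa using hi)
      rwa [show g5 M (i + 1) = g5 (M / 32) i from by
        change M >>> (5 * (i + 1)) % 32 = (M / 32) >>> (5 * i) % 32
        rw [show 5 * (i + 1) = 5 + 5 * i by ring, Nat.shiftRight_add, Nat.shiftRight_eq_div_pow M]] at this
    rwa [frc_eq, show Nat.add (g5 M 0) (Nat.mul 32 (M / 32)) = M from Nat.mod_add_div M 32] at this

def sel (a b c t : ℕ) : ℕ := cond (Nat.beq t 0) a (cond (Nat.beq t 1) b c)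

/-- certificate data for the image in the Frattini quotient -/
structure MD where
  s0 : ℕ
  E : List ℕ
  J : List (List ℕ)
  V : List ℕ
  Cyc : List ℕ
  Dl : List ℕ
  n : ℕ
  ns : List ℕ
  C : List (ℕ × List ℕ × List ℕ)

namespace QD

variable (D : QD)

def wmm (a b c : ℕ) (w : List ℕ) : ℕ := List.rec D.idm (fun t _ r => frc r fun r => D.mm (sel a b c t) r) w
def cmt (z c : ℕ) : Bool := Nat.beq (mulc z c) (mulc c z)
def flg (e c : ℕ) : Bool := frc (mulc c c) fun z => cond (Nat.beq e 1) (Nat.beq z 0)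
  (cond (Nat.beq e 2) (allb (fun k => cmt z (gk D.G k)) D.d) true)
def flg0 (e c : ℕ) : Bool := frc (mulc c c) fun z => cond (Nat.beq e 1) (Nat.beq z 0)
  (cond (Nat.beq e 2) (D.allQ (cmt z)) true)
def okJ (E : List ℕ) (J : List (List ℕ)) : Bool := Nat.beq J.length D.d && allb (fun i => frc (E.getD i 0) fun e =>
  D.flg0 e (gk D.G i) && D.allQ fun c => cond (D.flg e c) (Nat.beq (D.pr c) 0 || memb (D.pr c) (J.getD i [])) true) D.d
def okK (J : List (List ℕ)) (V : List ℕ) (f : ℕ → Bool) : Bool :=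
  alll (fun v => Nat.blt 0 v && Nat.blt v (Nat.pow 2 D.d)) V &&
    allK J fun M => anyl (fun v => Nat.beq (lin M v D.d) 0) V || f M
def p8 (M : ℕ) : Bool := frc (D.mm M M) fun A => frc (D.mm A A) fun B => Nat.beq (D.mm B B) D.idm
def okD (X : MD) : Bool := memb D.idm X.Dl && alll (fun A => D.p8 A && alll (fun B => memb (D.mm A B) X.Dl) X.Dl) X.Dl &&
  alll (fun A => memb A X.Dl) X.Cyc && !Nat.beq (D.matc X.s0) D.idm && Nat.blt X.s0 4096 &&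
  all12 fun s => memb (D.matc s) X.Cyc
def bad (X : MD) (R : ℕ) : Bool := memb R X.Dl && !memb R X.Cyc
def okC (X : MD) : Bool := frc (D.matc X.s0) fun M0 => alll (fun p =>
  (memb p.1 X.Cyc || frc (D.wmm M0 p.1 p.1 p.2.1) fun R => bad X R || memb R X.ns) &&
  (Nat.beq (D.wmm M0 X.n X.n p.2.2) p.1 || bad X (D.wmm M0 X.n p.1 p.2.2))) X.C
def okM (X : MD) : Bool := D.okJ X.E X.J && D.okK X.J X.V (fun M => anyl (fun p => Nat.beq M p.1) X.C) &&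
  D.okD X && D.okC X

end QD

variable {Ω : Type*} [Group Ω] {g : ℕ → Ω}

/-- the properties of `Aut_F(Q)` that are used -/
structure Az (Q : Subgroup Ω) (B : Subgroup (Perm Ω)) : Prop where
  aut : B ≤ autStab Q
  inn : innS ⊤ Q ≤ B
  ker : ∀ U ≤ B, IsPMod 2 (innS Q Q) U → (∀ g ∈ B, ∀ u ∈ U, g * u * g⁻¹ ∈ U) → U ≤ innS Q Q
  syl : ∀ A, innS ⊤ Q ≤ A → A ≤ B → IsPMod 2 (fixP Q) A → A = innS ⊤ Q

theorem iapp {α : Type*} (σ : Perm α) (x : α) : σ⁻¹ (σ x) = x := σ.symm_apply_apply x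
theorem appi {α : Type*} (σ : Perm α) (x : α) : σ (σ⁻¹ x) = x := σ.apply_symm_apply x

theorem cmt_iff (pc : PC g) {z c : ℕ} (hz : z < 4096) (hc : c < 4096) :
    QD.cmt z c = true ↔ ev g z * ev g c = ev g c * ev g z := by
  rw [QD.cmt, beq_iff, ← pc.rel.ev_mul hz hc, ← pc.rel.ev_mul hc hz]
  exact ⟨congrArg _, pc.inj _ (mulc_lt _ _) _ (mulc_lt _ _)⟩

namespace Ctx

variable {D : QD} {Q : Subgroup Ω} (C : Ctx g D Q) {σ τ : Perm Ω} {B B' : Subgroup (Perm Ω)}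

include C in
theorem cj_inn (s : Ω) : cj s ∈ innS ⊤ Q := cj_mem_innS trivial (by
  haveI := C.nrm; rw [Subgroup.normalizer_eq_top]; trivial)

theorem lin_ne (hσ : σ ∈ autStab Q) {v : ℕ} (hv : v < 2 ^ D.d) (h : lin (C.mk' σ) v D.d = 0) : v = 0 := by
  obtain ⟨r1, r2⟩ := C.spec2.2.2.2.1 v hv
  rw [← C.π_ev (gk_lt _ _)] at r2
  rw [← r2, ← C.π_lin hσ r1, ← C.π_one] at h
  have hi := (autStab Q).inv_mem hσ
  have := C.π_congr hi (amem hσ r1) Q.one_mem h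
  rwa [hi.1.map_one, C.π_one, iapp, r2] at this

theorem flg_of (hσ : σ ∈ autStab Q) {e c : ℕ} (hc : c < 4096) (hq : ev g c ∈ Q) (h : D.flg0 e c = true) :
    D.flg e (C.pc.code (σ (ev g c))) = true := by
  have e1 : ev g (mulc (C.pc.code (σ (ev g c))) (C.pc.code (σ (ev g c)))) = σ (ev g (mulc c c)) := by
    rw [C.pc.rel.ev_mul (C.pc.code_lt _) (C.pc.code_lt _), C.pc.ev_code, C.pc.rel.ev_mul hc hc, hσ.1.map_mul hq hq]
  have e2 : ev g (mulc c c) ∈ Q := by rw [C.pc.rel.ev_mul hc hc]; exact Q.mul_mem hq hq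
  rw [QD.flg0, frc_eq] at h
  rw [QD.flg, frc_eq]
  revert h
  cases Nat.beq e 1
  · cases Nat.beq e 2
    · exact id
    refine fun h => allb_iff.2 fun k hk => (cmt_iff C.pc (mulc_lt _ _) (gk_lt _ _)).2 ?_
    have hy := amem ((autStab Q).inv_mem hσ) (C.G_mem k hk)
    have := (cmt_iff C.pc (mulc_lt _ _) (C.pc.code_lt _)).1
      (QD.allQ_iff h (C.pc.code_lt _) (C.inQ_code hy))
    rw [C.pc.ev_code] at this
    have := congrArg σ this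
    rwa [hσ.1.map_mul e2 hy, hσ.1.map_mul hy e2, appi, ← e1] at this
  · intro h
    rw [cond_true, beq_iff] at h ⊢
    rw [h, ev_zero, hσ.1.map_one, ← ev_zero (g := g)] at e1
    exact C.pc.inj _ (mulc_lt _ _) _ (by norm_num) e1

theorem cand {E : List ℕ} {J : List (List ℕ)} {V : List ℕ} {f : ℕ → Bool} (h1 : D.okJ E J = true)
    (h2 : D.okK J V f = true) (hσ : σ ∈ autStab Q) : f (C.mk' σ) = true := by
  simp only [QD.okJ, Bool.and_eq_true, allb_iff, beq_iff, frc_eq] at h1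
  simp only [QD.okK, Bool.and_eq_true, alll_iff, Nat.blt_eq] at h2
  have := allK_spec h2.2 (M := C.mk' σ) (h1.1 ▸ build_lt fun _ _ => C.π_lt' _) fun i hi => by
    rw [h1.1] at hi
    obtain ⟨h3, h4⟩ := h1.2 i hi
    have hm := amem hσ (C.G_mem i hi)
    have := QD.allQ_iff h4 (C.pc.code_lt _) (C.inQ_code hm)
    rw [C.flg_of hσ (gk_lt _ _) (C.G_mem i hi) h3, cond_true, Bool.or_eq_true, beq_iff, memb_iff] at this
    rw [C.g5_mk σ hi]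
    refine this.resolve_left fun h => ?_
    have h : C.π (σ (ev g (gk D.G i))) = 0 := h
    rw [C.π_lin hσ (C.G_mem i hi), C.π_G i hi] at h
    exact (Nat.two_pow_pos i).ne' (C.lin_ne hσ (Nat.pow_lt_pow_right (by norm_num) hi) h)
  rw [Bool.or_eq_true, anyl_iff] at this
  refine this.resolve_left fun ⟨v, hv, h⟩ => ?_
  exact (h2.1 v hv).1.ne' (C.lin_ne hσ (h2.1 v hv).2 (beq_iff.1 h))

theorem two_of_p8 (hσ : σ ∈ autStab Q) (h : D.p8 (C.mk' σ) = true) : ∃ k, σ ^ 2 ^ k ∈ fixP Q := by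
  have h2 := mul_mem hσ hσ
  have h4 := mul_mem h2 h2
  have h8 := mul_mem h4 h4
  rw [QD.p8, frc_eq, frc_eq, beq_iff, ← C.mk_mul hσ hσ, ← C.mk_mul h2 h2, ← C.mk_mul h4 h4, ← C.mk_one] at h
  obtain ⟨k, hk⟩ := C.two_of_triv h8 fun x hx => C.π_of_mk h8 (one_mem _) h hx
  refine ⟨3 + k, ?_⟩
  rwa [pow_add, pow_mul, show σ ^ 2 ^ 3 = σ * σ * (σ * σ) * (σ * σ * (σ * σ)) by
    simp only [← pow_two, ← pow_mul]; rfl]

theorem inn_of_eq (hB : Az Q B) (hσ : σ ∈ B) (hτ : τ ∈ B) (h : C.mk' σ = C.mk' τ) : τ⁻¹ * σ ∈ innS Q Q := by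
  haveI := C.pc.finite
  have hi := hB.aut (B.inv_mem hτ)
  refine hB.ker (subOf (fun ρ => ρ ∈ B ∧ ∀ x ∈ Q, C.π (ρ x) = C.π x) ⟨B.one_mem, fun _ _ => rfl⟩
    fun a b ha hb => ⟨B.mul_mem ha.1 hb.1, fun x hx => by
      rw [Perm.mul_apply, ha.2 _ (amem (hB.aut hb.1) hx), hb.2 x hx]⟩) (fun _ h => h.1)
    (fun ρ hρ => (C.two_of_triv (hB.aut hρ.1) hρ.2).imp fun _ h => fixP_le_innS Q Q h)
    (fun a ha u hu => ⟨B.mul_mem (B.mul_mem ha hu.1) (B.inv_mem ha), fun x hx => ?_⟩)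
    ⟨B.mul_mem (B.inv_mem hτ) hσ, fun x hx => ?_⟩
  · have hy := amem (hB.aut (B.inv_mem ha)) hx
    rw [Perm.mul_apply, Perm.mul_apply, C.π_congr (hB.aut ha) (amem (hB.aut hu.1) hy) hy (hu.2 _ hy),
      appi]
  · rw [Perm.mul_apply, C.π_congr hi (amem (hB.aut hσ) hx) (amem (hB.aut hτ) hx)
      (C.π_of_mk (hB.aut hσ) (hB.aut hτ) h hx), iapp]

theorem mk_inn (hσ : σ ∈ innS ⊤ Q) : ∃ s < 4096, C.mk' σ = D.matc s := by
  obtain ⟨s, -, -, h⟩ := mem_innS.1 hσ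
  refine ⟨_, C.pc.code_lt s, ?_⟩
  rw [← C.mk_cj (C.pc.code_lt s), C.pc.ev_code]
  exact C.mk_congr fun x hx => by rw [h x hx, cj_apply]

theorem exists_wmm (H : Subgroup (Perm Ω)) (hH : H ≤ autStab Q) {a b c : Perm Ω} (ha : a ∈ H) (hb : b ∈ H)
    (hc : c ∈ H) (w : List ℕ) : ∃ τ ∈ H, C.mk' τ = D.wmm (C.mk' a) (C.mk' b) (C.mk' c) w := by
  induction w with
  | nil => exact ⟨1, H.one_mem, C.mk_one⟩
  | cons t w ih =>
    obtain ⟨τ, h1, h2⟩ := ih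
    have : ∃ ρ ∈ H, C.mk' ρ = sel (C.mk' a) (C.mk' b) (C.mk' c) t := by
      unfold sel
      cases Nat.beq t 0
      · cases Nat.beq t 1
        exacts [⟨c, hc, rfl⟩, ⟨b, hb, rfl⟩]
      · exact ⟨a, ha, rfl⟩
    obtain ⟨ρ, h3, h4⟩ := this
    refine ⟨ρ * τ, H.mul_mem h3 h1, ?_⟩
    rw [C.mk_mul (hH h3) (hH h1), h2, h4]
    exact (frc_eq _ _).symm

variable {X : MD} (hX : D.okM X = true)

include hX in
theorem _root_.Cfsg.Agent.Rf.D.specM : D.okJ X.E X.J = true ∧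
    D.okK X.J X.V (fun M => anyl (fun p => Nat.beq M p.1) X.C) = true ∧ D.idm ∈ X.Dl ∧
    (∀ A ∈ X.Dl, D.p8 A = true ∧ ∀ B ∈ X.Dl, D.mm A B ∈ X.Dl) ∧ (∀ A ∈ X.Cyc, A ∈ X.Dl) ∧
    D.matc X.s0 ≠ D.idm ∧ X.s0 < 4096 ∧ (∀ s < 4096, D.matc s ∈ X.Cyc) ∧ ∀ p ∈ X.C,
      (p.1 ∈ X.Cyc ∨ QD.bad X (D.wmm (D.matc X.s0) p.1 p.1 p.2.1) = true ∨
        D.wmm (D.matc X.s0) p.1 p.1 p.2.1 ∈ X.ns) ∧ (D.wmm (D.matc X.s0) X.n X.n p.2.2 = p.1 ∨
        QD.bad X (D.wmm (D.matc X.s0) X.n p.1 p.2.2) = true) := by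
  simp only [QD.okM, QD.okD, QD.okC, Bool.and_eq_true, alll_iff, memb_iff, frc_eq, Bool.or_eq_true, beq_iff,
    Nat.blt_eq, Bool.not_eq_true'] at hX
  obtain ⟨⟨⟨h1, h2⟩, ⟨⟨⟨⟨h3, h4⟩, h5⟩, h6⟩, h7⟩, h8⟩, h9⟩ := hX
  exact ⟨h1, h2, h3, h4, h5, fun e => by simp [e] at h6, h7, fun s hs => memb_iff.1 (all12_iff h8 hs), h9⟩

include hX in
theorem dl_aux (hB : Az Q B) : ∃ T : Subgroup (Perm Ω), (∀ σ, σ ∈ T ↔ σ ∈ B ∧ C.mk' σ ∈ X.Dl) ∧
    T = innS ⊤ Q := by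
  haveI := C.pc.finite
  obtain ⟨-, -, h3, h4, h5, -, -, h8, -⟩ := specM hX
  refine ⟨subOf (fun ρ => ρ ∈ B ∧ C.mk' ρ ∈ X.Dl) ⟨B.one_mem, C.mk_one ▸ h3⟩ fun a b ha hb =>
    ⟨B.mul_mem ha.1 hb.1, C.mk_mul (hB.aut ha.1) (hB.aut hb.1) ▸ (h4 _ ha.2).2 _ hb.2⟩, fun _ => Iff.rfl,
    hB.syl _ (fun σ hσ => ⟨hB.inn hσ, ?_⟩) (fun _ h => h.1) fun σ hσ => C.two_of_p8 (hB.aut hσ.1) (h4 _ hσ.2).1⟩
  obtain ⟨s, hs, e⟩ := C.mk_inn hσ
  exact e ▸ h5 _ (h8 s hs)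

include hX in
theorem not_bad (hB : Az Q B) (hσ : σ ∈ B) : ¬ QD.bad X (C.mk' σ) = true := fun h => by
  obtain ⟨T, h1, h2⟩ := C.dl_aux hX hB
  simp only [QD.bad, Bool.and_eq_true, memb_iff, Bool.not_eq_true', ← Bool.not_eq_true] at h
  obtain ⟨s, hs, e⟩ := C.mk_inn (h2 ▸ (h1 σ).2 ⟨hσ, h.1⟩)
  exact h.2 (e ▸ (specM hX).2.2.2.2.2.2.2.1 s hs)

include hX in
theorem mem_C (hσ : σ ∈ autStab Q) : ∃ p ∈ X.C, C.mk' σ = p.1 := by
  simpa only [anyl_iff, beq_iff] using C.cand (specM hX).1 (specM hX).2.1 hσ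

include hX in
theorem exists_nu (hB : Az Q B) : ∃ ν ∈ B, C.mk' ν ∈ X.ns := by
  obtain ⟨-, -, -, -, h5, h6, h7, -, h9⟩ := specM hX
  obtain ⟨T, h1, h2⟩ := C.dl_aux hX hB
  have h0 := hB.inn (C.cj_inn (ev g X.s0))
  obtain ⟨σ, hσ, hn⟩ : ∃ σ ∈ B, C.mk' σ ∉ X.Cyc := by
    by_contra! H
    have e : B ≤ innS ⊤ Q := fun σ hσ => h2 ▸ (h1 σ).2 ⟨hσ, h5 _ (H σ hσ)⟩
    obtain ⟨q, hq, e'⟩ := mem_innS_self.1 (hB.ker B le_rfl (fun σ hσ =>
      (isPMod_innS (C.pc.isPGroup.to_subgroup ⊤) Q σ (e hσ)).imp fun _ h => fixP_le_innS Q Q h)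
      (fun a ha u hu => B.mul_mem (B.mul_mem ha hu) (B.inv_mem ha)) h0)
    refine h6 ?_
    rw [← C.mk_cj h7, ← C.mk_one]
    exact C.mk_congr fun x hx => by rw [e' x hx, C.π_conj hq hx]; rfl
  obtain ⟨p, hp, e⟩ := C.mem_C hX (hB.aut hσ)
  obtain ⟨τ, t1, t2⟩ := C.exists_wmm B hB.aut h0 hσ hσ p.2.1
  rw [C.mk_cj h7, e] at t2
  rcases (h9 p hp).1 with h | h | h
  · exact (hn (e ▸ h)).elim
  · exact (C.not_bad hX hB t1 (t2 ▸ h)).elim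
  · exact ⟨τ, t1, t2 ▸ h⟩

include hX in
theorem le_of_nu (hB : Az Q B) (hB' : Az Q B') {ν : Perm Ω} (h1 : ν ∈ B) (h2 : ν ∈ B') (hn : C.mk' ν = X.n) :
    B ≤ B' := fun σ hσ => by
  obtain ⟨-, -, -, -, -, -, h7, -, h9⟩ := specM hX
  have h0 := C.cj_inn (ev g X.s0)
  obtain ⟨p, hp, e⟩ := C.mem_C hX (hB.aut hσ)
  rcases (h9 p hp).2 with h | h
  · obtain ⟨τ, t1, t2⟩ := C.exists_wmm (B ⊓ B') (inf_le_left.trans hB.aut) ⟨hB.inn h0, hB'.inn h0⟩ ⟨h1, h2⟩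
      ⟨h1, h2⟩ p.2.2
    rw [C.mk_cj h7, hn, h, ← e] at t2
    simpa using B'.mul_mem t1.2 (hB'.inn (innS_mono le_top Q (C.inn_of_eq hB hσ t1.1 t2.symm)))
  · obtain ⟨τ, t1, t2⟩ := C.exists_wmm B hB.aut (hB.inn h0) h1 hσ p.2.2
    rw [C.mk_cj h7, hn, e] at t2
    exact (C.not_bad hX hB t1 (t2 ▸ h)).elim

end Ctx

end Cfsg.Agent.Rf.D
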