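import Cfsg.Agent.Rf.D4

/-! Search for the automorphisms with a given action on the Frattini quotient. -/

set_option autoImplicit false

namespace Cfsg.Agent.Rf.D

open L.PC Equiv Cfsg.Fus

def trunc (K l : ℕ) : ℕ := build 12 (gk K) l
def ext (K l c : ℕ) : ℕ := build 12 (fun i => cond (Nat.beq i l) c (gk K i)) (Nat.succ l)
def apn (P c n : ℕ) : ℕ := Nat.rec 0 (fun i acc => cond (bit c i) (mulc acc (gk P i)) acc) n
def apc (P c : ℕ) : ℕ := frc c fun c => apn P c 12
def aw (P : ℕ) (E : List ℕ) (c : ℕ) : ℕ :=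
  List.rec c (fun a _ r => frc r fun r => cond (Nat.ble 4096 a) (apc P r) (cjc a r)) E

namespace QD

variable (D : QD)

def okL {β : Type} (IX n l : ℕ) (rel : List (List ℕ × List ℕ)) (nod : List (ℕ × ℕ)) (nxt : List (ℕ × β)) : Bool :=
  Nat.blt l D.d && (frc (trunc D.G (Nat.succ l)) fun G => alll (fun r => Nat.beq (wev G r.1) (wev G r.2)) rel) &&
  frc (g5 n l) fun v => D.allQ fun c => cond (Nat.beq (D.pr c) v) (frc (gk IX c) fun t => alll (fun nd =>
    frc (app 13 nd.2 t) fun a => cond (Nat.ble 4096 a)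
      (frc (ext nd.1 l c) fun K => !Nat.beq (wev K (rel.getD (Nat.sub a 4096) ([], [])).1)
        (wev K (rel.getD (Nat.sub a 4096) ([], [])).2))
      (D.inQ a && allb (fun i => cmt a (gk nd.1 i)) l &&
        frc (ext nd.1 l (cjc a c)) fun K => anyl (fun p => Nat.beq K p.1) nxt)) nod) true

def PI (K : ℕ) : ℕ := frc (trunc K D.d) fun K => build 12 (fun j => wev K (D.W.getD j [])) 12

def badw (K : ℕ) (E : List ℕ) : Bool := frc (D.PI K) fun P =>
  frc (build 12 (fun k => aw P E (gk D.G k)) D.d) fun KE =>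
    allb (fun k => Nat.beq (D.pr (gk KE k)) (Nat.pow 2 k)) D.d &&
    D.allQ fun q => !allb (fun k => Nat.beq (mulc q (gk D.G k)) (mulc (gk KE k) q)) D.d

def okF (T : List ℕ) (fin : List (ℕ × List ℕ)) : Bool := alll (fun p => memb p.1 T || D.badw p.1 p.2) fin

def okT (K T A s t Y : ℕ) : Bool := Nat.blt s 4096 && Nat.blt t 4096 && frc (D.PI K) fun P =>
  allb (fun k => frc (gk Y k) fun y => D.inQ y && Nat.beq (apc A y) (cjc t (gk D.G k)) &&
    Nat.beq (cjc s (apc A (apc P y))) (gk T k)) D.d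

end QD

def okA (A A' : ℕ) : Bool := allb (fun h => Nat.beq (apc A (gk A' h)) (Nat.pow 2 h) &&
  allb (fun j => Nat.beq (mulc (gk A h) (gk A j)) (apc A (relc h j))) (Nat.succ h)) 12

def QD.okS (D : QD) (A : ℕ) : Bool := allb (fun j => cond (D.inQ (Nat.pow 2 j)) (D.inQ (gk A j)) true) 12

variable {Ω : Type*} [Group Ω] {g : ℕ → Ω}

theorem apn_lt (P c n : ℕ) : apn P c n < 4096 := by
  induction n with
  | zero => exact (by norm_num : 0 < 4096)
  | succ n ih =>
    change cond (bit c n) (mulc (apn P c n) (gk P n)) (apn P c n) < 4096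
    cases bit c n
    exacts [ih, mulc_lt _ _]

theorem apc_lt (P c : ℕ) : apc P c < 4096 := by rw [apc, frc_eq]; exact apn_lt _ _ _

theorem Rel.ev_apc (hg : Rel g) (P c : ℕ) : ev g (apc P c) = ev (fun i => ev g (gk P i)) c := by
  have : ∀ n, ev g (apn P c n) = evs (fun i => ev g (gk P i)) c 0 n := fun n => by
    induction n with
    | zero => exact ev_zero
    | succ n ih =>
      rw [evs_succ, zero_add, ← ih]
      change ev g (cond (bit c n) (mulc (apn P c n) (gk P n)) (apn P c n)) = _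
      cases bit c n
      exacts [(mul_one _).symm, hg.ev_mul (apn_lt _ _ _) (gk_lt _ _)]
  rw [apc, frc_eq, this]; rfl

theorem gk_ext {K l c : ℕ} (hc : c < 4096) (i : ℕ) :
    gk (ext K l c) i = if i < l then gk K i else if i = l then c else 0 := by
  rw [ext, gk_build fun i _ => by cases Nat.beq i l; exacts [gk_lt _ _, hc]]
  rcases lt_trichotomy i l with h | rfl | h
  · rw [if_pos (by omega), if_pos h, show Nat.beq i l = false from by
      rw [← Bool.not_eq_true, beq_iff]; omega]; rfl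
  · simp
  · rw [if_neg (by omega), if_neg (by omega), if_neg (by omega)]

theorem gk_trunc (K l i : ℕ) : gk (trunc K l) i = if i < l then gk K i else 0 := gk_build (fun _ _ => gk_lt _ _) i

/-- the automorphism with the images `A` of the generators -/
theorem PC.exists_aut (pc : PC g) {A A' : ℕ} (h : okA A A' = true) :
    ∃ α ∈ autStab (⊤ : Subgroup Ω), ∀ c < 4096, α (ev g c) = ev g (apc A c) := by
  simp only [okA, allb_iff, Bool.and_eq_true, beq_iff] at h
  have hr : Rel fun i => ev g (gk A i) := fun a ha j hj => by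
    rw [← pc.rel.ev_apc, ← (h a ha).2 j (Nat.lt_succ_of_le hj), pc.rel.ev_mul (gk_lt _ _) (gk_lt _ _)]
  let f : Ω →* Ω := MonoidHom.mk' (fun x => ev g (apc A (pc.code x))) fun x y => by
    simp only [pc.rel.ev_apc, pc.code_mul, hr.ev_mul (pc.code_lt x) (pc.code_lt y)]
  have hf : ∀ c < 4096, f (ev g c) = ev g (apc A c) := fun c hc => by
    change ev g (apc A (pc.code _)) = _
    rw [pc.code_ev hc]
  have hs : Function.Surjective f := fun x => by
    have : ∀ n ≤ 12, evs g (pc.code x) 0 n ∈ f.range := fun n hn => by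
      induction n with
      | zero => exact one_mem _
      | succ n ih =>
        rw [evs_succ, zero_add]
        refine mul_mem (ih (by omega)) ?_
        cases bit (pc.code x) n
        · exact one_mem _
        · exact ⟨_, (hf _ (gk_lt A' n)).trans (by rw [(h n hn).1]; exact ev_pow hn)⟩
    have := this 12 le_rfl
    rwa [show evs g (pc.code x) 0 12 = x from pc.ev_code x] at this
  haveI := pc.finite
  exact ⟨Equiv.ofBijective f ⟨Finite.injective_iff_surjective.2 hs, hs⟩,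
    ⟨fun x _ y _ => f.map_mul x y, fun _ => Iff.rfl⟩, hf⟩

namespace Ctx

variable {D : QD} {Q : Subgroup Ω} (C : Ctx g D Q) {ν : Perm Ω} {B : Subgroup (Perm Ω)}

/-- the images of the first generators -/
def Key (_ : Ctx g D Q) (ν : Perm Ω) (K l : ℕ) : Prop := ∀ i < l, ν (ev g (gk D.G i)) = ev g (gk K i)

theorem wev_key (hν : ν ∈ autStab Q) {K l : ℕ} (hl : l ≤ D.d) (h : C.Key ν K l) (h0 : ∀ i, ¬ i < l → gk K i = 0)
    (w : List ℕ) : ev g (wev (trunc D.G l) w) ∈ Q ∧ ν (ev g (wev (trunc D.G l) w)) = ev g (wev K w) := by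
  induction w with
  | nil => exact ⟨ev_zero (g := g) ▸ Q.one_mem, by
      change ν (ev g 0) = ev g 0
      rw [ev_zero, hν.1.map_one]⟩
  | cons t w ih =>
    have : ev g (gk (trunc D.G l) t) ∈ Q ∧ ν (ev g (gk (trunc D.G l) t)) = ev g (gk K t) := by
      rw [gk_trunc]
      split_ifs with ht
      · exact ⟨C.G_mem t (by omega), h t ht⟩
      · rw [h0 t ht, ev_zero, hν.1.map_one]; exact ⟨Q.one_mem, rfl⟩
    change ev g (mulc _ (wev _ w)) ∈ Q ∧ ν (ev g (mulc _ (wev _ w))) = ev g (mulc _ (wev K w))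
    rw [C.pc.rel.ev_mul (gk_lt _ _) (wev_lt _ _), C.pc.rel.ev_mul (gk_lt _ _) (wev_lt _ _),
      hν.1.map_mul this.1 ih.1, this.2, ih.2]
    exact ⟨Q.mul_mem this.1 ih.1, rfl⟩

/-- the state of the search -/
def St {β : Type} (B : Subgroup (Perm Ω)) (n l : ℕ) (L : List (ℕ × β)) : Prop :=
  ∃ ν ∈ B, C.mk' ν = n ∧ ∃ p ∈ L, C.Key ν p.1 l

theorem step {β : Type} {IX n l : ℕ} {rel : List (List ℕ × List ℕ)} {nod : List (ℕ × ℕ)} {nxt : List (ℕ × β)}
    (h : D.okL IX n l rel nod nxt = true) (hB : Az Q B) (hs : C.St B n l nod) : C.St B n (l + 1) nxt := by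
  obtain ⟨ν, hν, hn, p, hp, hK⟩ := hs
  simp only [QD.okL, Bool.and_eq_true, frc_eq, alll_iff, beq_iff, Nat.blt_eq] at h
  obtain ⟨⟨hl, hr⟩, h⟩ := h
  have ha := hB.aut hν
  have hm := amem ha (C.G_mem l hl)
  have h := QD.allQ_iff h (C.pc.code_lt _) (C.inQ_code hm)
  have hc := C.pc.code_lt (ν (ev g (gk D.G l)))
  have hec := C.pc.ev_code (ν (ev g (gk D.G l)))
  rw [show Nat.beq (D.pr (C.pc.code (ν (ev g (gk D.G l))))) (g5 n l) = true from
    beq_iff.2 (by rw [← hn, C.g5_mk ν hl]; rfl), cond_true] at h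
  have h := alll_iff.1 h p hp
  generalize C.pc.code (ν (ev g (gk D.G l))) = c at h hc hec
  generalize app 13 p.2 (gk IX c) = a at h
  revert h
  cases hb : Nat.ble 4096 a <;> intro h
  · simp only [cond_false, Bool.and_eq_true, allb_iff, anyl_iff, beq_iff] at h
    obtain ⟨⟨h1, h2⟩, p', hp', e⟩ := h
    have ha' : a < 4096 := by rw [← Bool.not_eq_true, Nat.ble_eq] at hb; omega
    have hq := (C.mem a ha').2 h1
    refine ⟨cj (ev g a) * ν, B.mul_mem (hB.inn (C.cj_inn _)) hν, hn ▸ C.mk_congr fun x hx => ?_, p', hp',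
      fun i hi => ?_⟩
    · rw [Perm.mul_apply, cj_apply, C.π_conj hq (amem ha hx)]
    rw [← e, gk_ext (cjc_lt _ _), Perm.mul_apply, cj_apply]
    split_ifs with h3 h4
    · rw [hK i h3, (cmt_iff C.pc ha' (gk_lt _ _)).1 (h2 i h3), mul_inv_cancel_right]
    · rw [h4, C.pc.rel.ev_cjc ha' hc, hec]
    · omega
  · have hk : ∀ w, _ := C.wev_key ha (K := ext p.1 l c) hl (fun i hi => by
      rw [gk_ext hc]
      split_ifs with h3 h4
      exacts [hK i h3, h4 ▸ hec.symm, by omega]) fun i hi => by rw [gk_ext hc, if_neg (by omega), if_neg (by omega)]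
    generalize hr' : rel.getD (Nat.sub a 4096) ([], []) = r at h
    have : wev (trunc D.G (l + 1)) r.1 = wev (trunc D.G (l + 1)) r.2 := by
      rcases Nat.lt_or_ge (Nat.sub a 4096) rel.length with h1 | h1
      · exact hr r (by rw [← hr', List.getD_eq_getElem _ _ h1]; exact List.getElem_mem _)
      · rw [← hr', List.getD_eq_default _ _ h1]
    have e := C.pc.inj _ (wev_lt _ _) _ (wev_lt _ _) (((hk r.1).2.symm.trans (by rw [this])).trans (hk r.2).2)
    simp [e] at h

variable (hG : trunc D.G D.d = D.G)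

include C in
theorem ev_gens {f : Ω → Ω} (hf : HomOn f Q) {g' : ℕ → Ω} (h : ∀ j < 12, D.inQ (2 ^ j) = true → f (g j) = g' j)
    {c : ℕ} (hc : D.inQ c = true) : f (ev g c) = ev g' c := by
  have : ∀ n ≤ 12, f (evs g c 0 n) = evs g' c 0 n := fun n hn => by
    induction n with
    | zero => exact hf.map_one
    | succ n ih =>
      rw [evs_succ, evs_succ, zero_add, ← ih (by omega)]
      cases hb : bit c n
      · simp
      · rw [cond_true, cond_true, hf.map_mul (C.evs_mem hc (by omega)) (C.gen_mem hn hc hb),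
          h n hn (QD.inQ_bit hc hb)]
  exact this 12 le_rfl

include hG in
theorem key_apc (hν : ν ∈ autStab Q) {K : ℕ} (h : C.Key ν K D.d) {c : ℕ} (hc : D.inQ c = true) :
    ν (ev g c) = ev g (apc (D.PI K) c) := by
  rw [C.pc.rel.ev_apc]
  refine C.ev_gens hν.1 (fun j hj hq => ?_) hc
  have := (C.wev_key hν le_rfl (K := trunc K D.d) (fun i hi => by rw [gk_trunc, if_pos hi]; exact h i hi)
    (fun i hi => by rw [gk_trunc, if_neg hi]) (D.W.getD j [])).2
  rw [hG, C.spec2.2.2.2.2 j hj hq, ev_pow hj] at this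
  rw [this, QD.PI, frc_eq, gk_build fun _ _ => wev_lt _ _, if_pos hj]

include hG in
theorem key_eq {ν' : Perm Ω} (hν : ν ∈ autStab Q) (hν' : ν' ∈ autStab Q) {K : ℕ} (h : C.Key ν K D.d)
    (h' : C.Key ν' K D.d) {x : Ω} (hx : x ∈ Q) : ν x = ν' x := by
  rw [← C.pc.ev_code x, C.key_apc hG hν h (C.inQ_code hx), C.key_apc hG hν' h' (C.inQ_code hx)]

include hG in
theorem exists_aw (hB : Az Q B) (hν : ν ∈ B) {K : ℕ} (h : C.Key ν K D.d) (E : List ℕ) :
    ∃ ε ∈ B, ∀ c < 4096, ev g c ∈ Q → aw (D.PI K) E c < 4096 ∧ ε (ev g c) = ev g (aw (D.PI K) E c) := by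
  induction E with
  | nil => exact ⟨1, B.one_mem, fun c hc _ => ⟨hc, rfl⟩⟩
  | cons a E ih =>
    obtain ⟨ε, h1, h2⟩ := ih
    have e : ∀ c, aw (D.PI K) (a :: E) c = cond (Nat.ble 4096 a) (apc (D.PI K) (aw (D.PI K) E c))
      (cjc a (aw (D.PI K) E c)) := fun c =>
      frc_eq (aw (D.PI K) E c) fun r => cond (Nat.ble 4096 a) (apc (D.PI K) r) (cjc a r)
    cases hb : Nat.ble 4096 a <;> simp only [e, hb, cond_true, cond_false]
    · have ha : a < 4096 := by rw [← Bool.not_eq_true, Nat.ble_eq] at hb; omega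
      refine ⟨cj (ev g a) * ε, B.mul_mem (hB.inn (C.cj_inn _)) h1, fun c hc hq => ⟨cjc_lt _ _, ?_⟩⟩
      rw [Perm.mul_apply, cj_apply, (h2 c hc hq).2, C.pc.rel.ev_cjc ha (h2 c hc hq).1]
    · refine ⟨ν * ε, B.mul_mem hν h1, fun c hc hq => ⟨apc_lt _ _, ?_⟩⟩
      rw [Perm.mul_apply, (h2 c hc hq).2, C.key_apc hG (hB.aut hν) h
        ((C.mem _ (h2 c hc hq).1).1 ((h2 c hc hq).2 ▸ amem (hB.aut h1) hq))]

include hG in
theorem fin {T : List ℕ} {L : List (ℕ × List ℕ)} {n : ℕ} (h : D.okF T L = true) (hB : Az Q B)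
    (hs : C.St B n D.d L) : ∃ ν ∈ B, ∃ K ∈ T, C.Key ν K D.d := by
  obtain ⟨ν, hν, -, p, hp, hK⟩ := hs
  have h := alll_iff.1 h p hp
  rw [Bool.or_eq_true, memb_iff] at h
  refine ⟨ν, hν, _, h.resolve_right fun h => ?_, hK⟩
  simp only [QD.badw, frc_eq, Bool.and_eq_true, allb_iff, beq_iff] at h
  obtain ⟨ε, h1, h2⟩ := C.exists_aw hG hB hν hK p.2
  have h3 := fun k hk => h2 _ (gk_lt _ _) (C.G_mem k hk)
  have h4 : ∀ k < D.d, ev g (gk (build 12 (fun k => aw (D.PI p.1) p.2 (gk D.G k)) D.d) k) = ε (ev g (gk D.G k)) :=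
    fun k hk => by rw [gk_build fun i hi => (h3 i hi).1, if_pos hk, (h3 k hk).2]
  obtain ⟨q, hq, e⟩ := mem_innS_self.1 (C.inn_of_eq hB h1 B.one_mem (build_congr fun k hk => by
    rw [← h4 k hk, C.π_ev (gk_lt _ _), h.1 k hk]; exact (C.π_G k hk).symm))
  have := QD.allQ_iff h.2 (C.pc.code_lt q) (C.inQ_code hq)
  rw [Bool.not_eq_true', ← Bool.not_eq_true, allb_iff] at this
  refine this fun k hk => beq_iff.2 (C.pc.inj _ (mulc_lt _ _) _ (mulc_lt _ _) ?_)
  have e := e _ (C.G_mem k hk)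
  rw [inv_one, one_mul] at e
  rw [C.pc.rel.ev_mul (C.pc.code_lt _) (gk_lt _ _), C.pc.rel.ev_mul (gk_lt _ _) (C.pc.code_lt _), h4 k hk, e,
    C.pc.ev_code, inv_mul_cancel_right]

include C in
theorem aut_mem {α : Perm Ω} {A : ℕ} (hα : α ∈ autStab ⊤) (h : ∀ c < 4096, α (ev g c) = ev g (apc A c))
    (hS : D.okS A = true) : α ∈ setStab Q := by
  haveI := C.pc.finite
  refine mem_setStab_of_finite fun x hx => ?_
  rw [← C.pc.ev_code x, h _ (C.pc.code_lt x), C.pc.rel.ev_apc]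
  have : ∀ n ≤ 12, evs (fun i => ev g (gk A i)) (C.pc.code x) 0 n ∈ Q := fun n hn => by
    induction n with
    | zero => exact Q.one_mem
    | succ n ih =>
      rw [evs_succ, zero_add]
      refine Q.mul_mem (ih (by omega)) ?_
      cases hb : bit (C.pc.code x) n
      · exact Q.one_mem
      · have := allb_iff.1 hS n hn
        rw [show D.inQ (Nat.pow 2 n) = true from QD.inQ_bit (C.inQ_code hx) hb] at this
        exact (C.mem _ (gk_lt _ _)).2 this
  exact this 12 le_rfl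

include hG in
theorem key_transp {α : Perm Ω} {K T A s t Y : ℕ} (h : ∀ c < 4096, α (ev g c) = ev g (apc A c))
    (hν : ν ∈ autStab Q) (hK : C.Key ν K D.d) (hT : D.okT K T A s t Y = true) :
    C.Key (cj (ev g s) * (α * ν * α⁻¹) * cj (ev g t)) T D.d := fun k hk => by
  simp only [QD.okT, frc_eq, Bool.and_eq_true, allb_iff, beq_iff, Nat.blt_eq] at hT
  obtain ⟨⟨hs, ht⟩, h1⟩ := hT
  obtain ⟨⟨h1, h2⟩, h3⟩ := h1 k hk
  rw [Perm.mul_apply, Perm.mul_apply, Perm.mul_apply, Perm.mul_apply, cj_apply, cj_apply,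
    ← C.pc.rel.ev_cjc ht (gk_lt _ _), ← h2, ← h _ (gk_lt _ _), iapp, C.key_apc hG hν hK h1, h _ (apc_lt _ _),
    ← C.pc.rel.ev_cjc hs (apc_lt _ _), h3]

end Ctx

end Cfsg.Agent.Rf.D
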