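import Cfsg.Agent.Rf.D6

/-! Kernel checks, part 1. -/

namespace Cfsg.Agent.Rf.D

open L.PC

theorem cT1 : DT.ok1 = true := by decide +kernel
theorem cT2 : DT.ok2 = true := by decide +kernel
theorem cT3 : DT.ok3 = true := by decide +kernel
theorem cL1 : DL.ok1 = true := by decide +kernel
theorem cL2 : DL.ok2 = true := by decide +kernel
theorem cL3 : DL.ok3 = true := by decide +kernel
theorem cS1 : DS.ok1 = true := by decide +kernel
theorem cS2 : DS.ok2 = true := by decide +kernel
theorem cS3 : DS.ok3 = true := by decide +kernel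
theorem cTJ : DT.okJ [0, 1, 2] [[1, 2, 3, 4, 5, 6, 7], [2], [2, 4]] = true := by decide +kernel
theorem cTK : DT.okK [[1, 2, 3, 4, 5, 6, 7], [2], [2, 4]] [1, 2, 3, 4, 5, 6, 7] DT.p8 = true := by decide +kernel
theorem cLM : DL.okM XL = true := by decide +kernel
theorem cSM : DS.okM XS = true := by decide +kernel
theorem cLG : trunc DL.G DL.d = DL.G := by decide +kernel
theorem cSG : trunc DS.G DS.d = DS.G := by decide +kernel
theorem cLn : build 5 (fun i => DL.pr (gk tL i)) DL.d = XL.n := by decide +kernel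
theorem cSn : build 5 (fun i => DS.pr (gk tS i)) DS.d = XS.n := by decide +kernel

def okQ (p : List ℕ) : Bool := frc (p.getD 2 0) fun A => okA A (p.getD 3 0) && DL.okS A && DS.okS A &&
  DL.okT (p.getD 0 0) tL A (p.getD 4 0) (p.getD 5 0) (p.getD 6 0) &&
  DS.okT (p.getD 1 0) tS A (p.getD 7 0) (p.getD 8 0) (p.getD 9 0)

theorem cP : alll okQ PP = true := by decide +kernel
theorem cP' : alll (fun a => alll (fun b => anyl (fun p => Nat.beq a (p.getD 0 0) && Nat.beq b (p.getD 1 0)) PP)
  TS) TL = true := by decide +kernel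

end Cfsg.Agent.Rf.D
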