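import Cfsg.Agent.Rf.D6

/-! Kernel checks, part 2. -/

namespace Cfsg.Agent.Rf.D

open L.PC

theorem cLa0 : DL.okL IL (XL.ns.getD 0 0) 0 rLa0 nLa0 nLa1 = true := by decide +kernel
theorem cLa1 : DL.okL IL (XL.ns.getD 0 0) 1 rLa1 nLa1 nLa2 = true := by decide +kernel
theorem cLa2 : DL.okL IL (XL.ns.getD 0 0) 2 rLa2 nLa2 fLa = true := by decide +kernel
theorem cLaF : DL.okF TL fLa = true := by decide +kernel
theorem cLb0 : DL.okL IL (XL.ns.getD 1 0) 0 rLb0 nLb0 nLb1 = true := by decide +kernel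
theorem cLb1 : DL.okL IL (XL.ns.getD 1 0) 1 rLb1 nLb1 nLb2 = true := by decide +kernel
theorem cLb2 : DL.okL IL (XL.ns.getD 1 0) 2 rLb2 nLb2 fLb = true := by decide +kernel
theorem cLbF : DL.okF TL fLb = true := by decide +kernel
theorem cSa0 : DS.okL IS (XS.ns.getD 0 0) 0 rSa0 nSa0 nSa1 = true := by decide +kernel
theorem cSa1 : DS.okL IS (XS.ns.getD 0 0) 1 rSa1 nSa1 nSa2 = true := by decide +kernel
theorem cSa2 : DS.okL IS (XS.ns.getD 0 0) 2 rSa2 nSa2 nSa3 = true := by decide +kernel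
theorem cSa3 : DS.okL IS (XS.ns.getD 0 0) 3 rSa3 nSa3 nSa4 = true := by decide +kernel
theorem cSa4 : DS.okL IS (XS.ns.getD 0 0) 4 rSa4 nSa4 fSa = true := by decide +kernel
theorem cSaF : DS.okF TS fSa = true := by decide +kernel
theorem cSb0 : DS.okL IS (XS.ns.getD 1 0) 0 rSb0 nSb0 nSb1 = true := by decide +kernel
theorem cSb1 : DS.okL IS (XS.ns.getD 1 0) 1 rSb1 nSb1 nSb2 = true := by decide +kernel
theorem cSb2 : DS.okL IS (XS.ns.getD 1 0) 2 rSb2 nSb2 nSb3 = true := by decide +kernel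
theorem cSb3 : DS.okL IS (XS.ns.getD 1 0) 3 rSb3 nSb3 nSb4 = true := by decide +kernel
theorem cSb4 : DS.okL IS (XS.ns.getD 1 0) 4 rSb4 nSb4 fSb = true := by decide +kernel
theorem cSbF : DS.okF TS fSb = true := by decide +kernel

end Cfsg.Agent.Rf.D
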