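import Cfsg.Agent.Rf.D7
import Cfsg.Agent.Rf.D8
import Cfsg.Agent.Rf.I

/-! Uniqueness for `q = 2`. -/

set_option autoImplicit false

namespace Cfsg.Agent.Rf.D

open L.PC Equiv Cfsg.Fus Cfsg.FusionSystem U

theorem cIn : all12 (fun c => (DL.inQ c == !bit c 11) && (DS.inQ c == (!bit c 0 && !bit c 1)) && DT.inQ c) = true := by
  decide +kernel

variable {K : Type} [Field K] [Finite K] [TF K] (hK : Nat.card K = 2) {F F0 : FusionSystem (⊤ : Subgroup (U K))}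

include hK

theorem ctxT : Ctx (gU K) DT ⊤ := ⟨pcU hK, cT1, cT2, cT3, fun c hc => by
  have := all12_iff cIn hc
  simp only [Bool.and_eq_true] at this
  simp [this.2], inferInstance⟩

theorem ctxL : Ctx (gU K) DL QL := ⟨pcU hK, cL1, cL2, cL3, fun c hc => by
  have := all12_iff cIn hc
  simp only [Bool.and_eq_true, beq_iff_eq] at this
  simp [this.1.1, mem_QL], ⟨fun x (hx : _ = _) s => show (s * x * s⁻¹).x8 = 0 by usimp; grind⟩⟩

theorem ctxS : Ctx (gU K) DS QS := ⟨pcU hK, cS1, cS2, cS3, fun c hc => by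
  have := all12_iff cIn hc
  simp only [Bool.and_eq_true, beq_iff_eq] at this
  simp [this.1.2, mem_QS], ⟨fun x hx s => show (s * x * s⁻¹).y1 = 0 ∧ (s * x * s⁻¹).x1 = 0 by
    usimp; simp only [hx.1, hx.2, map_zero]; grind⟩⟩

theorem az {Q : Subgroup (U K)} (hF : F.IsSaturated 2) (hE : F.IsEssential 2 Q) : Az Q (F.stab Q) := by
  haveI : Fact (Nat.Prime 2) := ⟨Nat.prime_two⟩
  haveI := (pcU hK).finite
  exact ⟨F.stab_le_autStab Q, F.innS_le_stab le_top, fun V h1 h2 h3 => hE.le_innS h1 h2 fun a ha => h3 a ha.mem_stab,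
    fun A => (hE.isFullyNormalized.isFullyAutomized hF ((pcU hK).isPGroup.to_subgroup ⊤)).le_innS⟩

theorem top_inn (hF : F.IsSaturated 2) : F.stab ⊤ = innS ⊤ ⊤ := by
  haveI : Fact (Nat.Prime 2) := ⟨Nat.prime_two⟩
  haveI := (pcU hK).finite
  exact (hF.isFullyAutomized_top ((pcU hK).isPGroup.to_subgroup ⊤)).le_innS (F.innS_le_stab le_top) le_rfl
    fun σ hσ => (ctxT hK).two_of_p8 (F.stab_le_autStab _ hσ) ((ctxT hK).cand cTJ cTK (F.stab_le_autStab _ hσ))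

theorem st0' {Ω : Type*} [Group Ω] {g : ℕ → Ω} {D : QD} {Q : Subgroup Ω} (C : Ctx g D Q) {B : Subgroup (Perm Ω)}
    {ν : Perm Ω} (h : ν ∈ B) {n : ℕ} (e : C.mk' ν = n) {p : ℕ × ℕ} : C.St B n 0 [p] :=
  ⟨ν, h, e, p, List.mem_singleton_self p, fun _ hi => absurd hi (Nat.not_lt_zero _)⟩

theorem nuL {B : Subgroup (Perm (U K))} (hB : Az QL B) : ∃ ν ∈ B, ∃ k ∈ TL, (ctxL hK).Key ν k DL.d := by
  have C := ctxL hK
  obtain ⟨ν, h, e⟩ := C.exists_nu cLM hB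
  rcases List.mem_pair.1 e with e | e
  · exact C.fin cLG cLaF hB (C.step cLa2 hB (C.step cLa1 hB (C.step cLa0 hB (st0' hK C h e))))
  · exact C.fin cLG cLbF hB (C.step cLb2 hB (C.step cLb1 hB (C.step cLb0 hB (st0' hK C h e))))

theorem nuS {B : Subgroup (Perm (U K))} (hB : Az QS B) : ∃ ν ∈ B, ∃ k ∈ TS, (ctxS hK).Key ν k DS.d := by
  have C := ctxS hK
  obtain ⟨ν, h, e⟩ := C.exists_nu cSM hB
  rcases List.mem_pair.1 e with e | e
  · exact C.fin cSG cSaF hB (C.step cSa4 hB (C.step cSa3 hB (C.step cSa2 hB (C.step cSa1 hB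
      (C.step cSa0 hB (st0' hK C h e))))))
  · exact C.fin cSG cSbF hB (C.step cSb4 hB (C.step cSb3 hB (C.step cSb2 hB (C.step cSb1 hB
      (C.step cSb0 hB (st0' hK C h e))))))

/-- standard systems -/
structure Std (F : FusionSystem (⊤ : Subgroup (U K))) : Prop where
  sat : F.IsSaturated 2
  eL : F.IsEssential 2 QL
  eS : F.IsEssential 2 QS
  kL : ∃ ν ∈ F.stab QL, (ctxL hK).Key ν tL DL.d
  kS : ∃ ν ∈ F.stab QS, (ctxS hK).Key ν tS DS.d

omit hK in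
theorem le_key {Q : Subgroup (U K)} {D : QD} (C : Ctx (gU K) D Q) {X : MD} (hX : D.okM X = true)
    (hG : trunc D.G D.d = D.G) {t : ℕ} (hn : build 5 (fun i => D.pr (gk t i)) D.d = X.n)
    {B B' : Subgroup (Perm (U K))} (hB : Az Q B) (hB' : Az Q B') (h : ∃ ν ∈ B, C.Key ν t D.d)
    (h' : ∃ ν ∈ B', C.Key ν t D.d) : B ≤ B' := by
  obtain ⟨ν, h1, h2⟩ := h
  obtain ⟨ν', h3, h4⟩ := h'
  refine C.le_of_nu hX hB hB' h1 (mem_of_congr ((fixP_le_innS ⊤ Q).trans hB'.inn) h3 fun x hx =>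
    C.key_eq hG (hB.aut h1) (hB'.aut h3) h2 h4 hx) (hn ▸ build_congr fun i hi => ?_)
  rw [h2 i hi, C.π_ev (gk_lt _ _)]

theorem Std.le [ESS] (h : Std hK F) (h0 : Std hK F0) : F ≤ F0 := by
  haveI : Fact (Nat.Prime 2) := ⟨Nat.prime_two⟩
  haveI := (pcU hK).finite
  refine h.sat.le_of_essential ((pcU hK).isPGroup.to_subgroup ⊤) fun P σ hP hσ =>
    ((mem_stab le_top).1 (?_ : σ ∈ F0.stab P)).isMap
  rcases hP with rfl | hP
  · exact F0.innS_le_stab le_top (top_inn hK h.sat ▸ hσ.mem_stab)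
  rcases ESS.out h.sat P hP with rfl | rfl
  · exact le_key (ctxL hK) cLM cLG cLn (az hK h.sat h.eL) (az hK h0.sat h0.eL) h.kL h0.kL hσ.mem_stab
  · exact le_key (ctxS hK) cSM cSG cSn (az hK h.sat h.eS) (az hK h0.sat h0.eS) h.kS h0.kS hσ.mem_stab

theorem exists_std (hF : F.IsSaturated 2) (hL : F.IsEssential 2 QL) (hS : F.IsEssential 2 QS) :
    ∃ θ θ', ∃ F' : FusionSystem (⊤ : Subgroup (U K)), L.Transp ⊤ ⊤ θ θ' F F' ∧ Std hK F' := by
  haveI : Fact (Nat.Prime 2) := ⟨Nat.prime_two⟩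
  haveI := (pcU hK).finite
  obtain ⟨ν, h1, a, ha, h2⟩ := nuL hK (az hK hF hL)
  obtain ⟨μ, h3, b, hb, h4⟩ := nuS hK (az hK hF hS)
  obtain ⟨p, hp, e⟩ := anyl_iff.1 (alll_iff.1 (alll_iff.1 cP' a ha) b hb)
  have hq := alll_iff.1 cP p hp
  simp only [okQ, frc_eq, Bool.and_eq_true, beq_iff] at e hq
  obtain ⟨rfl, rfl⟩ := e
  obtain ⟨⟨⟨⟨q1, q2⟩, q3⟩, q4⟩, q5⟩ := hq
  obtain ⟨α, hα, e⟩ := (pcU hK).exists_aut q1
  have t0 : L.PIso ⊤ ⊤ α ⇑α⁻¹ :=
    ⟨hα.1, fun _ _ => trivial, fun _ _ => trivial, fun x _ => iapp α x, fun x _ => appi α x⟩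
  obtain ⟨F', t⟩ := t0.exists_transp le_rfl F t0.img_self
  have hF' := t.isSaturated hF
  have key : ∀ {Q : Subgroup (U K)} {D : QD} (C : Ctx (gU K) D Q), F.IsEssential 2 Q → D.okS (p.getD 2 0) = true →
      F'.IsEssential 2 Q ∧ ∀ ν ∈ F.stab Q, ∀ s t, cj s * (α * ν * α⁻¹) * cj t ∈ F'.stab Q := by
    intro Q D C hE hs
    have hs := C.aut_mem hα e hs
    have hi := (hα.1.mem_setStab_iff le_top).1 hs
    have hE' : F'.IsEssential 2 Q := hi ▸ t.isEssential hE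
    refine ⟨hE', fun ν hν s r => mul_mem (mul_mem ((az hK hF' hE').inn (C.cj_inn s)) (Iso.mem_stab ?_))
      ((az hK hF' hE').inn (C.cj_inn r))⟩
    have := t.map ((mem_stab le_top).1 hν).isMap
    rw [hi] at this
    exact IsMap.iso_of_setStab this (mul_mem (mul_mem hs (F.stab_le_setStab Q hν)) (inv_mem hs))
  obtain ⟨l1, l2⟩ := key (ctxL hK) hL q2
  obtain ⟨s1, s2⟩ := key (ctxS hK) hS q3
  exact ⟨_, _, F', t, hF', l1, s1, ⟨_, l2 ν h1 _ _, (ctxL hK).key_transp cLG e (F.stab_le_autStab _ h1) h2 q4⟩,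
    _, s2 μ h3 _ _, (ctxS hK).key_transp cSG e (F.stab_le_autStab _ h3) h4 q5⟩

omit hK in
instance instD2 [ESS] : D2 where
  out {K} _ _ _ hc F F0 hF hF0 hL hS hL0 hS0 := by
    have hK : Nat.card K = 2 := (Nat.card_eq_two_iff' (0 : K)).2
      ⟨1, one_ne_zero, fun y hy => (hc y).resolve_left hy⟩
    obtain ⟨θ, θ', F', t, h⟩ := exists_std hK hF hL hS
    obtain ⟨η, η', F1, t', h'⟩ := exists_std hK hF0 hL0 hS0
    obtain rfl := eq_of_le_of_ge (h.le hK h') (h'.le hK h)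
    exact ⟨_, _, t.trans t'.symm⟩

end Cfsg.Agent.Rf.D
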