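import Cfsg.Agent.Rf.M1

/-! Collection in the unipotent group of `F₄` in characteristic `2`. -/

set_option autoImplicit false

namespace Cfsg.Agent.Rf

open U

/-- the positive roots, class by class -/
def ord : List ℕ := [27, 25, 28, 30, 37, 32, 35, 31, 40, 46, 39, 45, 29, 41, 44, 47, 38, 43, 34, 26, 36, 42, 33, 24]

def pos (r : ℕ) : ℕ := (0x8298f959c95c4b53cee6411a30d058000000000000000000000000000000 >>> (5 * r)) % 32

def sw (r s : ℕ) : Bool := Nat.blt 0 (pos s) && Nat.blt (pos s) (pos r)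

def TB : List (ℕ × ℕ × List (ℕ × ℕ × ℕ)) :=
  [(25, 27, [(28, 1, 1), (30, 2, 1)]), (35, 27, [(37, 1, 1)]), (31, 25, [(32, 1, 1)]),
   (31, 35, [(40, 1, 1), (46, 2, 1)]), (39, 27, [(40, 1, 1)]), (45, 25, [(46, 1, 1)]), (29, 37, [(40, 1, 1)]),
   (29, 35, [(39, 1, 1)]), (41, 32, [(46, 1, 1)]), (41, 31, [(45, 1, 1)]), (41, 29, [(44, 1, 1), (47, 2, 1)]),
   (38, 25, [(39, 1, 1), (47, 1, 2)]), (38, 28, [(40, 1, 1)]), (38, 35, [(44, 1, 1)]),
   (43, 27, [(44, 1, 1), (45, 2, 1)]), (43, 30, [(46, 1, 1)]), (43, 31, [(47, 1, 1)]),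
   (34, 25, [(35, 1, 1), (41, 1, 2)]), (34, 28, [(37, 1, 1)]), (34, 32, [(40, 1, 1), (45, 1, 2)]),
   (34, 39, [(44, 1, 1)]), (34, 29, [(38, 1, 1)]), (26, 27, [(29, 1, 1), (31, 2, 1)]), (26, 30, [(32, 1, 1)]),
   (26, 37, [(39, 1, 1), (46, 2, 1)]), (26, 45, [(47, 1, 1)]), (26, 41, [(43, 1, 1)]),
   (26, 34, [(36, 1, 1), (42, 2, 1)]), (36, 27, [(38, 1, 1)]), (36, 28, [(39, 1, 1)]),
   (36, 30, [(40, 1, 1), (47, 1, 2)]), (36, 37, [(44, 1, 1)]), (42, 25, [(43, 1, 1)]),
   (42, 28, [(44, 1, 1), (46, 2, 1)]), (42, 30, [(45, 1, 1)]), (42, 32, [(47, 1, 1)]), (33, 27, [(34, 1, 1)]),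
   (33, 28, [(35, 1, 1)]), (33, 30, [(37, 1, 1), (41, 1, 2)]), (33, 32, [(39, 1, 1), (43, 1, 2)]),
   (33, 31, [(38, 1, 1), (42, 1, 2)]), (33, 40, [(44, 1, 1)]), (33, 29, [(36, 1, 1)]), (24, 25, [(26, 1, 1)]),
   (24, 28, [(29, 1, 1), (32, 2, 1)]), (24, 30, [(31, 1, 1)]), (24, 37, [(38, 1, 1), (45, 2, 1)]),
   (24, 35, [(36, 1, 1), (43, 2, 1)]), (24, 46, [(47, 1, 1)]), (24, 41, [(42, 1, 1)])]

def tab (r s : ℕ) : List (ℕ × ℕ × ℕ) := ((TB.find? fun e => Nat.beq e.1 r && Nat.beq e.2.1 s).map (·.2.2)).getD []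

section
variable {A B : Type*} (ad mu : A → A → A)

def mon (e : ℕ × ℕ × ℕ) (p q : A) : A :=
  cond (Nat.beq e.2.1 2) (mu q (mu q p)) (cond (Nat.beq e.2.2 2) (mu q (mu p p)) (mu q p))

/-- left multiplication of a collected word by a root element -/
def ins : ℕ → ℕ → A → List (ℕ × A) → List (ℕ × A)
  | n + 1, r, p, (s, q) :: w => cond (Nat.beq r s) ((r, ad p q) :: w) (cond (sw r s)
      ((s, q) :: ins n r p ((tab r s).foldr (fun e l => ins n e.1 (mon mu e p q) l) w)) ((r, p) :: (s, q) :: w))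
  | _, r, p, w => (r, p) :: w

def col (w w' : List (ℕ × A)) : List (ℕ × A) := w.foldr (fun e l => ins ad mu 30 e.1 e.2 l) w'

variable {ad mu} {ad' mu' : B → B → B} {f : A → B} (h1 : ∀ p q, f (ad p q) = ad' (f p) (f q))
  (h2 : ∀ p q, f (mu p q) = mu' (f p) (f q))
include h1 h2

theorem ins_map (n r : ℕ) (p : A) (w : List (ℕ × A)) :
    (ins ad mu n r p w).map (Prod.map id f) = ins ad' mu' n r (f p) (w.map (Prod.map id f)) := by
  induction n generalizing r p w with
  | zero => simp [ins]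
  | succ n ih =>
    obtain _ | ⟨⟨s, q⟩, w⟩ := w
    · simp [ins]
    have k : ∀ l : List (ℕ × ℕ × ℕ), (l.foldr (fun e l => ins ad mu n e.1 (mon mu e p q) l) w).map (Prod.map id f) =
        l.foldr (fun e l => ins ad' mu' n e.1 (mon mu' e (f p) (f q)) l) (w.map (Prod.map id f)) := fun l => by
      induction l with
      | nil => rfl
      | cons e l ih' =>
        rw [List.foldr_cons, List.foldr_cons, ih, ih', show f (mon mu e p q) = mon mu' e (f p) (f q) by
          simp only [mon, Bool.apply_cond f, h2]]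
    simp only [ins, List.map_cons, Prod.map_apply, id, Bool.apply_cond (List.map _), ih, h1, k]

theorem col_map (w w' : List (ℕ × A)) :
    (col ad mu w w').map (Prod.map id f) = col ad' mu' (w.map (Prod.map id f)) (w'.map (Prod.map id f)) := by
  induction w with
  | nil => rfl
  | cons e w ih => exact (ins_map h1 h2 ..).trans (congrArg _ ih)

end

variable {K G : Type*} [Field K] [Group G] {x : ℕ → K → G}

def evW (x : ℕ → K → G) (w : List (ℕ × K)) : G := (w.map fun e => x e.1 e.2).prod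

/-- the commutator relations of the positive root elements -/
structure FR (x : ℕ → K → G) : Prop where
  add : ∀ r t u, x r (t + u) = x r t * x r u
  rel : ∀ r s, sw r s = true → ∀ t u, x r u * x s t = x s t * x r u *
    ((tab r s).map fun e => x e.1 (mon (· * ·) e u t)).prod

omit [Field K] in
theorem evW_cons (e : ℕ × K) (w : List (ℕ × K)) : evW x (e :: w) = x e.1 e.2 * evW x w := List.prod_cons

theorem FR.ins (h : FR x) (n r : ℕ) (p : K) (w : List (ℕ × K)) :
    evW x (ins (· + ·) (· * ·) n r p w) = x r p * evW x w := by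
  induction n generalizing r p w with
  | zero => simp [Rf.ins, evW_cons]
  | succ n ih =>
    obtain _ | ⟨⟨s, q⟩, w⟩ := w
    · simp [Rf.ins, evW_cons]
    have k : ∀ l : List (ℕ × ℕ × ℕ), evW x (l.foldr (fun e l => Rf.ins (· + ·) (· * ·) n e.1 (mon (· * ·) e p q) l) w) =
        (l.map fun e => x e.1 (mon (· * ·) e p q)).prod * evW x w := fun l => by
      induction l with
      | nil => simp
      | cons e l ih' => rw [List.foldr_cons, ih, ih', List.map_cons, List.prod_cons, mul_assoc]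
    rw [Rf.ins]
    cases e : Nat.beq r s
    · cases e' : sw r s
      · exact evW_cons ..
      · simp only [cond_false, cond_true, evW_cons, ih, k, ← mul_assoc, h.rel r s e']
    · obtain rfl := Nat.eq_of_beq_eq_true e
      simp only [cond_true, evW_cons, h.add, mul_assoc]

theorem FR.col (h : FR x) (w w' : List (ℕ × K)) : evW x (col (· + ·) (· * ·) w w') = evW x w * evW x w' := by
  induction w with
  | nil => exact (one_mul _).symm
  | cons e w ih => exact (h.ins ..).trans (by rw [evW_cons, mul_assoc, ← ih]; rfl)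

theorem shape {r : ℕ} (hr : r ∈ ord) (t : K) {w : List (ℕ × K)} (hw : w.map (·.1) = ord) :
    (ins (· + ·) (· * ·) 30 r t w).map (·.1) = ord := by
  have h := congrArg (List.map (·.1)) (ins_map (ad := (· + ·)) (mu := (· * ·)) (f := fun _ => ()) (ad' := fun _ _ => ())
    (mu' := fun _ _ => ()) (fun _ _ => rfl) (fun _ _ => rfl) 30 r t w)
  rw [show w.map (Prod.map id fun _ => ()) = ord.map (·, ()) by rw [← hw, List.map_map]; rfl, List.map_map] at h
  exact h.trans ((by decide +kernel : ∀ r ∈ ord,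
    (ins (fun _ _ => ()) (fun _ _ => ()) 30 r () (ord.map (·, ()))).map (·.1) = ord) r hr)

/-! polynomials over `𝔽₂` -/

def inM (i : ℕ) : List ℕ → List ℕ
  | [] => [i]
  | j :: m => cond (Nat.ble i j) (i :: j :: m) (j :: inM i m)

def ltM : List ℕ → List ℕ → Bool
  | i :: m, j :: n => Nat.blt i j || (Nat.beq i j && ltM m n)
  | _, n => !n.isEmpty

def inP (m : List ℕ) : List (List ℕ) → List (List ℕ)
  | [] => [m]
  | n :: p => if m = n then p else cond (ltM m n) (m :: n :: p) (n :: inP m p)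

def adP (p q : List (List ℕ)) : List (List ℕ) := p.foldr inP q
def muP (p q : List (List ℕ)) : List (List ℕ) := p.foldr (fun m l => q.foldr (fun n l => inP (m.foldr inM n) l) l) []
def phM (m : List ℕ) : List ℕ := m.foldr (fun i l => if i % 2 = 0 then inM (i + 1) l else inM (i - 1) (inM (i - 1) l)) []
def phP (p : List (List ℕ)) : List (List ℕ) := p.foldr (fun m l => inP (phM m) l) []
def evP (ρ : ℕ → K) (p : List (List ℕ)) : K := (p.map fun m => (m.map ρ).prod).sum

variable [TF K] {ρ : ℕ → K}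

omit [TF K] in
theorem ev_inM (i : ℕ) (m : List ℕ) : ((inM i m).map ρ).prod = ρ i * (m.map ρ).prod := by
  induction m with
  | nil => simp [inM]
  | cons j m ih => cases e : Nat.ble i j <;> simp [inM, e, ih, mul_left_comm]

theorem ev_inP (m : List ℕ) (p : List (List ℕ)) : evP ρ (inP m p) = (m.map ρ).prod + evP ρ p := by
  induction p with
  | nil => simp [inP, evP]
  | cons n p ih =>
    rw [inP]
    split_ifs with e
    · simp [evP, e, ← add_assoc, CharTwo.add_self_eq_zero]
    · cases ltM m n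
      · exact (congrArg (_ + ·) ih).trans (add_left_comm ..)
      · rfl

theorem ev_adP (p q : List (List ℕ)) : evP ρ (adP p q) = evP ρ p + evP ρ q := by
  induction p with
  | nil => exact (zero_add _).symm
  | cons m p ih => exact (ev_inP ..).trans ((congrArg (_ + ·) ih).trans (add_assoc ..).symm)

theorem ev_muP (p q : List (List ℕ)) : evP ρ (muP p q) = evP ρ p * evP ρ q := by
  have k1 : ∀ m n : List ℕ, ((m.foldr inM n).map ρ).prod = (m.map ρ).prod * (n.map ρ).prod := fun m n => by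
    induction m <;> simp [ev_inM, mul_assoc, *]
  have k2 : ∀ (m : List ℕ) l, evP ρ (q.foldr (fun n l => inP (m.foldr inM n) l) l) =
      (m.map ρ).prod * evP ρ q + evP ρ l := fun m l => by
    induction q with
    | nil => simp [evP]
    | cons n q ih => rw [List.foldr_cons, ev_inP, ih, k1, ← add_assoc, ← mul_add]; rfl
  induction p with
  | nil => exact (zero_mul _).symm
  | cons m p ih => exact (k2 ..).trans ((congrArg (_ + ·) ih).trans (add_mul ..).symm)

theorem ev_phP (h : ∀ i, φ (ρ i) = if i % 2 = 0 then ρ (i + 1) else ρ (i - 1) ^ 2) (p : List (List ℕ)) :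
    evP ρ (phP p) = φ (evP ρ p) := by
  have k : ∀ m : List ℕ, ((phM m).map ρ).prod = φ (m.map ρ).prod := fun m => by
    induction m with
    | nil => simp [phM]
    | cons i m ih =>
      rw [phM, List.foldr_cons, List.map_cons, List.prod_cons, map_mul, h, ← ih]
      split_ifs <;> simp only [ev_inM, sq, mul_assoc, phM]
  induction p with
  | nil => exact (map_zero φ).symm
  | cons m p ih => exact (ev_inP ..).trans ((congrArg₂ (· + ·) (k m) ih).trans (map_add φ ..).symm)

/-- the word of an element with coordinates `p` -/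
def emb {A : Type*} (ad mu : A → A → A) (ph : A → A) (p : ℕ → A) : List (ℕ × A) :=
  [(27, p 0), (25, ph (p 0)), (28, ad (mu (p 0) (ph (p 0))) (p 1)), (30, ph (p 1)), (37, p 2), (32, ph (p 2)),
   (35, p 3), (31, ph (p 3)), (40, ad (mu (p 3) (ph (p 3))) (p 4)), (46, ph (p 4)), (39, p 5), (45, ph (p 5)),
   (29, p 6), (41, ph (p 6)), (44, ad (mu (p 6) (ph (p 6))) (p 7)), (47, ph (p 7)), (38, p 8), (43, ph (p 8)),
   (34, p 9), (26, ph (p 9)), (36, ad (mu (p 9) (ph (p 9))) (p 10)), (42, ph (p 10)), (33, p 11), (24, ph (p 11))]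

def crd (u : U K) (i : ℕ) : K := [u.y1, u.x1, u.x2, u.y3, u.x3, u.x4, u.y5, u.x5, u.x6, u.y7, u.x7, u.x8].getD i 0

def wd (u : U K) : List (ℕ × K) := emb (· + ·) (· * ·) φ (crd u)

def PL : List (List (List ℕ)) :=
  [[[0], [24]],
   [[0, 25], [2], [26]],
   [[4], [6, 24], [18, 24, 25], [18, 26], [22, 24, 24, 25], [22, 24, 26], [22, 27], [28]],
   [[6], [18, 25], [22, 26], [30]],
   [[6, 19, 24, 24], [6, 23, 27], [6, 31], [8], [10, 24], [12, 18, 24, 25], [12, 18, 26], [12, 22, 24, 24, 25],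
    [12, 22, 24, 26], [12, 22, 27], [12, 28], [16, 24, 25], [16, 26], [18, 19, 24, 24, 25], [18, 19, 24, 26],
    [18, 23, 24, 24, 25, 25], [18, 23, 26, 26], [18, 25, 31], [18, 29], [19, 22, 24, 24, 24, 25],
    [19, 22, 24, 24, 26], [19, 22, 24, 27], [19, 24, 28], [20, 24, 24, 25], [20, 24, 26], [20, 27],
    [22, 23, 24, 24, 24, 25, 25], [22, 23, 24, 25, 27], [22, 23, 24, 26, 26], [22, 23, 26, 27], [22, 24, 29],
    [22, 26, 31], [23, 24, 25, 28], [23, 26, 28], [32]],
   [[10], [12, 18, 25], [12, 22, 26], [12, 30], [16, 25], [18, 19, 26], [19, 22, 24, 24, 25], [19, 22, 27],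
    [19, 24, 30], [19, 28], [20, 26], [22, 23, 24, 24, 25, 25], [22, 23, 25, 27], [22, 23, 26, 26], [22, 29],
    [23, 24, 25, 30], [23, 25, 28], [23, 26, 30], [34]],
   [[12], [19, 24], [23, 24, 25], [23, 26], [36]],
   [[12, 18, 18, 25], [12, 22, 22, 24, 24, 25], [12, 22, 22, 27], [12, 37], [14], [16, 18, 25], [16, 22, 26],
    [16, 30], [17, 24], [18, 18, 19, 26], [18, 20, 26], [18, 22, 23, 24, 24, 25, 25], [18, 22, 23, 25, 27],
    [18, 22, 23, 26, 26], [18, 22, 29], [18, 23, 24, 25, 30], [18, 23, 25, 28], [18, 23, 26, 30], [18, 34],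
    [19, 22, 22, 24, 24, 24, 25], [19, 22, 22, 24, 27], [19, 24, 37], [20, 22, 24, 24, 25], [20, 22, 27],
    [20, 24, 30], [20, 28], [21, 24, 25], [21, 26], [22, 22, 23, 24, 24, 24, 25, 25], [22, 22, 23, 24, 25, 27],
    [22, 22, 23, 24, 26, 26], [22, 22, 24, 29], [22, 23, 24, 24, 25, 30], [22, 23, 24, 26, 30], [22, 23, 26, 28],
    [22, 23, 27, 30], [22, 24, 34], [22, 30, 31], [22, 32], [23, 24, 25, 37], [23, 26, 37], [23, 28, 30], [38]],
   [[16], [18, 23, 24, 25], [18, 23, 26], [18, 36], [20, 24], [22, 23, 24, 24, 25], [22, 23, 24, 26], [22, 23, 27],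
    [22, 24, 36], [22, 31], [23, 28], [40]],
   [[18], [22, 24], [42]],
   [[18, 23, 25], [18, 43], [20], [22, 23, 26], [22, 24, 43], [22, 36], [23, 30], [44]],
   [[22], [46]]]

theorem col_PL : col adP muP (emb adP muP phP fun i => [[2 * i]]) (emb adP muP phP fun i => [[2 * i + 24]]) =
    emb adP muP phP (PL.getD · []) := by decide +kernel

set_option maxHeartbeats 2000000 in
theorem col_wd (a b : U K) : col (· + ·) (· * ·) (wd a) (wd b) = wd (a * b) := by
  let v : ℕ → K := fun i => if i < 12 then crd a i else crd b (i - 12)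
  let ρ : ℕ → K := fun i => if i % 2 = 0 then v (i / 2) else φ (v (i / 2))
  have hρ : ∀ i, φ (ρ i) = if i % 2 = 0 then ρ (i + 1) else ρ (i - 1) ^ 2 := fun i => by
    simp only [ρ]
    split_ifs with h1 h2 h2
    · omega
    · rw [show (i + 1) / 2 = i / 2 by omega]
    · rw [show (i - 1) / 2 = i / 2 by omega, φφ]
    · omega
  have k : ∀ (p : ℕ → List (List ℕ)) (u : U K), (∀ i : Fin 12, evP ρ (p i) = crd u i) →
      (emb adP muP phP p).map (Prod.map id (evP ρ)) = wd u := fun p u h => by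
    simp only [Fin.forall_fin_succ, Fin.val_succ, Fin.val_zero, Nat.reduceAdd] at h
    simp only [wd, emb, List.map, Prod.map_apply, id, ev_adP, ev_muP, ev_phP hρ, h]
  have h := (congrArg (List.map (Prod.map id (evP ρ))) col_PL).symm.trans (col_map (ev_adP (ρ := ρ)) ev_muP _ _)
  refine ((congrArg₂ _ (k _ a fun i => by simp [evP, ρ, v]) (k _ b fun i => ?_)).symm.trans h.symm).trans (k _ _ ?_)
  · simp [evP, ρ, v, Nat.add_mod, show (2 * i.1 + 24) / 2 = i + 12 by omega]
  · simp only [Fin.forall_fin_succ, Fin.val_succ, Fin.val_zero, PL, List.getD_cons_succ,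
      List.getD_cons_zero, evP, List.map, List.sum_cons, List.prod_cons, List.sum_nil, List.prod_nil, ρ, v, crd,
      Nat.reduceMod, Nat.reduceDiv, Nat.reduceSub, Nat.reduceLT, Nat.reduceEqDiff, if_true, if_false, IsEmpty.forall_iff,
      and_true]
    usimp
    refine ⟨?_, ?_, ?_, ?_, ?_, ?_, ?_, ?_, ?_, ?_, ?_, ?_⟩ <;> first | ring1 | trivial

/-- the embedding of the model -/
def FR.J (h : FR x) : U K →* G := MonoidHom.mk' (fun u => evW x (wd u)) fun a b => by rw [← col_wd, h.col]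

end Cfsg.Agent.Rf
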