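import Cfsg.Agent.Rf.L1
import Cfsg.Agent.Ab.F4

/-! The commutator relations of `F₄` in characteristic `2`: what is to be checked. -/

set_option autoImplicit false
set_option maxRecDepth 100000

namespace Cfsg.Agent.Rf

open Cfsg.Lie Cfsg.Agent.Lt Cfsg.Agent.Lt.H2

def rtF (n : ℕ) : Fin chevF4.nroots := ⟨n % 48, Nat.mod_lt _ (by decide)⟩

def ROK (r s : ℕ) : Prop := sw r s = true → (∀ e ∈ tab r s, e.2 = (1, 1) ∨ e.2 = (2, 1) ∨ e.2 = (1, 2)) ∧
  RelOK tabF4.co 2 1 (rtF s) (rtF r) ((tab r s).map fun e => (rtF e.1, 1, e.2))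

instance decROK (r s : ℕ) : Decidable (ROK r s) := by unfold ROK; infer_instance

end Cfsg.Agent.Rf
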