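import Cfsg.Agent.Rf.L2

/-! The commutator relations of `F₄` in characteristic `2`, checked. -/

set_option autoImplicit false
set_option maxRecDepth 100000

namespace Cfsg.Agent.Rf

theorem rok27 : ∀ s ∈ ord, ROK 27 s := by decide +kernel
theorem rok25 : ∀ s ∈ ord, ROK 25 s := by decide +kernel
theorem rok28 : ∀ s ∈ ord, ROK 28 s := by decide +kernel
theorem rok30 : ∀ s ∈ ord, ROK 30 s := by decide +kernel
theorem rok37 : ∀ s ∈ ord, ROK 37 s := by decide +kernel
theorem rok32 : ∀ s ∈ ord, ROK 32 s := by decide +kernel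
theorem rok35 : ∀ s ∈ ord, ROK 35 s := by decide +kernel
theorem rok31 : ∀ s ∈ ord, ROK 31 s := by decide +kernel
theorem rok40 : ∀ s ∈ ord, ROK 40 s := by decide +kernel
theorem rok46 : ∀ s ∈ ord, ROK 46 s := by decide +kernel
theorem rok39 : ∀ s ∈ ord, ROK 39 s := by decide +kernel
theorem rok45 : ∀ s ∈ ord, ROK 45 s := by decide +kernel
theorem rok29 : ∀ s ∈ ord, ROK 29 s := by decide +kernel
theorem rok41 : ∀ s ∈ ord, ROK 41 s := by decide +kernel

end Cfsg.Agent.Rf
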