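import Cfsg.Agent.Rf.L2

/-! The commutator relations of `F₄` in characteristic `2`, checked. -/

set_option autoImplicit false
set_option maxRecDepth 100000

namespace Cfsg.Agent.Rf

theorem rok44 : ∀ s ∈ ord, ROK 44 s := by decide +kernel
theorem rok47 : ∀ s ∈ ord, ROK 47 s := by decide +kernel
theorem rok38 : ∀ s ∈ ord, ROK 38 s := by decide +kernel
theorem rok43 : ∀ s ∈ ord, ROK 43 s := by decide +kernel
theorem rok34 : ∀ s ∈ ord, ROK 34 s := by decide +kernel

end Cfsg.Agent.Rf
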