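import Cfsg.Agent.Rf.L2

/-! The commutator relations of `F₄` in characteristic `2`, checked. -/

set_option autoImplicit false
set_option maxRecDepth 100000

namespace Cfsg.Agent.Rf

theorem rok26 : ∀ s ∈ ord, ROK 26 s := by decide +kernel
theorem rok36 : ∀ s ∈ ord, ROK 36 s := by decide +kernel
theorem rok42 : ∀ s ∈ ord, ROK 42 s := by decide +kernel
theorem rok33 : ∀ s ∈ ord, ROK 33 s := by decide +kernel
theorem rok24 : ∀ s ∈ ord, ROK 24 s := by decide +kernel

end Cfsg.Agent.Rf
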