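import Cfsg.Agent.Rf.L2a
import Cfsg.Agent.Rf.L2b
import Cfsg.Agent.Rf.L2c

/-! The model is the group of fixed points in the unipotent group of `F₄`. -/

set_option autoImplicit false
set_option maxRecDepth 100000
set_option linter.unusedSectionVars false

namespace Cfsg.Agent.Rf

open Subgroup Cfsg.Lie Cfsg.Agent.Lt Cfsg.Agent.Lt.Tw Cfsg.Agent.Lt.Gra Cfsg.Agent.Lt.H2 U

theorem fn_of {A : Type*} [Zero A] {l : List ℕ} (hl : l.Nodup) {w : List (ℕ × A)} (hw : w.map (·.1) = l) :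
    ∃ t : ℕ → A, w = l.map fun r => (r, t r) := by
  subst hw
  induction w with
  | nil => exact ⟨0, rfl⟩
  | cons e w ih =>
    obtain ⟨h1, h2⟩ := List.nodup_cons.1 hl
    obtain ⟨t, ht⟩ := ih h2
    refine ⟨Function.update t e.1 e.2, ?_⟩
    rw [List.map_cons, List.map_cons, Function.update_self, List.map_congr_left (g := fun r => (r, t r))
      fun r hr => by rw [Function.update_of_ne (by rintro rfl; exact h1 hr)], ← ht]

section
variable {K G : Type*} [Field K] [TF K] [Group G] {x : ℕ → K → G}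

theorem FR.zero (h : FR x) (r : ℕ) : x r 0 = 1 := by simpa using h.add r 0 0

/-- the twisting map on letters -/
def sgm (e : ℕ × K) : ℕ × K :=
  (barF4L.getD (e.1 % 48) 0, cond (Nat.beq (lamF4L.getD (e.1 % 48) 0) 2) (φ e.2) (φ.symm e.2))

def sgw (t : ℕ → K) : List (ℕ × K) :=
  [(27, φ.symm (t 25)), (25, φ (t 27)), (28, φ.symm (t 25) * φ (t 27) + φ.symm (t 30)),
   (30, φ.symm (t 25) * (φ.symm (t 25) * φ (t 27)) + φ (t 28)), (37, φ.symm (t 32)), (32, φ (t 37)),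
   (35, φ.symm (t 31)), (31, φ (t 35)), (40, φ.symm (t 31) * φ (t 35) + φ.symm (t 46)),
   (46, φ.symm (t 31) * (φ.symm (t 31) * φ (t 35)) + φ (t 40)), (39, φ.symm (t 45)), (45, φ (t 39)),
   (29, φ.symm (t 41)), (41, φ (t 29)), (44, φ.symm (t 41) * φ (t 29) + φ.symm (t 47)),
   (47, φ.symm (t 41) * (φ.symm (t 41) * φ (t 29)) + φ (t 44)), (38, φ.symm (t 43)), (43, φ (t 38)),
   (34, φ.symm (t 26)), (26, φ (t 34)), (36, φ.symm (t 26) * φ (t 34) + φ.symm (t 42)),
   (42, φ.symm (t 26) * (φ.symm (t 26) * φ (t 34)) + φ (t 36)), (33, φ.symm (t 24)), (24, φ (t 33))]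

def sgG {A : Type*} (ad mu : A → A → A) (t : ℕ → A) : List (ℕ × A) :=
  [(27, t 25), (25, t 27), (28, ad (mu (t 25) (t 27)) (t 30)), (30, ad (mu (t 25) (mu (t 25) (t 27))) (t 28)),
   (37, t 32), (32, t 37), (35, t 31), (31, t 35), (40, ad (mu (t 31) (t 35)) (t 46)),
   (46, ad (mu (t 31) (mu (t 31) (t 35))) (t 40)), (39, t 45), (45, t 39), (29, t 41), (41, t 29),
   (44, ad (mu (t 41) (t 29)) (t 47)), (47, ad (mu (t 41) (mu (t 41) (t 29))) (t 44)), (38, t 43), (43, t 38),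
   (34, t 26), (26, t 34), (36, ad (mu (t 26) (t 34)) (t 42)), (42, ad (mu (t 26) (mu (t 26) (t 34))) (t 36)),
   (33, t 24), (24, t 33)]

theorem col_sg : col adP muP (ord.map fun r => (barF4L.getD (r % 48) 0, [[r]])) [] = sgG adP muP fun r => [[r]] := by
  decide +kernel

theorem FR.sg (h : FR x) (t : ℕ → K) : evW x ((ord.map fun r => (r, t r)).map sgm) = evW x (sgw t) := by
  have k := (congrArg (List.map (Prod.map id (evP fun r => (sgm (r, t r)).2))) col_sg).symm.trans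
    (col_map ev_adP ev_muP _ _)
  have e : ∀ (ρ : ℕ → K) r, evP ρ [[r]] = ρ r := fun ρ r => by simp [evP]
  simp only [sgG, List.map_cons, List.map_nil, List.map_map, Function.comp_def, Prod.map_apply, id, ev_adP, ev_muP,
    e] at k
  rw [List.map_map]
  exact ((h.col _ []).trans (mul_one _)).symm.trans (congrArg _ k.symm)

theorem sgw_wd (u : U K) : ∃ t, wd u = (ord.map fun r => (r, t r)) ∧ sgw t = wd u := by
  obtain ⟨t, ht⟩ := fn_of (by decide) (show (wd u).map (·.1) = ord from rfl)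
  refine ⟨t, ht, ?_⟩
  simp only [wd, emb, ord, List.map, List.cons.injEq, Prod.mk.injEq, true_and, and_true] at ht
  obtain ⟨h0, h1, h2, h3, h4, h5, h6, h7, h8, h9, h10, h11, h12, h13, h14, h15, h16, h17, h18, h19, h20, h21, h22, h23⟩ := ht
  simp only [wd, emb, sgw, List.cons.injEq, Prod.mk.injEq, true_and, and_true, ← h0, ← h1, ← h2, ← h3, ← h4, ← h5, ← h6, ← h7, ← h8, ← h9, ← h10, ← h11, ← h12, ← h13, ← h14, ← h15, ← h16, ← h17, ← h18, ← h19, ← h20, ← h21, ← h22, ← h23,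
    RingEquiv.symm_apply_apply, map_add, map_mul, φφ]
  refine ⟨?_, ?_, ?_, ?_⟩ <;> grind

theorem wd_of {t : ℕ → K} (ht : sgw t = ord.map fun r => (r, t r)) : ∃ u, wd u = ord.map fun r => (r, t r) := by
  refine ⟨⟨t 27, φ.symm (t 30), t 37, t 35, φ.symm (t 46), t 39, t 29, φ.symm (t 47), t 38, t 34, φ.symm (t 42), t 33⟩, ?_⟩
  simp only [sgw, ord, List.map, List.cons.injEq, Prod.mk.injEq, true_and, and_true] at ht
  obtain ⟨h0, h1, h2, h3, h4, h5, h6, h7, h8, h9, h10, h11, h12, h13, h14, h15, h16, h17, h18, h19, h20, h21, h22, h23⟩ := ht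
  simp only [wd, emb, crd, ord, List.map, List.getD_cons_succ, List.getD_cons_zero, RingEquiv.apply_symm_apply,
    List.cons.injEq, Prod.mk.injEq, true_and, and_true]
  simp only [← h2, ← h8, ← h14, ← h20, h0, h6, h12, h18, true_and]
  exact ⟨h1, h5, h7, h11, h13, h17, h19, h23⟩

theorem wd_inj {u w : U K} (h : wd u = wd w) : u = w := by
  simp only [wd, emb, crd, List.getD_cons_succ, List.getD_cons_zero, List.cons.injEq, Prod.mk.injEq, true_and,
    and_true, EmbeddingLike.apply_eq_iff_eq] at h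
  ext <;> simp only [h]

end

variable {K : Type} [Field K] [Finite K]

noncomputable def xf (K : Type) [Field K] (n : ℕ) (t : K) : GL chevF4.Idx K := xu chevF4 K (rtF n) t

theorem rtF_val (r : Fin chevF4.nroots) : rtF r = r := Fin.ext (Nat.mod_eq_of_lt r.2)

theorem pos_mem {r : ℕ} (h : 0 < pos r) : r ∈ ord := by
  by_cases hr : r < 48
  · exact (by decide +kernel : ∀ r < 48, 0 < pos r → r ∈ ord) r hr h
  · rw [pos, Nat.shiftRight_eq_div_pow, Nat.div_eq_of_lt (lt_of_lt_of_le (by norm_num : _ < 2 ^ 240)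
      (Nat.pow_le_pow_right two_pos (by omega)))] at h
    exact absurd h (by decide)

theorem rok {r : ℕ} (hr : r ∈ ord) : ∀ s ∈ ord, ROK r s := by
  simp only [ord, List.mem_cons, List.not_mem_nil, or_false] at hr
  rcases hr with rfl | rfl | rfl | rfl | rfl | rfl | rfl | rfl | rfl | rfl | rfl | rfl | rfl | rfl | rfl | rfl | rfl | rfl | rfl | rfl | rfl | rfl | rfl | rfl
  exacts [rok27, rok25, rok28, rok30, rok37, rok32, rok35, rok31, rok40, rok46, rok39, rok45, rok29, rok41, rok44, rok47,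
    rok38, rok43, rok34, rok26, rok36, rok42, rok33, rok24]

theorem X1_eq (r : Fin chevF4.nroots) (t : K) : X K 1 r t = xu chevF4 K r t := by simp [X]

local notation "𝒰" => XS tabF4.v (xu chevF4 K) (cone (tabF4.v ∘ tabF4.s) Set.univ)

section
variable [CharP K 2]

theorem frF4 : FR (xf K) where
  add _ := ifF4.xu_add K _
  rel r s h t u := by
    have ⟨h1, h2⟩ : 0 < pos s ∧ pos s < pos r := by simpa [sw, Nat.blt_eq] using h
    obtain ⟨a, b⟩ := rok (pos_mem (h1.trans h2)) s (pos_mem h1) h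
    have := (cx (K := K) ifF4 2 (ε := 1) rfl).rel b t u
    simp only [X1_eq, List.map_map] at this
    refine this.trans (congrArg (_ * List.prod ·) (List.map_congr_left fun e he => congrArg (xf K e.1) ?_))
    rcases a _ he with c | c | c <;> simp [mon, c, Nat.beq, sq, mul_assoc]

def sepL : List (ℕ × ℕ × List ℤ) → Bool
  | [] => true
  | a :: l => decide (SepOK tabF4.co a.2 (rtF a.1) (l.map fun b => rtF b.1)) && sepL l

theorem uq_of (l : List (ℕ × ℕ × List ℤ)) (hl : sepL l = true) {w w' : List (ℕ × K)}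
    (h : w.map (·.1) = l.map (·.1)) (h' : w'.map (·.1) = l.map (·.1)) (e : evW (xf K) w = evW (xf K) w') : w = w' := by
  have c := cx (K := K) ifF4 2 (ε := 1) rfl
  induction l generalizing w w' with
  | nil => rw [List.map_eq_nil_iff.1 h, List.map_eq_nil_iff.1 h']
  | cons a l ih =>
    obtain ⟨h1, h2⟩ := Bool.and_eq_true_iff.1 hl
    have m : ∀ w : List (ℕ × K), w.map (·.1) = l.map (·.1) → evW (xf K) w ∈ Uni K tabF4.deg (posW tabF4 a.2) :=
      fun w hw => list_prod_mem fun g hg => by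
        obtain ⟨b, hb, rfl⟩ := List.mem_map.1 hg
        obtain ⟨d, hd, k⟩ := List.mem_map.1 (show b.1 ∈ l.map (·.1) from hw ▸ List.mem_map_of_mem hb)
        rw [xf, ← X1_eq, ← k]
        exact c.mem (of_decide_eq_true h1) (List.mem_map_of_mem hd) _
    obtain ⟨⟨r, t⟩, w, rfl, rfl, k⟩ := List.map_eq_cons_iff.1 h
    obtain ⟨⟨r', t'⟩, w', rfl, rfl, k'⟩ := List.map_eq_cons_iff.1 h'
    simp only [evW_cons, xf, ← X1_eq] at e
    obtain ⟨rfl, e'⟩ := c.peel (of_decide_eq_true h1) (m w k) (m w' k') e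
    rw [ih h2 k k' e']

theorem uq {w w' : List (ℕ × K)} (h : w.map (·.1) = ord) (h' : w'.map (·.1) = ord)
    (e : evW (xf K) w = evW (xf K) w') : w = w' :=
  uq_of [(27, 0, [1, 0, 1, 1]), (25, 0, [1, 1, 0, 1]), (28, 0, [1, 1, -1, 2]), (30, 0, [1, 0, 0, 1]),
    (37, 0, [2, -1, 0, 3]), (32, 0, [2, 0, -1, 2]), (35, 0, [1, 0, -1, 2]), (31, 0, [2, -1, 0, 2]),
    (40, 0, [3, -2, 0, 3]), (46, 0, [2, -1, -1, 3]), (39, 0, [2, 0, -3, 4]), (45, 0, [3, -2, -1, 4]),
    (29, 0, [2, -1, -1, 2]), (41, 0, [1, 0, -2, 3]), (44, 0, [2, -1, -3, 5]), (47, 0, [2, -1, -2, 3]),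
    (38, 0, [3, -2, -2, 3]), (43, 0, [1, 0, -3, 4]), (34, 0, [1, -1, 0, 1]), (26, 0, [1, 0, -1, 1]),
    (36, 0, [1, 0, -2, 1]), (42, 0, [1, -1, -1, 1]), (33, 0, [-1, -1, -1, 1]), (24, 0, [0, 0, 0, 0])] (by decide +kernel) h h' e

theorem pos_iff (r : Fin chevF4.nroots) : tabF4.v r ∈ cone (tabF4.v ∘ tabF4.s) Set.univ ↔ r.1 ∈ ord := by
  have := cone_co ifF4 (J := Set.univ) (ε := 1) (r := r)
  simp only [Int.cast_one, one_smul, one_mul, Set.mem_univ, not_true, false_imp_iff, implies_true, and_true] at this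
  exact this.trans ((by decide +kernel : ∀ r : Fin chevF4.nroots,
    (∀ j : Fin chevF4.rank, 0 ≤ tabF4.co r j) ↔ r.1 ∈ ord) r)

theorem nf {g : GL chevF4.Idx K} (hg : g ∈ 𝒰) : ∃ t : ℕ → K, g = evW (xf K) (ord.map fun r => (r, t r)) := by
  obtain ⟨w, h1, h2⟩ : ∃ w : List (ℕ × K), w.map (·.1) = ord ∧ g = evW (xf K) w := by
    refine R5.XS_ind (p := fun g => ∃ w : List (ℕ × K), w.map (·.1) = ord ∧ g = evW (xf K) w) (ifF4.rd K) hg
      ⟨ord.map (·, 0), rfl, by simp [evW, xf, ord, ifF4.xu_zero]⟩ ?_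
    rintro r t hr - - ⟨w, h1, rfl⟩
    exact ⟨_, shape ((pos_iff r).1 hr) t h1, by rw [frF4.ins, xf, rtF_val]⟩
  obtain ⟨t, rfl⟩ := fn_of (by decide) h1
  exact ⟨t, h2⟩

theorem evW_mem {w : List (ℕ × K)} (h : w.map (·.1) = ord) : evW (xf K) w ∈ 𝒰 := list_prod_mem fun g hg => by
  obtain ⟨b, hb, rfl⟩ := List.mem_map.1 hg
  have : b.1 ∈ ord := h ▸ List.mem_map_of_mem hb
  exact mem_XS ((pos_iff _).2 ((by decide : ∀ r ∈ ord, r % 48 ∈ ord) _ this)) _

end

variable [TF K]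

/-- the parameters of the twisting map -/
def ψf (r : Fin chevF4.nroots) (t : K) : K := cond (Nat.beq (lamF4 r) 2) (φ t) (φ.symm t)

/-- the twisted group -/
abbrev AF (σ : XS tabF4.v (xu chevF4 K) Set.univ →* GL chevF4.Idx K) (H : Subgroup (GL chevF4.Idx K)) : Prop :=
  ∃ ρ τ k, Al 2 tabF4.deg tabF4.v tabF4.s (xu chevF4 K) ρ σ barF4 τ ψf H k

/-- the embedding -/
noncomputable def JF (K : Type) [Field K] [Finite K] [TF K] : U K →* GL chevF4.Idx K := frF4.J

theorem JF_inj : Function.Injective (JF K) := fun _ _ e => wd_inj (uq rfl rfl e)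

variable {σ : XS tabF4.v (xu chevF4 K) Set.univ →* GL chevF4.Idx K} {H : Subgroup (GL chevF4.Idx K)}

theorem xf_top (r : ℕ) (t : K) : xf K r t ∈ XS tabF4.v (xu chevF4 K) Set.univ := mem_XS (Set.mem_univ _) _

theorem evW_top (w : List (ℕ × K)) : evW (xf K) w ∈ XS tabF4.v (xu chevF4 K) Set.univ :=
  list_prod_mem fun g hg => by
    obtain ⟨b, -, rfl⟩ := List.mem_map.1 hg
    exact xf_top _ _

theorem AF.sig (h : AF σ H) (w : List (ℕ × K)) : xt σ (evW (xf K) w) = evW (xf K) (w.map sgm) := by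
  obtain ⟨ρ, τ, k, h⟩ := h
  induction w with
  | nil => exact xt_one σ
  | cons e w ih =>
    rw [evW_cons, List.map_cons, evW_cons, xt_mul (xf_top _ _) (evW_top _), ih, xf, h.sig, ← rtF_val (barF4 _)]
    rfl

theorem AF.range (h : AF σ H) : (JF K).range = H ⊓ 𝒰 := by
  have h' := h
  obtain ⟨ρ, τ, k, h'⟩ := h'
  refine le_antisymm ?_ fun g hg => ?_
  · rintro _ ⟨u, rfl⟩
    obtain ⟨t, h1, h2⟩ := sgw_wd u
    have m : JF K u ∈ 𝒰 := evW_mem rfl
    refine ⟨h'.fixU m ((h.sig _).trans ?_), m⟩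
    rw [h1, frF4.sg, h2]
    rfl
  · obtain ⟨t, rfl⟩ := nf hg.2
    obtain ⟨u, hu⟩ := wd_of (uq (w := sgw t) (w' := ord.map fun r => (r, t r)) rfl rfl
      ((frF4.sg t).symm.trans ((h.sig _).symm.trans (h'.fix hg.1))))
    exact ⟨u, congrArg (evW (xf K)) hu⟩

end Cfsg.Agent.Rf
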