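import Cfsg.Agent.Rf.L3
import Cfsg.Agent.Rf.I

/-! Diagonal, field and Weyl automorphisms of `²F₄`. -/

set_option autoImplicit false
set_option maxRecDepth 100000
set_option linter.unusedSectionVars false

namespace Cfsg.Agent.Rf.LL

open Subgroup Cfsg.Lie Cfsg.Agent.Lt Cfsg.Agent.Lt.Tw Cfsg.Agent.Lt.Gra Cfsg.Agent.Lt.H2 U

theorem gens {K G : Type*} [Field K] [TF K] [Group G] {x : ℕ → K → G} (h : FR x) (t : K) :
    h.J (Y1 t) = evW x [(27, t), (25, φ t), (28, t * φ t)] ∧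
    h.J (X1 t) = evW x [(28, t), (30, φ t)] ∧
    h.J (X2 t) = evW x [(37, t), (32, φ t)] ∧
    h.J (Y3 t) = evW x [(35, t), (31, φ t), (40, t * φ t)] ∧
    h.J (X3 t) = evW x [(40, t), (46, φ t)] ∧
    h.J (X4 t) = evW x [(39, t), (45, φ t)] ∧
    h.J (Y5 t) = evW x [(29, t), (41, φ t), (44, t * φ t)] ∧
    h.J (X5 t) = evW x [(44, t), (47, φ t)] ∧
    h.J (X6 t) = evW x [(38, t), (43, φ t)] ∧
    h.J (Y7 t) = evW x [(34, t), (26, φ t), (36, t * φ t)] ∧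
    h.J (X7 t) = evW x [(36, t), (42, φ t)] ∧
    h.J (X8 t) = evW x [(33, t), (24, φ t)] := by
  simp [FR.J, evW, wd, emb, crd, Y1, X1, X2, Y3, X3, X4, Y5, X5, X6, Y7, X7, X8, h.zero]

variable {K : Type} [Field K] [Finite K] [TF K]

local notation "𝒢" => XS tabF4.v (xu chevF4 K) Set.univ
local notation "GF" => GL chevF4.Idx K
local notation "Rt" => Fin chevF4.nroots

/-- the Weyl elements -/
noncomputable def nK (K : Type) [Field K] (i : Fin chevF4.rank) : GL chevF4.Idx K :=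
  nn (xu chevF4 K) (tabF4.s i) (ng chevF4 (tabF4.s i)) 1

theorem n_cj (i : Fin chevF4.rank) {r r' : Rt}
    (e : ∀ j : Fin chevF4.rank, tabF4.co r' j = tabF4.co r j - if j = i then car chevF4 i r else 0) (t : K) :
    nK K i * xu chevF4 K r t * (nK K i)⁻¹ = xu chevF4 K r' t := by
  obtain ⟨r'', ε, h1, h2⟩ := ifF4.cj i r
  obtain rfl : r' = r'' := ifF4.inj _ _ fun j => (e j).trans (h1 j).symm
  have k : ∀ t : K, nK K i * xu chevF4 K r t * (nK K i)⁻¹ = xu chevF4 K r' (ε * t) := fun t =>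
    mul_inv_eq_of_eq_mul (Units.ext (by
      rw [Units.val_mul, Units.val_mul, nK, ifF4.coe_nn, ifF4.coe_xu, ifF4.coe_xu, ifF4.transport K h2]))
  obtain ⟨l, rfl | rfl⟩ := Int.even_or_odd' ε
  · refine absurd ((cx (K := K) ifF4 2 (ε := 1) rfl).inj (r := r) (t := 1) (t' := 0) ?_) one_ne_zero
    simpa [X1_eq, CharTwo.two_eq_zero, ifF4.xu_zero] using k 1
  · simpa [CharTwo.two_eq_zero] using k t

def PP : List (List ℕ) :=
  [[0, 1, 2, 7, 15, 16, 17, 3, 8, 9, 10, 18, 19, 20, 33, 4, 5, 6, 11, 12, 13, 21, 22, 23, 24, 25, 26, 34, 35, 36,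
    41, 42, 43, 14, 27, 28, 29, 37, 38, 39, 44, 30, 31, 32, 40, 45, 46, 47],
   [0, 1, 4, 3, 2, 5, 6, 8, 7, 11, 12, 9, 10, 14, 13, 15, 21, 22, 18, 19, 27, 16, 17, 23, 24, 30, 31, 20, 28, 29,
    25, 26, 32, 34, 33, 37, 38, 35, 36, 40, 39, 41, 42, 45, 44, 43, 46, 47],
   [0, 2, 1, 3, 5, 4, 6, 7, 9, 8, 10, 11, 13, 12, 14, 16, 15, 17, 18, 20, 19, 23, 25, 21, 26, 22, 24, 28, 27, 29,
    30, 32, 31, 33, 35, 34, 36, 37, 39, 38, 40, 41, 43, 42, 44, 46, 45, 47],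
   [1, 0, 2, 3, 4, 6, 5, 7, 8, 10, 9, 12, 11, 13, 14, 15, 17, 16, 19, 18, 20, 22, 21, 24, 23, 26, 25, 27, 29, 28,
    31, 30, 32, 33, 34, 36, 35, 38, 37, 39, 40, 42, 41, 43, 44, 45, 47, 46]]

def sI (i r : ℕ) : ℕ := (PP.getD i []).getD (r % 48) 0

theorem sI_co : ∀ (i : Fin chevF4.rank) (r : Rt) (j : Fin chevF4.rank),
    tabF4.co (rtF ((PP.getD i []).getD r 0)) j = tabF4.co r j - if j = i then car chevF4 i r else 0 := by
  decide +kernel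

theorem n_xf (i : Fin chevF4.rank) (r : ℕ) (t : K) : nK K i * xf K r t * (nK K i)⁻¹ = xf K (sI i r) t :=
  n_cj i (sI_co i (rtF r)) t

theorem xf_sq (r : ℕ) (t : K) : xf K r t * xf K r t = 1 := by
  rw [← frF4.add, CharTwo.add_self_eq_zero, frF4.zero]

theorem n_eq (i : Fin chevF4.rank) : nK K i = xf K (tabF4.s i) 1 * xf K (47 - tabF4.s i) 1 * xf K (tabF4.s i) 1 := by
  rw [nK, nn, inv_one, CharTwo.neg_eq, xf, xf, rtF_val,
    (by decide +kernel : ∀ i : Fin chevF4.rank, ng chevF4 (tabF4.s i) = rtF (47 - tabF4.s i))]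

theorem n_sq (i : Fin chevF4.rank) : nK K i * nK K i = 1 := by
  simp only [n_eq, mul_assoc, ← mul_assoc (xf K (tabF4.s i) 1) (xf K (tabF4.s i) 1), xf_sq, one_mul,
    ← mul_assoc (xf K (47 - tabF4.s i) 1) (xf K (47 - tabF4.s i) 1)]

theorem cj_evW {n : GF} {π : ℕ → ℕ} (h : ∀ r t, n * xf K r t * n⁻¹ = xf K (π r) t) (w : List (ℕ × K)) :
    n * evW (xf K) w * n⁻¹ = evW (xf K) (w.map fun e => (π e.1, e.2)) := by
  induction w with
  | nil => simp [evW]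
  | cons e w ih => rw [List.map_cons, evW_cons, evW_cons, ← ih, ← h, conj_mul]

def i0 : Fin chevF4.rank := ⟨0, by decide⟩
def i1 : Fin chevF4.rank := ⟨1, by decide⟩
def i2 : Fin chevF4.rank := ⟨2, by decide⟩
def i3 : Fin chevF4.rank := ⟨3, by decide⟩

theorem cj_mul {n m : GF} {π π' : ℕ → ℕ} (h : ∀ r t, n * xf K r t * n⁻¹ = xf K (π r) t)
    (h' : ∀ r t, m * xf K r t * m⁻¹ = xf K (π' r) t) (r : ℕ) (t : K) :
    n * m * xf K r t * (n * m)⁻¹ = xf K (π (π' r)) t := by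
  rw [← h, ← h']; group

noncomputable def nL (K : Type) [Field K] : GL chevF4.Idx K := nK K i0 * nK K i3
noncomputable def nD (K : Type) [Field K] : GL chevF4.Idx K := nK K i1 * nK K i2 * nK K i1
noncomputable def nS (K : Type) [Field K] : GL chevF4.Idx K := nD K * nK K i2

theorem D_xf (r : ℕ) (t : K) : nD K * xf K r t * (nD K)⁻¹ = xf K (sI 1 (sI 2 (sI 1 r))) t :=
  cj_mul (cj_mul (n_xf i1) (n_xf i2)) (n_xf i1) r t

theorem wL (t : K) : nL K * JF K (Y1 t) * (nL K)⁻¹ = JF K (Y7 t) ∧ nL K * JF K (X1 t) * (nL K)⁻¹ = JF K (X7 t) ∧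
    nL K * JF K (X2 t) * (nL K)⁻¹ = JF K (X6 t) ∧ nL K * JF K (Y3 t) * (nL K)⁻¹ = JF K (Y5 t) ∧
    nL K * JF K (X3 t) * (nL K)⁻¹ = JF K (X5 t) ∧ nL K * JF K (X4 t) * (nL K)⁻¹ = JF K (X4 t) := by
  have k := cj_evW (cj_mul (K := K) (n_xf i0) (n_xf i3))
  simp only [JF, gens frF4 t, nL, k]
  exact ⟨rfl, rfl, rfl, rfl, rfl, rfl⟩

theorem wS (t : K) : nS K * JF K (X2 t) * (nS K)⁻¹ = JF K (X8 t) ∧ nS K * JF K (Y3 t) * (nS K)⁻¹ = JF K (Y7 t) ∧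
    nS K * JF K (X3 t) * (nS K)⁻¹ = JF K (X7 t) ∧ nS K * JF K (X4 t) * (nS K)⁻¹ = JF K (X6 t) ∧
    nS K * JF K (Y5 t) * (nS K)⁻¹ = JF K (Y5 t) ∧ nS K * JF K (X5 t) * (nS K)⁻¹ = JF K (X5 t) := by
  have k := cj_evW (cj_mul (K := K) D_xf (n_xf i2))
  simp only [JF, gens frF4 t, nS, k]
  exact ⟨rfl, rfl, rfl, rfl, rfl, rfl⟩

theorem cj3 {G : Type*} [Group G] {n a b a' b' : G} (h : n * a * n⁻¹ = a') (h' : n * b * n⁻¹ = b') :
    n * (a * b * a) * n⁻¹ = a' * b' * a' := by rw [← h, ← h', conj_mul, conj_mul]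

theorem sq_of {G : Type*} [Group G] {n m : G} (h : n * n = 1) (h' : m * m = 1) (e : n * m * n⁻¹ = m) :
    n * m * (n * m) = 1 := by
  nth_rw 1 [mul_inv_eq_iff_eq_mul.1 e]
  rw [mul_assoc, ← mul_assoc n, h, one_mul, h']

theorem L_sq : nL K * nL K = 1 := sq_of (n_sq _) (n_sq _) (by
  rw [n_eq i3]; exact cj3 (n_xf i0 24 1) (n_xf i0 23 1))

theorem D_eq : nD K = xf K 30 1 * xf K 17 1 * xf K 30 1 := by
  rw [nD, n_eq i2, ← inv_eq_of_mul_eq_one_right (n_sq (K := K) i1)]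
  nth_rw 1 [inv_eq_of_mul_eq_one_right (n_sq (K := K) i1)]
  exact cj3 (n_xf i1 25 1) (n_xf i1 22 1)

theorem S_sq : nS K * nS K = 1 := sq_of (by
  simp only [D_eq, mul_assoc, ← mul_assoc (xf K 30 1) (xf K 30 1), xf_sq, one_mul,
    ← mul_assoc (xf K 17 1) (xf K 17 1)]) (n_sq _) (by rw [n_eq i2]; exact cj3 (D_xf 25 1) (D_xf 22 1))

variable {H : Subgroup (GL chevF4.Idx K)}

theorem nL_mem (hJ : ∀ u, JF K u ∈ H) (hv : xf K 14 1 * xf K 23 1 ∈ H) : nL K ∈ H := by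
  have hy : xf K 33 1 * xf K 24 1 ∈ H := by simpa [JF, gens (frF4 (K := K)) 1, evW] using hJ (X8 1)
  have c : xf K 24 1 * xf K 33 1 = xf K 33 1 * xf K 24 1 := (frF4.rel 24 33 rfl 1 1).trans (mul_one _)
  have h1 : nK K i0 * xf K 24 1 = xf K 24 1 * nK K i0 := mul_inv_eq_iff_eq_mul.1 (n_xf i0 24 1)
  have h2 : nK K i3 * xf K 33 1 = xf K 33 1 * nK K i3 := mul_inv_eq_iff_eq_mul.1 (n_xf i3 33 1)
  have e : xf K 33 1 * xf K 24 1 * nL K * (xf K 33 1 * xf K 24 1) = xf K 14 1 * xf K 23 1 := by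
    rw [nL, mul_assoc (xf K 33 1), ← mul_assoc (xf K 24 1), ← h1, ← mul_assoc, ← mul_assoc, mul_assoc _ (nK K i3), h2,
      ← mul_assoc, ← mul_assoc, mul_assoc _ (xf K 24 1) (xf K 33 1), c, n_eq i0, n_eq i3]
    show xf K 33 1 * (xf K 33 1 * xf K 14 1 * xf K 33 1) * (xf K 33 1 * xf K 24 1) *
      (xf K 24 1 * xf K 23 1 * xf K 24 1) * xf K 24 1 = _
    simp only [mul_assoc, ← mul_assoc (xf K 33 1) (xf K 33 1), ← mul_assoc (xf K 24 1) (xf K 24 1), xf_sq, one_mul,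
      mul_one]
  exact (mul_mem_cancel_left hy).1 ((mul_mem_cancel_right hy).1 (e ▸ hv))

theorem nS_mem (hJ : ∀ u, JF K u ∈ H) (hv : xf K 19 1 * xf K 17 1 ∈ H) : nS K ∈ H := by
  have hy : xf K 27 1 * (xf K 25 1 * xf K 30 1) ∈ H := by
    simpa [JF, FR.J, evW, wd, emb, crd, frF4.zero, CharTwo.add_self_eq_zero] using
      hJ ⟨1, 1, 0, 0, 0, 0, 0, 0, 0, 0, 0, 0⟩
  have c : xf K 30 1 * xf K 25 1 = xf K 25 1 * xf K 30 1 := (frF4.rel 30 25 rfl 1 1).trans (mul_one _)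
  have c' : xf K 30 1 * xf K 27 1 = xf K 27 1 * xf K 30 1 := (frF4.rel 30 27 rfl 1 1).trans (mul_one _)
  have k : xf K 19 1 * xf K 30 1 = xf K 27 1 * (xf K 30 1 * (xf K 22 1 * xf K 19 1)) := by
    simpa [xf] using chk_sound (K := K) ifF4 (p := 2) (w := [(rtF 19, 1), (rtF 30, 1)])
      (w' := [(rtF 27, 1), (rtF 30, 1), (rtF 22, 1), (rtF 19, 1)]) (by decide +kernel)
  have h1 : nD K * xf K 27 1 = xf K 19 1 * nD K := mul_inv_eq_iff_eq_mul.1 (D_xf 27 1)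
  have h2 : nD K * xf K 22 1 = xf K 22 1 * nD K := mul_inv_eq_iff_eq_mul.1 (D_xf 22 1)
  have h3 : nD K * xf K 25 1 = xf K 25 1 * nD K := mul_inv_eq_iff_eq_mul.1 (D_xf 25 1)
  have h4 : xf K 22 1 = xf K 25 1 * nK K i2 * xf K 25 1 := by
    rw [n_eq i2]
    show _ = xf K 25 1 * (xf K 25 1 * xf K 22 1 * xf K 25 1) * xf K 25 1
    simp only [mul_assoc, ← mul_assoc (xf K 25 1) (xf K 25 1), xf_sq, one_mul, mul_one]
  have h5 : xf K 17 1 = xf K 30 1 * nD K * xf K 30 1 := by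
    simp only [D_eq, mul_assoc, ← mul_assoc (xf K 30 1) (xf K 30 1), xf_sq, one_mul, mul_one]
  have e : xf K 27 1 * (xf K 25 1 * xf K 30 1) * nS K * (xf K 27 1 * (xf K 25 1 * xf K 30 1))⁻¹ =
      xf K 19 1 * xf K 17 1 := by
    rw [h5, ← mul_assoc (xf K 19 1), ← mul_assoc (xf K 19 1), k, ← c, nS, mul_inv_rev, mul_inv_rev]
    simp only [mul_assoc, inv_eq_of_mul_eq_one_right (xf_sq _ _)]
    rw [← mul_assoc (xf K 19 1), ← h1, ← mul_assoc (xf K 22 1), ← mul_assoc (xf K 22 1), ← h2, h4, ← mul_assoc (xf K 25 1),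
      ← h3, c']
    simp only [mul_assoc]
  exact (mul_mem_cancel_left hy).1 ((mul_mem_cancel_right (inv_mem hy)).1 (e ▸ hv))

end Cfsg.Agent.Rf.LL
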