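import Cfsg.Agent.Rf.L4

/-! Diagonal and field automorphisms of `²F₄`; the normaliser of the Sylow subgroup. -/

set_option autoImplicit false
set_option maxRecDepth 100000
set_option linter.unusedSectionVars false

namespace Cfsg.Agent.Rf.LL

open Subgroup Cfsg.Lie Cfsg.Agent.Lt Cfsg.Agent.Lt.Tw Cfsg.Agent.Lt.Gra Cfsg.Agent.Lt.H2 U

variable {K : Type} [Field K] [Finite K] [TF K]

local notation "𝒢" => XS tabF4.v (xu chevF4 K) Set.univ
local notation "GF" => GL chevF4.Idx K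
local notation "Rt" => Fin chevF4.nroots
local notation "𝓋" => tabF4.v

theorem ψ_eq (r : Rt) : ∃ e : K ≃+* K, ∀ t, ψf r t = e t := by
  unfold ψf
  cases Nat.beq (lamF4 r) 2
  exacts [⟨φ.symm, fun _ => rfl⟩, ⟨φ, fun _ => rfl⟩]

theorem v_add {r s u : Rt} : 𝓋 u = 𝓋 r + 𝓋 s ↔ ∀ i : Fin chevF4.rank, tabF4.co u i = tabF4.co r i + tabF4.co s i :=
  ⟨fun e i => by simpa only [Tab.add_apply, Tab.v_apply, ← Int.cast_add, Int.cast_inj] using congrFun e i,
    fun e => Tab.sp_ext fun i => by simp only [Tab.add_apply, Tab.v_apply, e, Int.cast_add]⟩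

/-- `F` is diagonal times field -/
structure Dg (F : GF →* GF) (c : Rt → Kˣ) (γ : K ≃+* K) : Prop where
  x : ∀ r t, F (xu chevF4 K r t) = xu chevF4 K r (c r * γ t)
  ad : ∀ r s u, 𝓋 u = 𝓋 r + 𝓋 s → c u = c r * c s
  br : ∀ r, (c (barF4 r) : K) = ψf r (c r : K)

variable {F F' : GL chevF4.Idx K →* GL chevF4.Idx K} {c c' : Fin chevF4.nroots → Kˣ} {γ γ' : K ≃+* K}
variable {σ : XS tabF4.v (xu chevF4 K) Set.univ →* GL chevF4.Idx K} {H : Subgroup (GL chevF4.Idx K)}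

theorem Dg.one : Dg (MonoidHom.id GF) 1 1 where
  x r t := by simp
  ad _ _ _ _ := (mul_one _).symm
  br r := by obtain ⟨e, h⟩ := ψ_eq (K := K) r; simp [h]

theorem Dg.mul (h : Dg F c γ) (h' : Dg F' c' γ') :
    Dg (F.comp F') (fun r => c r * Units.map (γ : K →* K) (c' r)) (γ * γ') where
  x r t := by simp [h.x, h'.x, mul_assoc]
  ad r s u e := by rw [h.ad r s u e, h'.ad r s u e, map_mul, mul_mul_mul_comm]
  br r := by
    obtain ⟨e, k⟩ := ψ_eq (K := K) r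
    simp [h.br, h'.br, k, gal_comm γ e]

theorem Dg.xs (h : Dg F c γ) (a : AF σ H) {S : Set tabF4.Sp} {g : GF} (hg : g ∈ XS 𝓋 (xu chevF4 K) S) :
    F g ∈ XS 𝓋 (xu chevF4 K) S ∧ xt σ (F g) = F (xt σ g) := by
  obtain ⟨ρ, τ, k, a⟩ := a
  refine R5.XS_ind (p := fun g => F g ∈ XS 𝓋 (xu chevF4 K) S ∧ xt σ (F g) = F (xt σ g)) a.rd hg
    (by simp [xt_one]) fun r t hr g hg ih => ?_
  obtain ⟨e, k⟩ := ψ_eq (K := K) r
  rw [map_mul, h.x, xt_mul (mem_XS (Set.mem_univ _) _) (XS_top _ ih.1), xt_mul (mem_XS (Set.mem_univ _) _) (XS_top _ hg),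
    map_mul, a.sig, a.sig, h.x, ih.2, h.br, k, k, k, map_mul, gal_comm γ e]
  exact ⟨mul_mem (mem_XS hr _) ih.1, rfl⟩

theorem Dg.mem (h : Dg F c γ) (a : AF σ H) {g : GF} (hg : g ∈ H) : F g ∈ H := by
  have a' := a
  obtain ⟨ρ, τ, k, a'⟩ := a'
  refine (a'.tw.gen.trans (iSup_le fun i => sup_le (fun g hg => ?_) fun g hg => ?_) : H ≤ H.comap F) hg
  · exact a'.memP (h.xs a hg.2).1 ((h.xs a hg.2).2.trans (by rw [a'.fix hg.1]))
  · exact a'.tw.memN i _ (XS_top _ (h.xs a hg.2).1) (h.xs a hg.2).1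
      ((xt_eq σ _).symm.trans ((h.xs a hg.2).2.trans (by rw [a'.fix hg.1])))

theorem Dg.eq (h : Dg F 1 1) {g : GF} (hg : g ∈ 𝒢) : F g = g :=
  R5.XS_ind (p := fun g => F g = g) (ifF4.rd K) hg (map_one F) fun r t _ g _ ih => by simp [h.x, ih]

theorem Dg.J (h : Dg F c γ) (u : U K) : F (JF K u) = JF K (au (c (rtF 27)) (c (rtF 33)) γ u) := by
  have e : ∀ w : List (ℕ × K), F (evW (xf K) w) = evW (xf K) (w.map fun e => (e.1, c (rtF e.1) * γ e.2)) := fun w => by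
    simp only [evW, map_list_prod, List.map_map, Function.comp_def, xf, h.x]
  have k : ∀ r s u : ℕ, (∀ i : Fin chevF4.rank, tabF4.co (rtF u) i = tabF4.co (rtF r) i + tabF4.co (rtF s) i) →
      (c (rtF u) : K) = c (rtF r) * c (rtF s) := fun r s u e => by rw [h.ad _ _ _ (v_add.2 e), Units.val_mul]
  have k1 : (c (rtF 25) : K) = φ (c (rtF 27) : K) := h.br (rtF 27)
  have k2 : (c (rtF 24) : K) = φ (c (rtF 33) : K) := h.br (rtF 33)
  refine (e _).trans (congrArg _ ?_)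
  simp only [wd, emb, crd, au, List.map, List.getD_cons_succ, List.getD_cons_zero, List.cons.injEq, Prod.mk.injEq,
    true_and, and_true, k1, k2, map_add, map_mul, map_pow, φφ, gal_comm γ φ,
    k 25 27 28 (by decide +kernel), k 28 27 30 (by decide +kernel), k 30 33 37 (by decide +kernel),
    k 28 33 35 (by decide +kernel), k 30 24 31 (by decide +kernel), k 28 24 29 (by decide +kernel),
    k 37 33 41 (by decide +kernel), k 31 33 38 (by decide +kernel), k 27 33 34 (by decide +kernel),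
    k 24 25 26 (by decide +kernel), k 29 33 36 (by decide +kernel), k 38 33 42 (by decide +kernel),
    k 31 25 32 (by decide +kernel), k 32 33 39 (by decide +kernel), k 39 33 43 (by decide +kernel),
    k 39 27 40 (by decide +kernel), k 40 33 44 (by decide +kernel), k 44 27 45 (by decide +kernel),
    k 45 25 46 (by decide +kernel), k 46 24 47 (by decide +kernel)]
  repeat' apply And.intro
  all_goals ring

theorem map_inj {K K' I : Type*} [Field K] [Field K'] [Fintype I] [DecidableEq I] (f : K →+* K') :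
    Function.Injective (Matrix.GeneralLinearGroup.map (n := I) f) := fun _ _ e =>
  Units.ext (Matrix.map_injective f.injective (congrArg Units.val e))

theorem exists_Dg (a b : Kˣ) (γ : K ≃+* K) : ∃ (F : GF →* GF) (c : Rt → Kˣ),
    Function.Injective F ∧ Dg F c γ ∧ c (rtF 27) = a ∧ c (rtF 33) = b := by
  let p : Kˣ →* Kˣ := Units.map (φ (K := K) : K →* K)
  let c : Rt → Kˣ := fun r => b ^ tabF4.co r 0 * a ^ tabF4.co r 1 * p a ^ tabF4.co r 2 * p b ^ tabF4.co r 3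
  have key : ∀ r s : Rt, tabF4.co s 0 = 2 * tabF4.co r 3 ∧ tabF4.co s 1 = 2 * tabF4.co r 2 ∧
      tabF4.co s 2 = tabF4.co r 1 ∧ tabF4.co s 3 = tabF4.co r 0 → (c s : K) = φ (c r : K) := fun r s e => by
    simp only [c, p, e, Units.val_mul, Units.val_zpow_eq_zpow_val, map_mul, map_zpow₀, Units.coe_map,
      MonoidHom.coe_coe, φφ, zpow_mul, zpow_ofNat, Units.val_pow_eq_pow_val]
    ring
  refine ⟨(MulAut.conj (dgm tabF4.deg fun μ => chi tabF4 i0 b μ * chi tabF4 i1 a μ * chi tabF4 i2 (p a) μ *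
    chi tabF4 i3 (p b) μ)).toMonoidHom.comp (Matrix.GeneralLinearGroup.map (γ : K →+* K)), c,
    fun x y e => map_inj (γ : K →+* K) ((MulAut.conj _).injective e), ⟨fun r t => ?_,
    fun r s u e => ?_, fun r => ?_⟩, ?_, ?_⟩
  · rw [MonoidHom.comp_apply, ifF4.map_xu]
    exact ifF4.torus (l := c r) (fun μ => by simp only [chi_add, c]; ac_rfl) _
  · have := v_add.1 e
    simp only [c, show tabF4.co u 0 = _ from this i0, show tabF4.co u 1 = _ from this i1,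
      show tabF4.co u 2 = _ from this i2, show tabF4.co u 3 = _ from this i3, zpow_add]
    ac_rfl
  · rcases (by decide +kernel : ∀ r : Rt, Nat.beq (lamF4 r) 2 = true ∧ (tabF4.co (barF4 r) 0 = 2 * tabF4.co r 3 ∧
      tabF4.co (barF4 r) 1 = 2 * tabF4.co r 2 ∧ tabF4.co (barF4 r) 2 = tabF4.co r 1 ∧
      tabF4.co (barF4 r) 3 = tabF4.co r 0) ∨ Nat.beq (lamF4 r) 2 = false ∧ (tabF4.co r 0 = 2 * tabF4.co (barF4 r) 3 ∧
      tabF4.co r 1 = 2 * tabF4.co (barF4 r) 2 ∧ tabF4.co r 2 = tabF4.co (barF4 r) 1 ∧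
      tabF4.co r 3 = tabF4.co (barF4 r) 0)) r with ⟨e, k⟩ | ⟨e, k⟩
    · rw [ψf, e, key _ _ k, cond_true]
    · rw [ψf, e, key _ _ k, cond_false, RingEquiv.symm_apply_apply]
  all_goals
    have : tabF4.co (rtF 27) 0 = 0 ∧ tabF4.co (rtF 27) 1 = 1 ∧ tabF4.co (rtF 27) 2 = 0 ∧ tabF4.co (rtF 27) 3 = 0 ∧
      tabF4.co (rtF 33) 0 = 1 ∧ tabF4.co (rtF 33) 1 = 0 ∧ tabF4.co (rtF 33) 2 = 0 ∧ tabF4.co (rtF 33) 3 = 0 := by
        decide +kernel
    simp only [c, this, zpow_zero, zpow_one, mul_one, one_mul]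

/-- monomial action on the root subgroups -/
def Mo : Submonoid GF where
  carrier := {n | ∃ (π : Rt → Rt) (c : Rt → Kˣ), (∀ r t, n * xu chevF4 K r t * n⁻¹ = xu chevF4 K (π r) (c r * t)) ∧
    ∀ r s u, 𝓋 u = 𝓋 r + 𝓋 s → 𝓋 (π u) = 𝓋 (π r) + 𝓋 (π s) ∧ c u = c r * c s}
  one_mem' := ⟨id, 1, by simp, fun _ _ _ e => ⟨e, (mul_one _).symm⟩⟩
  mul_mem' := by
    rintro n m ⟨π, c, h1, h2⟩ ⟨π', c', h1', h2'⟩
    refine ⟨π ∘ π', fun r => c (π' r) * c' r, fun r t => ?_, fun r s u e => ?_⟩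
    · rw [Units.val_mul, mul_assoc (c _ : K), Function.comp, ← h1, ← h1']; group
    · obtain ⟨e1, e2⟩ := h2' r s u e
      obtain ⟨e3, e4⟩ := h2 _ _ _ e1
      exact ⟨e3, by simp only [e2, e4, mul_mul_mul_comm]⟩

theorem NJ_Mo : NJ 𝓋 tabF4.s (xu chevF4 K) Set.univ ≤ finSub Mo := (closure_le _).2 (by
  rintro _ ⟨i, -, r', t, e, ht, rfl⟩
  obtain rfl := ifF4.eq_ng e
  have d : dgm tabF4.deg (chi tabF4 i (Units.mk0 t ht)) ∈ finSub (Mo (K := K)) :=
    ⟨id, fun r => Units.mk0 t ht ^ tabF4.co r i, fun r => ifF4.torus (chi_add i _ r), fun r s u e =>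
      ⟨e, by simp only [v_add.1 e i, zpow_add]⟩⟩
  have n : nK K i ∈ finSub (Mo (K := K)) :=
    ⟨fun r => rtF ((PP.getD i []).getD r 0), 1, fun r t => by simpa using n_cj i (sI_co i r) t, fun r s u e =>
      ⟨by rw [ifF4.rf_v (sI_co i r), ifF4.rf_v (sI_co i s), ifF4.rf_v (sI_co i u), e, map_add], (mul_one _).symm⟩⟩
  exact (ifF4.nn_eq i (Units.mk0 t ht)).symm ▸ mul_mem (mul_mem d n) (inv_mem d))

theorem nrmH (h : AF σ H) {g : GF} (hg : g ∈ H) (hn : ∀ u, g * JF K u * g⁻¹ ∈ (JF K).range) :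
    ∃ (s : U K) (a b : Kˣ), ∀ u, g * JF K u * g⁻¹ = JF K (s * au (a : K) b 1 u * s⁻¹) := by
  have R := h.range
  obtain ⟨ρ, τ, k, h⟩ := h
  obtain ⟨u, hu, n, hn', u', hu', rfl⟩ := h.bru hg
  rw [← R] at hu hu'
  obtain ⟨s, rfl⟩ := hu
  obtain ⟨s', rfl⟩ := hu'
  have nP : ∀ y ∈ (JF K).range, n * y * n⁻¹ ∈ (JF K).range := by
    rintro _ ⟨y, rfl⟩
    obtain ⟨z, hz⟩ := hn (s'⁻¹ * y * s')
    exact ⟨s⁻¹ * z * s, by simp only [map_mul, map_inv, hz]; group⟩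
  obtain ⟨w, hw, h3⟩ := h.rx.rz _ _ hn'.2
  obtain rfl := h.rx.exch w hw fun i => by
    refine (h.dich hn'.2 (h.fix hn'.1) h3 i).resolve_right (fun d => ?_) _ (c_self (self_orb i))
    obtain ⟨-, -, -, y, hy, y1⟩ := h.exists_m i
    exact y1 (conj_eq_one_iff.1 (h.eq_one (R ▸ nP y (R ▸ ⟨hy.1, XS_mono (fun _ => c_univ) hy.2⟩)).2
      (h3.conj (fun r e => d _ e) hy.2)))
  obtain ⟨π, c, h1, h2⟩ := NJ_Mo hn'.2
  obtain rfl : π = id := funext fun r => by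
    obtain ⟨r', e, k⟩ := h3.cj r
    obtain rfl := h.rd.inj e
    obtain ⟨t, k⟩ := k 1
    exact h.root_eq (mul_ne_zero (c r').ne_zero one_ne_zero) ((h1 _ _).symm.trans k)
  have D : Dg (MulAut.conj n).toMonoidHom c 1 := ⟨h1, fun r s u e => (h2 r s u e).2, fun r => by
    have := congrArg (xt σ) (h1 r 1)
    obtain ⟨e, k⟩ := ψ_eq (K := K) r
    rw [xt_conj (NJ_le _ hn'.2) (mem_XS (Set.mem_univ _) _), h.fix hn'.1, h.sig, h.sig, h1, k, map_one, mul_one,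
      mul_one, ← X1_eq, ← X1_eq] at this
    exact (cx (K := K) ifF4 2 (ε := 1) rfl).inj this⟩
  obtain ⟨z, hz⟩ := nP _ ⟨s', rfl⟩
  refine ⟨s * z, c (rtF 27), c (rtF 33), fun y => ?_⟩
  simp only [map_mul, map_inv, ← D.J, hz, MulEquiv.coe_toMonoidHom, MulAut.conj_apply]
  group

end Cfsg.Agent.Rf.LL
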