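import Cfsg.Agent.Rf.L5

/-! The extension of `²F₄(K)` by diagonal and field automorphisms; `instance : LieS`. -/

set_option autoImplicit false
set_option maxRecDepth 100000
set_option linter.unusedSectionVars false
set_option linter.style.haveILetI false

namespace Cfsg.Agent.Rf.LL

open Subgroup Cfsg.Lie Cfsg.Agent.Lt Cfsg.Agent.Lt.Tw Cfsg.Agent.Lt.Gra Cfsg.Agent.Lt.H2 U SemidirectProduct

section
variable {K : Type} [Field K] [Finite K] [TF K]
variable {σ : XS tabF4.v (xu chevF4 K) Set.univ →* GL chevF4.Idx K} {H : Subgroup (GL chevF4.Idx K)}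

/-- `f` is induced by a diagonal times field automorphism -/
def Ind (f : MulAut H) (c : Fin chevF4.nroots → Kˣ) (γ : K ≃+* K) : Prop :=
  ∃ F, Dg F c γ ∧ ∀ h : H, (f h : GL chevF4.Idx K) = F h

variable {f f' : MulAut H} {c c' : Fin chevF4.nroots → Kˣ} {γ γ' : K ≃+* K}

theorem Ind.one : Ind (1 : MulAut H) 1 1 := ⟨_, Dg.one, fun _ => rfl⟩

theorem Ind.mul (h : Ind f c γ) (h' : Ind f' c' γ') :
    Ind (f * f') (fun r => c r * Units.map (γ : K →* K) (c' r)) (γ * γ') := by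
  obtain ⟨F, h1, h2⟩ := h
  obtain ⟨F', h1', h2'⟩ := h'
  exact ⟨_, h1.mul h1', fun x => (h2 _).trans (congrArg F (h2' x))⟩

theorem Ind.pow (h : Ind f c γ) (n : ℕ) : ∃ c', Ind (f ^ n) c' (γ ^ n) ∧ (γ = 1 → c' = c ^ n) := by
  induction n with
  | zero => exact ⟨1, by simpa using Ind.one, fun _ => (pow_zero c).symm⟩
  | succ n ih =>
    obtain ⟨c', h1, h2⟩ := ih
    refine ⟨_, by rw [pow_succ', pow_succ']; exact h.mul h1, ?_⟩
    rintro rfl
    rw [h2 rfl, pow_succ']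
    rfl

theorem odd_units : Odd (Nat.card Kˣ) := by
  refine Nat.not_even_iff_odd.1 fun e => ?_
  obtain ⟨x, hx⟩ := exists_prime_orderOf_dvd_card' (G := Kˣ) 2 e.two_dvd
  have : (x : K) = 1 := by
    have := congrArg Units.val (hx ▸ pow_orderOf_eq_one x)
    simpa [CharTwo.neg_eq] using this
  simp [Units.val_eq_one.1 this] at hx

theorem Ind.odd (a : AF σ H) (h : Ind f c γ) : ∃ n, Odd n ∧ f ^ n = 1 := by
  obtain ⟨ρ, τ, k, a⟩ := a
  obtain ⟨m, hm, e⟩ := gal_odd (K := K)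
  obtain ⟨c', h1, -⟩ := h.pow m
  rw [e] at h1
  obtain ⟨c'', ⟨F, h2, h3⟩, h4⟩ := h1.pow (Nat.card Kˣ)
  rw [h4 rfl, one_pow, show c' ^ Nat.card Kˣ = 1 from funext fun _ => pow_card_eq_one'] at h2
  exact ⟨m * Nat.card Kˣ, hm.mul odd_units, by
    rw [pow_mul]; exact MulEquiv.ext fun x => Subtype.ext ((h3 x).trans (h2.eq (a.tw.le x.2)))⟩

variable (H) in
/-- the group of diagonal times field automorphisms -/
def AA (Γ : Subgroup (K ≃+* K)) : Subgroup (MulAut H) := finSub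
  { carrier := {f | ∃ c, ∃ γ ∈ Γ, Ind f c γ}
    one_mem' := ⟨1, 1, one_mem _, Ind.one⟩
    mul_mem' := fun ⟨_, _, h1, h2⟩ ⟨_, _, h3, h4⟩ => ⟨_, _, mul_mem h1 h3, h2.mul h4⟩ }

theorem cj_inl {N A : Type*} [Group N] [Group A] {θ : A →* MulAut N} (g : N ⋊[θ] A) (n : N) :
    g * inl n * g⁻¹ = inl (g.left * θ g.right n * g.left⁻¹) := by
  ext <;> simp

theorem gd_of (h : AF σ H) (h1 : xf K 14 1 * xf K 23 1 ∈ H) (h2 : xf K 19 1 * xf K 17 1 ∈ H)
    (Γ : Subgroup (K ≃+* K)) : ∃ (G : Type) (_ : Group G) (_ : Finite G) (J : U K →* G) (nL nS : G), GD Γ J nL nS := by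
  have R := h.range
  have hJ : ∀ u, JF K u ∈ H := fun u => (R.le ⟨u, rfl⟩).1
  let J0 : U K →* H := (JF K).codRestrict H hJ
  have h' := h
  obtain ⟨ρ, τ, k, h'⟩ := h'
  have e0 : (h'.syl.toSylow : Subgroup H) = J0.range := by
    rw [L.IsSylowIn.coe_toSylow, ← R, MonoidHom.subgroupOf_range_eq_of_le _ (R.le.trans inf_le_left)]
  have cj : ∀ {n : H} {u w : U K}, n.1 * JF K u * n.1⁻¹ = JF K w →
      (inl n * inl (J0 u) * (inl n)⁻¹ : H ⋊[(AA H Γ).subtype] AA H Γ) = inl (J0 w) := fun e => by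
    rw [← map_inv, ← map_mul, ← map_mul]; exact congrArg _ (Subtype.ext e)
  refine ⟨H ⋊[(AA H Γ).subtype] AA H Γ, inferInstance, Finite.of_equiv _ equivProd.symm, inl.comp J0,
    inl ⟨_, nL_mem hJ h1⟩, inl ⟨_, nS_mem hJ h2⟩, inl_injective.comp fun x y e => JF_inj (congrArg Subtype.val e),
    ⟨⟨_, h'.syl.toSylow.2.map inl, fun {Q} hQ hP => ?_⟩, by rw [MonoidHom.range_comp, ← e0]⟩, fun t => ?_, fun t => ?_,
    by rw [← map_mul, ← map_one inl]; exact congrArg _ (Subtype.ext L_sq),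
    by rw [← map_mul, ← map_one inl]; exact congrArg _ (Subtype.ext S_sq), fun a b ha hb γ hγ => ?_, fun g hg => ?_⟩
  · rw [← h'.syl.toSylow.3 (hQ.comap_of_injective inl inl_injective) (map_le_iff_le_comap.1 hP), map_comap_eq_self]
    rw [range_inl_eq_ker_rightHom]
    intro q hq
    obtain ⟨l, hl⟩ := hQ ⟨q, hq⟩
    obtain ⟨c, γ, -, i⟩ := q.right.2
    obtain ⟨n, hn, e⟩ := i.odd h
    have e1 : rightHom q ^ 2 ^ l = 1 := by rw [← map_pow, show q ^ 2 ^ l = 1 from congrArg Subtype.val hl, map_one]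
    have e2 : rightHom q ^ n = 1 := Subtype.ext e
    have := pow_gcd_eq_one.2 ⟨e1, e2⟩
    rwa [(Nat.coprime_two_left.2 hn).pow_left l, pow_one] at this
  · obtain ⟨a, b, c, d, e, f⟩ := wL t
    exact ⟨cj a, cj b, cj c, cj d, cj e, cj f⟩
  · obtain ⟨a, b, c, d, e, f⟩ := wS t
    exact ⟨cj a, cj b, cj c, cj d, cj e, cj f⟩
  · obtain ⟨F, c, i, D, e1, e2⟩ := exists_Dg (Units.mk0 a ha) (Units.mk0 b hb) γ
    refine ⟨inr ⟨MulEquiv.ofBijective ((F.comp H.subtype).codRestrict H fun x => D.mem h x.2)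
      (Finite.injective_iff_bijective.1 fun x y e => Subtype.ext (i (congrArg Subtype.val e))),
      c, γ, hγ, F, D, fun _ => rfl⟩, fun u => (cj_inl _ _).trans (congrArg inl (Subtype.ext ?_))⟩
    simpa [e1, e2, J0] using D.J u
  · obtain ⟨c, γ, hγ, F, D, e⟩ := g.right.2
    have k : ∀ u, g * inl (J0 u) * g⁻¹ = inl (g.left * J0 (aup (c (rtF 27)) (c (rtF 33)) γ u) * g.left⁻¹) := fun u =>
      (cj_inl _ _).trans (congrArg (fun x => inl (g.left * x * g.left⁻¹)) (Subtype.ext ((e _).trans (D.J u))))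
    obtain ⟨s, a, b, hs⟩ := nrmH h g.left.2 fun u => by
      obtain ⟨u, rfl⟩ := (aup (c (rtF 27)) (c (rtF 33)) γ).surjective u
      obtain ⟨z, hz⟩ := (mem_normalizer_iff.1 hg _).1 ⟨u, rfl⟩
      exact ⟨z, congrArg Subtype.val (inl_injective (hz.trans (k u)))⟩
    refine ⟨s, a * c (rtF 27), b * c (rtF 33), γ, hγ, by simp, by simp, fun u =>
      (k u).trans (congrArg inl (Subtype.ext ((hs _).trans ?_)))⟩
    rw [aup_apply, au_au]
    rfl

theorem eq_of_sq {γ δ : K ≃+* K} (h : ∀ t, γ (γ t) = δ (δ t)) : γ = δ := by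
  obtain ⟨m, ⟨k, rfl⟩, e⟩ := gal_odd (K := K)
  have : γ ^ 2 = δ ^ 2 := RingEquiv.ext fun t => h t
  exact mul_left_cancel (a := (γ ^ 2) ^ k) (by
    rw [← pow_mul, ← pow_succ, e, pow_mul, this, ← pow_mul, ← pow_succ, e])

end

variable {K : Type} [Field K] [Fintype K] [TF K]

theorem card_odd : ∃ m, Fintype.card K = 2 ^ (2 * m + 1) := by
  obtain ⟨n, -, hn⟩ := FiniteField.card K 2
  obtain ⟨m, e | e⟩ := Nat.even_or_odd' n
  · have h : iterateFrobeniusEquiv K 2 m = 1 := eq_of_sq fun t => by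
      rw [iterateFrobeniusEquiv_def, iterateFrobeniusEquiv_def, ← pow_mul, ← pow_add, ← two_mul, ← e, ← hn,
        FiniteField.pow_card]
      rfl
    have m0 : 1 < 2 ^ m := Nat.one_lt_two_pow (by rintro rfl; exact n.ne_zero e)
    have := Nat.le_of_dvd (by omega) ((FiniteField.forall_pow_eq_one_iff K (2 ^ m - 1)).1 fun x => by
      have : x ^ 2 ^ m = x := Units.ext (DFunLike.congr_fun h (x : K))
      rw [pow_sub _ m0.le, this, pow_one, mul_inv_cancel])
    rw [hn, e, two_mul, pow_add] at this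
    have : 2 * 2 ^ m ≤ 2 ^ m * 2 ^ m := Nat.mul_le_mul_right _ m0
    omega
  · exact ⟨m, e ▸ hn⟩

theorem af {m : ℕ} (hc : Fintype.card K = 2 ^ (2 * m + 1)) : ∃ σ, AF σ (twistedF4 K (2 ^ m)) := by
  obtain ⟨σ, τ, hs⟩ := sigF4 K m
  have tw := Ab.tw_F4 hc hs
  have e : φ = iterateFrobeniusEquiv K 2 (m + 1) := eq_of_sq fun t => by
    rw [φφ, iterateFrobeniusEquiv_def, iterateFrobeniusEquiv_def, ← pow_mul, ← pow_add,
      show m + 1 + (m + 1) = 2 * m + 1 + 1 by ring, pow_succ 2, ← hc, pow_mul, FiniteField.pow_card]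
  rw [show (fun r (t : K) => t ^ (lamF4 r * 2 ^ m)) = ψf from funext fun r => funext fun t => ?_] at tw
  · obtain ⟨ρ, rx⟩ := RDX.out 2 (ifF4.rd K)
    obtain ⟨k, k0, tk⟩ := exists_k (ifF4.rd K) tw
    exact ⟨σ, ρ, τ, k, ifF4.rd K, rx, tw, k0, tk⟩
  · rcases (by decide +kernel : ∀ r, lamF4 r = 2 ∨ lamF4 r = 1) r with k | k
    · rw [ψf, k, e, ← pow_succ']; rfl
    · refine (φ.eq_symm_apply.2 ?_).trans (by rw [ψf, k]; rfl)
      rw [k, e, iterateFrobeniusEquiv_def, one_mul, ← pow_mul, ← pow_add,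
        show m + (m + 1) = 2 * m + 1 by ring, ← hc, FiniteField.pow_card]

theorem map_le {K K' : Type*} [Field K] [Field K'] (f : K →+* K') (q : ℕ) :
    (twistedF4 K q).map (Matrix.GeneralLinearGroup.map f) ≤ twistedF4 K' q :=
  map_le_iff_le_comap.2 ((closure_le _).2 (by
    rintro g ⟨w, hw, e⟩
    refine subset_closure ⟨w.map fun p => (p.1, f p.2), ?_, ?_⟩
    · rcases hw with ⟨t, rfl | rfl⟩ | ⟨t, u, rfl | rfl⟩
      exacts [.inl ⟨f t, .inl (by simp [f4PairWord])⟩, .inl ⟨f t, .inr (by simp [f4PairWord])⟩,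
        .inr ⟨f t, f u, .inl (by simp [b2ClassWord])⟩, .inr ⟨f t, f u, .inr (by simp [b2ClassWord])⟩]
    · show f.mapMatrix g.val = _
      rw [e, ChevalleyDatum.wordMat, ChevalleyDatum.wordMat, map_list_prod, List.map_map, List.map_map]
      refine congrArg _ (List.map_congr_left fun p _ => ?_)
      simp only [Function.comp, ChevalleyDatum.x]
      split_ifs
      · ext a b
        simp only [ifF4.xMat_eq, RingHom.mapMatrix_apply, Matrix.map_apply, Matrix.add_apply, Matrix.smul_apply,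
          smul_eq_mul, map_add, map_mul, map_pow, Matrix.one_apply]
        split_ifs <;> simp
      · exact map_one _))

instance instLieS : LieS where
  syl {K} _ _ m hc T := by
    haveI := Fintype.ofFinite (GaloisField 2 (2 * m + 1))
    have hc' : Fintype.card (GaloisField 2 (2 * m + 1)) = 2 ^ (2 * m + 1) :=
      Nat.card_eq_fintype_card.symm.trans (GaloisField.card 2 _ (by omega))
    letI : TF (GaloisField 2 (2 * m + 1)) := ⟨iterateFrobeniusEquiv _ 2 (m + 1), fun t => by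
      rw [iterateFrobeniusEquiv_def, iterateFrobeniusEquiv_def, ← pow_mul, ← pow_add,
        show m + 1 + (m + 1) = 2 * m + 1 + 1 by ring, pow_succ 2, ← hc', pow_mul, FiniteField.pow_card]⟩
    let e := FiniteField.ringEquivOfCardEq (hc.trans hc'.symm)
    obtain ⟨σ, h⟩ := af hc'
    have R := h.range
    obtain ⟨ρ, τ, k, h⟩ := h
    let E := ((twistedF4 K (2 ^ m)).equivMapOfInjective _ (map_inj e.toRingHom)).trans (MulEquiv.subgroupCongr
      (le_antisymm (map_le _ _) fun g hg => ⟨_, map_le e.symm.toRingHom _ ⟨g, hg, rfl⟩,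
        Units.ext (Matrix.ext fun _ _ => e.apply_symm_apply _)⟩))
    exact ⟨_, inferInstance, inferInstance, inferInstance, hc', ⟨(E.subgroupMap T).trans
      (((T.mapSurjective (f := E.toMonoidHom) E.surjective).equiv h.syl.toSylow).trans
        ((subgroupOfEquivOfLe inf_le_left).trans ((MulEquiv.subgroupCongr R.symm).trans
          (MonoidHom.ofInjective JF_inj).symm)))⟩⟩
  grp K _ _ _ Γ := by
    haveI := Fintype.ofFinite K
    obtain ⟨m, hc⟩ := card_odd (K := K)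
    obtain ⟨σ, h⟩ := af hc
    refine gd_of h (subset_closure ⟨_, .inl ⟨1, .inr rfl⟩, (word_eq ifF4 [(rtF 14, _), (rtF 23, _)]).2 ?_⟩)
      (subset_closure ⟨_, .inr ⟨0, 1, .inr rfl⟩,
        (word_eq ifF4 [(rtF 20, _), (rtF 22, _), (rtF 19, _), (rtF 17, _)]).2 ?_⟩) Γ <;>
    simp [xf, ifF4.xu_zero]

end Cfsg.Agent.Rf.LL
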