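import Cfsg.Agent.Rf.C2
import Cfsg.Agent.H8.AutP

/-! Automorphisms of `QL` and of `S` in coordinates. -/

set_option autoImplicit false
set_option linter.unusedSectionVars false

open Equiv

namespace Cfsg.Agent.Rf

open Cfsg.Fus Cfsg.FusionSystem U

variable {K : Type} [Field K] [Finite K] [TF K]

section Gen
variable {V : Type} [AddCommGroup V] [Module K V] {Q : Subgroup (U K)} {π : U K → V} {σ : Perm (U K)}

theorem exists_sem (surj : ∀ v, ∃ x ∈ Q, π x = v) (f : K → K) (add : ∀ s t, f (s + t) = f s + f t)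
    (h1 : f 1 ≠ 0) {x0 : U K} (hx : x0 ∈ Q) (h0 : π (σ x0) ≠ 0)
    (H : ∀ x ∈ Q, ∀ y ∈ Q, ∀ u w : K, u • π x = w • π y → f u • π (σ x) = f w • π (σ y)) : ∃ γ, Sem Q π σ γ := by
  have h2 : ∀ x ∈ Q, ∀ y ∈ Q, ∀ c : K, π y = c • π x → π (σ y) = (f c / f 1) • π (σ x) := fun x hx y hy c e => by
    rw [div_eq_inv_mul, mul_smul, H x hx y hy c 1 (by rw [e, one_smul]), inv_smul_smul₀ h1]
  let g : K →+* K :=
    { toFun := fun c => f c / f 1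
      map_one' := div_self h1
      map_zero' := by rw [show f 0 = 0 by simpa using add 0 0, zero_div]
      map_add' := fun s t => by rw [add, add_div]
      map_mul' := fun s t => by
        obtain ⟨y, hy, e⟩ := surj (t • π x0)
        have := H _ hx y hy (s * t) s (by rw [e, mul_smul])
        rw [h2 _ hx y hy t e, smul_smul] at this
        rw [smul_left_injective K h0 this]
        ring }
  exact ⟨RingEquiv.ofBijective g (Finite.injective_iff_bijective.1 g.injective), h2⟩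

theorem ne_of_sem (semi : ∀ σ ∈ autStab Q, ∃ γ, Sem Q π σ γ) (hσ : σ ∈ autStab Q) {x : U K} (hx : x ∈ Q)
    (h : π x ≠ 0) : π (σ x) ≠ 0 := fun e => by
  obtain ⟨γ, hγ⟩ := semi _ (inv_mem hσ)
  have := hγ x hx _ (RO.mem hσ hx) 0 (by rw [e, zero_smul])
  rw [inv_app, map_zero, zero_smul] at this
  exact h this

theorem Sem.add {γ : K ≃+* K} (h : Sem Q π σ γ) (hom : ∀ x ∈ Q, ∀ y ∈ Q, π (x * y) = π x + π y)
    (hσ : σ ∈ autStab Q) {x y z : U K} (hx : x ∈ Q) (hy : y ∈ Q) (hz : z ∈ Q) (e : π z = π x + π y) :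
    π (σ z) = π (σ x) + π (σ y) := by
  rw [h _ (mul_mem hx hy) z hz 1 (by rw [e, hom x hx y hy, one_smul]), map_one, one_smul, hσ.1.map_mul hx hy,
    hom _ (RO.mem hσ hx) _ (RO.mem hσ hy)]

/-- `g` is central in `Q` -/
def C1 (Q : Subgroup (U K)) (g : U K) : Prop := ∀ k ∈ Q, g * k = k * g

/-- `g` lies in the second centre of `Q` -/
def C2 (Q : Subgroup (U K)) (g : U K) : Prop := ∀ k ∈ Q, C1 Q (g * k * g⁻¹ * k⁻¹)

theorem map_cm (hσ : σ ∈ autStab Q) {x y : U K} (hx : x ∈ Q) (hy : y ∈ Q) :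
    σ (x * y * x⁻¹ * y⁻¹) = σ x * σ y * (σ x)⁻¹ * (σ y)⁻¹ := hσ.1.map_commutator hx hy

theorem cm_mem {x y : U K} (hx : x ∈ Q) (hy : y ∈ Q) : x * y * x⁻¹ * y⁻¹ ∈ Q :=
  mul_mem (mul_mem (mul_mem hx hy) (inv_mem hx)) (inv_mem hy)

theorem C1.map {g : U K} (h : C1 Q g) (hσ : σ ∈ autStab Q) (hg : g ∈ Q) : C1 Q (σ g) := fun k hk => by
  have hk' := RO.mem (inv_mem hσ) hk
  rw [← app_inv σ k, ← hσ.1.map_mul hg hk', h _ hk', hσ.1.map_mul hk' hg]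

theorem C2.map {g : U K} (h : C2 Q g) (hσ : σ ∈ autStab Q) (hg : g ∈ Q) : C2 Q (σ g) := fun k hk => by
  have hk' := RO.mem (inv_mem hσ) hk
  rw [← app_inv σ k, ← map_cm hσ hg hk']
  exact (h _ hk').map hσ (cm_mem hg hk')

/-- `D` contains the Frattini subgroup of `Q` -/
structure Fr (Q D : Subgroup (U K)) : Prop where
  sq : ∀ x ∈ Q, x * x ∈ D
  cm : ∀ x ∈ Q, ∀ y ∈ Q, x * y * x⁻¹ * y⁻¹ ∈ D

theorem fr (Q : Subgroup (U K)) : Fr Q ((frattini Q).map Q.subtype) :=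
  haveI : Fact (Nat.Prime 2) := ⟨Nat.prime_two⟩
  ⟨fun x hx => ⟨_, H8.pow_mem_frattini (isP Q) ⟨x, hx⟩, pow_two x⟩,
    fun x hx y hy => ⟨_, H8.comm_mem_frattini (isP Q) ⟨x, hx⟩ ⟨y, hy⟩, rfl⟩⟩

theorem two_of (hσ : σ ∈ autStab Q) (H : ∀ D, Fr Q D → ∀ x ∈ Q, x⁻¹ * σ x ∈ D) : ∃ k, σ ^ 2 ^ k ∈ fixP Q := by
  haveI : Fact (Nat.Prime 2) := ⟨Nat.prime_two⟩
  obtain ⟨k, hk⟩ := H8.exists_pow_eq_one_of_cent_frattini (isP Q) (α := resAut Q σ) fun x => by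
    obtain ⟨y, hy, e⟩ := H _ (fr Q) x x.2
    rwa [show x⁻¹ * resAut Q σ x = y from Subtype.ext (by rw [Subgroup.coe_mul, resAut_apply hσ]; exact e.symm)]
  exact ⟨k, (resAut_eq_one_iff (pow_mem hσ _)).1 (((homOn_resAut Q).map_pow hσ _).trans hk)⟩

theorem fix_of (hσ : σ ∈ autStab Q) (H : ∀ D, Fr Q D → ∀ x ∈ Q, ∃ y ∈ Q, σ y = y ∧ y⁻¹ * x ∈ D) :
    σ ∈ fixP Q := by
  rw [← resAut_eq_one_iff hσ, ← H8.fixAut_eq_top]
  refine frattini_nongenerating (eq_top_iff.2 fun x _ => ?_)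
  obtain ⟨y, hy, e, z, hz, e'⟩ := H _ (fr Q) x x.2
  rw [show x = ⟨y, hy⟩ * z from Subtype.ext (eq_mul_of_inv_mul_eq e'.symm)]
  exact mul_mem (Subgroup.mem_sup_left (Subtype.ext ((resAut_apply hσ _).trans e))) (Subgroup.mem_sup_right hz)

end Gen

theorem nm_surj (u : K) : ∃ t : K, t * φ t = u := by
  rcases eq_or_ne u 0 with rfl | h
  · exact ⟨0, zero_mul _⟩
  · have := φ_ne_zero h
    exact ⟨φ u / u, by rw [map_div₀, φφ]; field_simp⟩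

theorem nm_inj {x y : K} (h : x * φ x = y * φ y) : x = y :=
  Finite.injective_iff_surjective.2 (nm_surj (K := K)) h

theorem φ_ne {c : K} (h0 : c ≠ 0) (h1 : c ≠ 1) : φ c ≠ c := fun e => by
  have := φφ c
  rw [e, e] at this
  grind

theorem wts {c : K} (h0 : c ≠ 0) (h1 : c ≠ 1) : φ c ≠ 0 ∧ φ c ≠ 1 ∧ c * φ c ≠ 1 ∧ c ^ 2 * φ c ≠ 1 ∧
    c ^ 2 * φ c ^ 2 ≠ 1 ∧ c ^ 3 * φ c ^ 2 ≠ 1 := by
  have h3 : ∀ c : K, c ≠ 1 → c * φ c ≠ 1 := fun c h e => h (nm_inj (by simpa using e))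
  have := h3 c h1
  refine ⟨φ_ne_zero h0, by simpa using h1, this, fun e => h1 (sq_φ e), by grind, fun e => h3 _ this ?_⟩
  rw [map_mul, φφ, ← e]
  ring

theorem van {w x : K} (h : x = w * x) (hw : w ≠ 1) : x = 0 := by grind

theorem f_zero (hq : ∃ c : K, c ≠ 0 ∧ c ≠ 1) (f : K → K) (add : ∀ s t, f (s + t) = f s + f t)
    (hs : ∀ a, a ≠ 0 → f a = a * φ a * f 1) (t : K) : f t = 0 := by
  obtain ⟨c, h0, h1⟩ := hq
  have e := add c 1
  have := φ_ne h0 h1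
  rw [hs c h0, hs (c + 1) (by grind), map_add, map_one] at e
  have h2 : f 1 = 0 := by grind
  rcases eq_or_ne t 0 with rfl | h
  · simpa using add 0 0
  · rw [hs t h, h2, mul_zero]

theorem mem_of_dec {D : Subgroup (U K)} {x : U K} (h1 : Y1 x.y1 ∈ D) (h2 : X1 x.x1 ∈ D) (h3 : X2 x.x2 ∈ D)
    (h4 : Y3 x.y3 ∈ D) (h5 : X3 x.x3 ∈ D) (h6 : X4 x.x4 ∈ D) (h7 : Y5 x.y5 ∈ D) (h8 : X5 x.x5 ∈ D)
    (h9 : X6 x.x6 ∈ D) (h10 : Y7 x.y7 ∈ D) (h11 : X7 x.x7 ∈ D) (h12 : X8 x.x8 ∈ D) : x ∈ D := by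
  rw [dec x]
  exact mul_mem h1 (mul_mem h2 (mul_mem h3 (mul_mem h4 (mul_mem h5 (mul_mem h6 (mul_mem h7 (mul_mem h8
    (mul_mem h9 (mul_mem h10 (mul_mem h11 h12))))))))))

theorem Y1_sq (t : K) : Y1 t * Y1 t = X1 (t * φ t) := by ext <;> usimp <;> grind
theorem Y3_sq (t : K) : Y3 t * Y3 t = X3 (t * φ t) := by ext <;> usimp <;> grind
theorem Y5_sq (t : K) : Y5 t * Y5 t = X5 (t * φ t) := by ext <;> usimp <;> grind
theorem Y7_sq (t : K) : Y7 t * Y7 t = X7 (t * φ t) := by ext <;> usimp <;> grind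
theorem cm_X2 (t : K) : Y3 t * Y1 1 * (Y3 t)⁻¹ * (Y1 1)⁻¹ = X2 t := by ext <;> usimp <;> grind
theorem cm_X4 (t : K) : Y5 t * Y3 1 * (Y5 t)⁻¹ * (Y3 1)⁻¹ = X4 t := by ext <;> usimp <;> grind
theorem cm_X6 (t : K) : Y7 t * Y5 1 * (Y7 t)⁻¹ * (Y5 1)⁻¹ = X6 t := by ext <;> usimp <;> grind

theorem Fr.A {Q D : Subgroup (U K)} (h : Fr Q D) (h3 : ∀ t, Y3 t ∈ Q) (h5 : ∀ t, Y5 t ∈ Q) (h7 : ∀ t, Y7 t ∈ Q)
    (t : K) : X3 t ∈ D ∧ X4 t ∈ D ∧ X5 t ∈ D ∧ X6 t ∈ D ∧ X7 t ∈ D := by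
  obtain ⟨s, e⟩ := nm_surj t
  exact ⟨e ▸ Y3_sq s ▸ h.sq _ (h3 s), cm_X4 t ▸ h.cm _ (h5 t) _ (h3 1), e ▸ Y5_sq s ▸ h.sq _ (h5 s),
    cm_X6 t ▸ h.cm _ (h7 t) _ (h5 1), e ▸ Y7_sq s ▸ h.sq _ (h7 s)⟩

theorem Fr.L {D : Subgroup (U K)} (h : Fr QL D) (hq : ∃ c : K, c ≠ 0 ∧ c ≠ 1) {x : U K} (h1 : x.y1 = 0)
    (h7 : x.y7 = 0) (h8 : x.x8 = 0) : x ∈ D := by
  obtain ⟨c, c0, c1⟩ := hq
  have hA := h.A (fun _ => rfl) (fun _ => rfl) fun _ => rfl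
  have h0 : ∀ x : U K, x.y1 = 0 → x.y7 = 0 → x.x8 = 0 → Y3 x.y3 ∈ D → Y5 x.y5 ∈ D → x ∈ D :=
    fun x h1 h7 h8 h3 h5 => by
      obtain ⟨s, e⟩ := nm_surj x.x1
      exact mem_of_dec (h1 ▸ D.one_mem) (e ▸ Y1_sq s ▸ h.sq _ rfl) (cm_X2 x.x2 ▸ h.cm _ rfl _ rfl) h3 (hA _).1
        (hA _).2.1 h5 (hA _).2.2.1 (hA _).2.2.2.1 (h7 ▸ D.one_mem) (hA _).2.2.2.2 (h8 ▸ D.one_mem)
  have hc : ∀ t u : K, Y3 (φ t * u) * Y5 (t * φ u) ∈ D := fun t u => by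
    have := h.cm (Y7 u) rfl (Y1 t) rfl
    rw [← mul_mem_cancel_right (inv_mem this)]
    refine h0 _ ?_ ?_ ?_ (by convert D.one_mem; usimp; congr; grind) (by convert D.one_mem; usimp; congr; grind) <;>
      usimp <;> grind
  have h5 : ∀ t : K, Y5 t ∈ D := fun t => by
    have e := mul_mem (hc (t / (1 + c⁻¹)) 1) (hc (c * (t / (1 + c⁻¹))) (φ c)⁻¹)
    rw [← mul_mem_cancel_right (inv_mem e)]
    have := φ_ne_zero c0
    have : 1 + c⁻¹ ≠ 0 := by grind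
    refine h0 _ ?_ ?_ ?_ (by convert D.one_mem; usimp; congr; grind)
      (by convert D.one_mem; usimp; congr; simp only [map_inv₀, φφ]; grind) <;> usimp <;> grind
  refine h0 x h1 h7 h8 ?_ (h5 _)
  simpa using (mul_mem_cancel_right (h5 _)).1 (hc 1 x.y3)

theorem cenL {g : U K} (hg : g ∈ QL) (H : ∀ k ∈ QL, (g * k * g⁻¹ * k⁻¹).x2 = 0 ∧ (g * k * g⁻¹ * k⁻¹).x4 = 0 ∧
    (g * k * g⁻¹ * k⁻¹).x6 = 0) : g = ⟨0, 0, 0, 0, g.x3, g.x4, 0, g.x5, 0, 0, 0, 0⟩ := by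
  obtain ⟨y1, x1, x2, y3, x3, x4, y5, x5, x6, y7, x7, x8⟩ := g
  obtain rfl : x8 = 0 := hg
  obtain rfl : y1 = 0 := by have := (H (Y3 1) rfl).1; revert this; usimp; grind
  obtain rfl : y7 = 0 := by have := (H (Y5 1) rfl).2.2; revert this; usimp; grind
  obtain rfl : y3 = 0 := by have := (H (Y1 1) rfl).1; revert this; usimp; grind
  obtain rfl : y5 = 0 := by have := (H (Y3 1) rfl).2.1; revert this; usimp; grind
  obtain rfl : x1 = 0 := by have := (H (Y7 1) rfl).1; revert this; usimp; grind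
  obtain rfl : x7 = 0 := by have := (H (Y1 1) rfl).2.2; revert this; usimp; grind
  obtain rfl : x2 = 0 := by have := (H (Y7 1) rfl).2.1; revert this; usimp; grind
  obtain rfl : x6 = 0 := by have := (H (Y1 1) rfl).2.1; revert this; usimp; grind
  rfl

theorem C1.L {g : U K} (h : C1 QL g) (hg : g ∈ QL) : g.x2 = 0 ∧ g.x4 = 0 ∧ g.x6 = 0 := by
  have e := cenL hg fun k hk => by rw [h k hk, mul_inv_cancel_right, mul_inv_cancel]; exact ⟨rfl, rfl, rfl⟩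
  have := congrArg U.x3 (h (Y1 1) rfl)
  rw [e] at this ⊢
  revert this
  usimp
  grind

theorem homL (x : U K) (hx : x ∈ QL) (y : U K) : πL (x * y) = πL x + πL y := by
  simp only [πL, Prod.mk_add_mk]
  usimp
  simp [show x.x8 = 0 from hx]

theorem surjL (v : K × K) : ∃ x ∈ QL, πL x = v := ⟨⟨v.1, 0, 0, 0, 0, 0, 0, 0, 0, v.2, 0, 0⟩, rfl, rfl⟩

theorem cm_L {x : U K} (hx : x ∈ QL) (a u b : K) :
    x * ⟨0, 0, 0, 0, a, u, 0, b, 0, 0, 0, 0⟩ * x⁻¹ * (⟨0, 0, 0, 0, a, u, 0, b, 0, 0, 0, 0⟩ : U K)⁻¹ =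
      ⟨0, 0, 0, 0, (u • πL x).1, 0, 0, (u • πL x).2, 0, 0, 0, 0⟩ := by
  obtain ⟨y1, x1, x2, y3, x3, x4, y5, x5, x6, y7, x7, x8⟩ := x
  obtain rfl : x8 = 0 := hx
  ext <;> simp only [πL, Prod.smul_mk, smul_eq_mul] <;> usimp <;> grind

theorem semiL (σ : Perm (U K)) (hσ : σ ∈ autStab QL) : ∃ γ, Sem QL πL σ γ := by
  have h1 : ∀ u, σ (X4 u) = ⟨0, 0, 0, 0, _, _, 0, _, 0, 0, 0, 0⟩ := fun u =>
    cenL (RO.mem hσ rfl) fun k hk => (C2.map (Q := QL) (g := X4 u) (fun k hk l hl => by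
      have hl : l.x8 = 0 := hl
      rw [← inv_inv (_ * k⁻¹), show (X4 u * k * (X4 u)⁻¹ * k⁻¹)⁻¹ = k * X4 u * k⁻¹ * (X4 u)⁻¹ by group, X4,
        cm_L hk]
      ext <;> usimp <;> simp [hl, add_comm]) hσ rfl k hk).L (cm_mem (RO.mem hσ rfl) hk)
  have h2 : ∀ x ∈ QL, ∀ u, σ ⟨0, 0, 0, 0, (u • πL x).1, 0, 0, (u • πL x).2, 0, 0, 0, 0⟩ =
      ⟨0, 0, 0, 0, ((σ (X4 u)).x4 • πL (σ x)).1, 0, 0, ((σ (X4 u)).x4 • πL (σ x)).2, 0, 0, 0, 0⟩ := fun x hx u => by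
    rw [← cm_L hx 0 u 0, map_cm hσ hx rfl, ← cm_L (RO.mem hσ hx), ← h1]
    rfl
  have h3 : (σ (X4 1)).x4 • πL (σ (Y1 1)) ≠ 0 := fun e => by
    have := h2 (Y1 1) rfl 1
    rw [e] at this
    have := σ.injective (this.trans hσ.1.map_one.symm)
    exact one_ne_zero ((one_mul _).symm.trans (congrArg U.x3 this))
  refine exists_sem surjL (fun u => (σ (X4 u)).x4) (fun s t => ?_) (left_ne_zero_of_smul h3) (x0 := Y1 1) rfl
    (right_ne_zero_of_smul h3) fun x hx y hy u w e => ?_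
  · rw [show X4 (s + t) = X4 s * X4 t by ext <;> usimp, hσ.1.map_mul rfl rfl, h1 s, h1 t]
    usimp
  · have := (h2 x hx u).symm.trans (e ▸ h2 y hy w)
    exact Prod.ext (congrArg U.x3 this) (congrArg U.x5 this)

theorem cj8 (s : K) {x : U K} (hx : x ∈ QL) : πL (X8 s * x * (X8 s)⁻¹) = (x.y1, x.y7 + s * x.y1) := by
  have hx : x.x8 = 0 := hx
  simp only [πL, Prod.mk.injEq]
  constructor <;> usimp <;> simp only [hx] <;> grind

theorem formL {σ : Perm (U K)} (hσ : σ ∈ autStab QL) {γ : K ≃+* K} (h : Sem QL πL σ γ) {x : U K} (hx : x ∈ QL) :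
    πL (σ x) = γ x.y1 • πL (σ (Y1 1)) + γ x.y7 • πL (σ (Y7 1)) := by
  rw [h.add (fun x hx y _ => homL x hx y) hσ (x := Y1 x.y1) (y := Y7 x.y7) rfl rfl hx (by simp [πL, Y1, Y7]),
    h (Y1 1) rfl (Y1 x.y1) rfl x.y1 (by simp [πL, Y1]), h (Y7 1) rfl (Y7 x.y7) rfl x.y7 (by simp [πL, Y7])]

theorem fixY1 (hq : ∃ c : K, c ≠ 0 ∧ c ≠ 1) {Q : Subgroup (U K)} {σ : Perm (U K)} (hσ : σ ∈ autStab Q)
    (hm : ∀ t, Y1 t ∈ Q) (h1 : ∀ t, (σ (Y1 t)).y1 = t)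
    (H : ∀ a b : Kˣ, ∀ x ∈ Q, σ (aup a b 1 x) = aup a b 1 (σ x)) (t : K) : σ (Y1 t) = Y1 t := by
  obtain ⟨c, c0, c1⟩ := id hq
  have hw := wts c0 c1
  have h2 : ∀ t, σ (Y1 t) = ⟨t, (σ (Y1 t)).x1, 0, 0, 0, 0, 0, 0, 0, 0, 0, 0⟩ := fun t => by
    have e := H 1 (Units.mk0 c c0) _ (hm t)
    rw [show aup 1 (Units.mk0 c c0) 1 (Y1 t) = Y1 t by ext <;> simp [aup_apply, au, Y1]] at e
    simp only [U.ext_iff, aup_apply, au, Units.val_one, Units.val_mk0, RingAut.one_apply, map_one] at e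
    obtain ⟨-, -, e2, e3, e4, e5, e6, e7, e8, e9, e10, e11⟩ := e
    exact U.ext (h1 t) rfl (van e2 (by grind)) (van e3 (by grind)) (van e4 (by grind)) (van e5 (by grind))
      (van e6 (by grind)) (van e7 (by grind)) (van e8 (by grind)) (van e9 (by grind)) (van e10 (by grind))
      (van e11 (by grind))
  have h3 : ∀ t, σ (X1 t) = X1 t := fun t => by
    obtain ⟨s, rfl⟩ := nm_surj t
    rw [← Y1_sq, hσ.1.map_mul (hm s) (hm s), h2]
    ext <;> usimp <;> grind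
  have h4 := f_zero hq (fun t => (σ (Y1 t)).x1) (fun s t => by
    have m : X1 (s * φ t) ∈ Q := by obtain ⟨r, e⟩ := nm_surj (s * φ t); exact e ▸ Y1_sq r ▸ mul_mem (hm r) (hm r)
    have e := hσ.1.map_mul (hm s) (hm t)
    rw [show Y1 s * Y1 t = Y1 (s + t) * X1 (s * φ t) by ext <;> usimp, hσ.1.map_mul (hm _) m, h3] at e
    have := congrArg U.x1 e
    revert this
    usimp
    simp only [← Y1.eq_1, h1]
    grind) fun a ha => by
      have e := congrArg U.x1 (H (Units.mk0 a ha) 1 _ (hm 1))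
      rwa [show aup (Units.mk0 a ha) 1 1 (Y1 1) = Y1 a by ext <;> simp [aup_apply, au, Y1]] at e
  rw [h2, h4]
  rfl

theorem fixY7 (hq : ∃ c : K, c ≠ 0 ∧ c ≠ 1) {Q : Subgroup (U K)} {σ : Perm (U K)} (hσ : σ ∈ autStab Q)
    (hm : ∀ t, Y7 t ∈ Q) (h1 : ∀ t, (σ (Y7 t)).y7 = t)
    (H : ∀ a b : Kˣ, ∀ x ∈ Q, σ (aup a b 1 x) = aup a b 1 (σ x)) (t : K) : σ (Y7 t) = Y7 t := by
  obtain ⟨c, c0, c1⟩ := id hq
  have hw := wts c0 c1
  have h2 : ∀ t, σ (Y7 t) = ⟨0, 0, 0, 0, 0, 0, 0, 0, 0, t, (σ (Y7 t)).x7, 0⟩ := fun t => by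
    have e := H (Units.mk0 c c0) (Units.mk0 c c0)⁻¹ _ (hm t)
    rw [show aup (Units.mk0 c c0) (Units.mk0 c c0)⁻¹ 1 (Y7 t) = Y7 t by ext <;> simp [aup_apply, au, Y7, c0]] at e
    simp only [U.ext_iff, aup_apply, au, Units.val_inv_eq_inv_val, Units.val_mk0, RingAut.one_apply, map_inv₀] at e
    obtain ⟨e0, e1, e2, e3, e4, e5, e6, e7, e8, -, -, e11⟩ := e
    have := hw.1
    refine U.ext (van e0 ?_) (van e1 ?_) (van e2 ?_) (van e3 ?_) (van e4 ?_) (van e5 ?_) (van e6 ?_) (van e7 ?_)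
      (van e8 ?_) (h1 t) rfl (van e11 ?_) <;> intro h <;> (try field_simp at h) <;> grind
  have h3 : ∀ t, σ (X7 t) = X7 t := fun t => by
    obtain ⟨s, rfl⟩ := nm_surj t
    rw [← Y7_sq, hσ.1.map_mul (hm s) (hm s), h2]
    ext <;> usimp <;> grind
  have h4 := f_zero hq (fun t => (σ (Y7 t)).x7) (fun s t => by
    have m : X7 (s * φ t) ∈ Q := by obtain ⟨r, e⟩ := nm_surj (s * φ t); exact e ▸ Y7_sq r ▸ mul_mem (hm r) (hm r)
    have e := hσ.1.map_mul (hm s) (hm t)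
    rw [show Y7 s * Y7 t = Y7 (s + t) * X7 (s * φ t) by ext <;> usimp, hσ.1.map_mul (hm _) m, h3, h2 s, h2 t,
      h2 (s + t)] at e
    have := congrArg U.x7 e
    revert this
    simp only [mul_x7, mx7, X7, map_zero, mul_zero, zero_mul, add_zero]
    grind) fun a ha => by
      have e := congrArg U.x7 (H 1 (Units.mk0 a ha) _ (hm 1))
      rw [show aup 1 (Units.mk0 a ha) 1 (Y7 1) = Y7 a by ext <;> simp [aup_apply, au, Y7]] at e
      simpa [aup_apply, au] using e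
  rw [h2, h4]
  rfl

instance instRL : RL := ⟨fun {K} _ _ _ hq =>
  { nrm := fun s x hx => (cj_x8 s x).trans hx
    hom := fun x hx y _ => homL x hx y
    surj := surjL
    m0 := rfl
    m1 := rfl
    ind := fun c d e => by simpa [πL, Y1, Y7, eq_comm, and_comm] using e
    cj0 := fun s => by
      simp only [πL, Prod.mk.injEq]
      constructor <;> usimp <;> grind
    cjS := fun s x (hx : x.x8 = 0) y (hy : y.x8 = 0) c e => by
      simp only [πL, Prod.smul_mk, smul_eq_mul, Prod.mk.injEq, cj_apply, RingAut.one_apply] at e ⊢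
      constructor <;> usimp <;> simp only [hx, hy, e.1, e.2] <;> grind
    auQ := fun a b γ x (hx : x.x8 = 0) => show _ * γ x.x8 = 0 by simp [hx]
    auS := fun a b γ x _ y _ c e => by
      simp only [πL, Prod.smul_mk, smul_eq_mul, Prod.mk.injEq, aup_apply, au] at e ⊢
      simp only [e.1, e.2, map_mul]
      constructor <;> ring
    au0 := fun a b γ => ⟨a * b, by simp [πL, aup_apply, au, Y7]⟩
    au1 := fun a b γ => ⟨a, by simp [πL, aup_apply, au, Y1]⟩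
    semi := semiL
    pt := fun σ hσ g hg => by
      have hm : σ g ∈ QL := RO.mem hσ (by rcases hg with rfl | rfl <;> rfl)
      by_cases h : (σ g).y1 = 0
      · exact Or.inl ⟨(σ g).y7, by simp [πL, Y7, h]⟩
      · refine Or.inr ⟨X8 ((σ g).y7 / (σ g).y1), (σ g).y1, ?_⟩
        rw [Perm.mul_apply, cj_apply, cj8 _ hm, div_mul_cancel₀ _ h, CharTwo.add_self_eq_zero]
        simp [πL, Y1]
    fl := fun σ hσ ⟨c, h0⟩ ⟨d, h1⟩ => by
      obtain ⟨γ, hγ⟩ := semiL σ hσ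
      have hc : c ≠ 0 := fun e => ne_of_sem semiL hσ (x := Y7 1) rfl (by simp [πL, Y7]) (by rw [h0, e, zero_smul])
      have hd : d ≠ 0 := fun e => ne_of_sem semiL hσ (x := Y1 1) rfl (by simp [πL, Y1]) (by rw [h1, e, zero_smul])
      refine ⟨Units.mk0 d hd, Units.mk0 c hc / Units.mk0 d hd, γ, fun x hx => ?_⟩
      rw [formL hσ hγ hx, h0, h1]
      simp [πL, aup_apply, au, Y1, Y7, mul_comm, mul_div_cancel₀ _ hd]
    two := fun σ hσ h => two_of hσ fun D hD x hx => by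
      have e := h x hx
      have e8 : (σ x).x8 = 0 := RO.mem hσ hx
      have hx : x.x8 = 0 := hx
      simp only [πL, Prod.mk.injEq] at e
      refine hD.L hq ?_ ?_ ?_ <;> usimp <;> simp only [e.1, e.2, e8, hx] <;> grind
    cen := fun σ hσ h H => fix_of hσ fun D hD x (hx : x.x8 = 0) => ⟨Y1 x.y1 * Y7 x.y7, mul_mem rfl rfl, by
      rw [hσ.1.map_mul rfl rfl, fixY1 hq hσ (fun _ => rfl) (fun t => congrArg Prod.fst (h _ rfl)) H,
        fixY7 hq hσ (fun _ => rfl) (fun t => congrArg Prod.snd (h _ rfl)) H], by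
      refine hD.L hq ?_ ?_ ?_ <;> usimp <;> grind⟩ }⟩

instance instRT : RT where
  dec {K} _ _ _ σ hσ hL hS := by
    have hσ' : σ ∈ autStab QL := ⟨hσ.1.mono le_top, hL⟩
    obtain ⟨γ, hγ⟩ := semiL σ hσ'
    have h7 : (σ (Y7 1)).y1 = 0 := ((hS _).2 ⟨rfl, rfl⟩).1
    have h8 : ∀ s, (σ (X8 s)).y1 = 0 := fun s => ((hS _).2 ⟨rfl, rfl⟩).1
    have hc : (σ (Y7 1)).y7 ≠ 0 := fun e =>
      ne_of_sem semiL hσ' (x := Y7 1) rfl (by simp [πL, Y7]) (Prod.ext h7 e)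
    have h1 : (σ (Y1 1)).x8 = 0 := (hL _).2 rfl
    have h2 : ∀ s, (σ (X8 s)).x8 * (σ (Y1 1)).y1 = γ s * (σ (Y7 1)).y7 := fun s => by
      have e := congrArg Prod.snd (hγ (Y7 1) rfl (X8 s * Y1 1 * (X8 s)⁻¹ * (Y1 1)⁻¹) (by
        change U.x8 _ = 0; usimp; grind) s (by
        simp only [πL, Prod.smul_mk, smul_eq_mul, Prod.mk.injEq]; constructor <;> usimp <;> grind))
      rw [map_cm hσ trivial trivial] at e
      simp only [πL, Prod.smul_mk, smul_eq_mul] at e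
      rw [← e]
      generalize σ (X8 s) = u at *
      generalize σ (Y1 1) = w at *
      simp only [mul_y7, my7, inv_y7, iy7, mul_x8, mx8, inv_x8, ix8, inv_y1, iy1, h1]
      grind
    have ha : (σ (Y1 1)).y1 ≠ 0 := fun e => hc (by simpa [e] using (h2 1).symm)
    refine ⟨Units.mk0 _ ha, Units.mk0 _ hc / Units.mk0 _ ha, γ, fun x => ?_⟩
    have hm : x * (X8 x.x8)⁻¹ ∈ QL := by change U.x8 _ = 0; usimp; grind
    have e1 := congrArg Prod.fst (formL hσ' hγ hm)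
    have e8 : (σ (x * (X8 x.x8)⁻¹)).x8 = 0 := (hL _).2 hm
    have e0 : (x * (X8 x.x8)⁻¹).y1 = x.y1 := by usimp
    rw [← inv_mul_cancel_right x (X8 x.x8), hσ.1.map_mul trivial trivial, inv_mul_cancel_right, mul_y1, mul_x8, my1,
      mx8, h8, e8]
    simp only [πL, Prod.smul_mk, smul_eq_mul, Prod.mk_add_mk, h7, e0] at e1
    have := h2 x.x8
    simp only [e1, Units.val_mk0, Units.val_div_eq_div_val]
    grind
  two {K} _ _ _ hq σ hσ h := by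
    obtain ⟨k, hk⟩ := two_of hσ fun D hD x _ => by
      have hL : Fr QL D := ⟨fun x _ => hD.sq x trivial, fun x _ y _ => hD.cm x trivial y trivial⟩
      rw [← mul_mem_cancel_right (hD.cm (X8 (x⁻¹ * σ x).y7) trivial (Y1 1) trivial)]
      have e1 : (x⁻¹ * σ x).y1 = 0 := by usimp; rw [(h x).1]; grind
      have e8 : (x⁻¹ * σ x).x8 = 0 := by usimp; rw [(h x).2]; grind
      generalize x⁻¹ * σ x = u at *
      refine hL.L hq ?_ ?_ ?_ <;> usimp <;> simp only [e1, e8] <;> grind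
    exact ⟨k, Equiv.ext fun x => hk x trivial⟩

end Cfsg.Agent.Rf
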