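import Cfsg.Agent.Rf.R1

/-! Automorphisms of `QS` in coordinates. -/

set_option autoImplicit false
set_option linter.unusedSectionVars false

open Equiv

namespace Cfsg.Agent.Rf

open Cfsg.Fus Cfsg.FusionSystem U

variable {K : Type} [Field K] [Finite K] [TF K] {σ : Perm (U K)}

/-- elements of `A` -/
def eA (v : K × K × K × K) (z : K) : U K := ⟨0, 0, 0, 0, v.1, v.2.1, 0, z, v.2.2.1, 0, v.2.2.2, 0⟩

/-- coordinates on `A / Z` -/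
def ζ (g : U K) : K × K × K × K := (g.x3, g.x4, g.x6, g.x7)

theorem eA_mem (v : K × K × K × K) (z : K) : eA v z ∈ QS := ⟨rfl, rfl⟩

theorem cenS {g : U K} (hg : g ∈ QS) (H : ∀ k ∈ QS, ζ (g * k * g⁻¹ * k⁻¹) = 0) : g = eA (ζ g) g.x5 := by
  obtain ⟨y1, x1, x2, y3, x3, x4, y5, x5, x6, y7, x7, x8⟩ := g
  obtain ⟨rfl, rfl⟩ : y1 = 0 ∧ x1 = 0 := hg
  have h1 := H (Y5 1) ⟨rfl, rfl⟩
  have h2 := H (X2 1) ⟨rfl, rfl⟩
  simp only [ζ, Prod.mk_eq_zero] at h1 h2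
  obtain rfl : x8 = 0 := by have := h1.2.2.2; revert this; usimp; grind
  obtain rfl : y7 = 0 := by have := h1.2.2.1; revert this; usimp; grind
  obtain rfl : y3 = 0 := by have := h1.2.1; revert this; usimp; grind
  obtain rfl : x2 = 0 := by have := h1.1; revert this; usimp; grind
  obtain rfl : y5 = 0 := by have := h2.1; revert this; usimp; grind
  rfl

theorem C1.S {g : U K} (h : C1 QS g) (hg : g ∈ QS) : g = eA 0 g.x5 := by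
  have e := cenS hg fun k hk => by rw [h k hk, mul_inv_cancel_right, mul_inv_cancel]; rfl
  have h1 := congrArg U.x5 (h (X2 1) ⟨rfl, rfl⟩)
  have h2 := congrArg U.x5 (h (Y3 1) ⟨rfl, rfl⟩)
  have h3 := congrArg U.x5 (h (Y7 1) ⟨rfl, rfl⟩)
  have h4 := congrArg U.x5 (h (X8 1) ⟨rfl, rfl⟩)
  rw [e] at h1 h2 h3 h4 ⊢
  revert h1 h2 h3 h4
  simp only [eA, ζ]
  usimp
  intro h1 h2 h3 h4
  ext <;> simp <;> grind

theorem c1_eA (z : K) : C1 QS (eA 0 z) := fun k hk => by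
  ext <;> simp only [eA, Prod.fst_zero, Prod.snd_zero] <;> usimp <;> ring

theorem cm_eA (v : K × K × K × K) (z : K) {k : U K} (hk : k ∈ QS) :
    eA v z * k * (eA v z)⁻¹ * k⁻¹ = eA 0 (v.1 * k.x8 + v.2.1 * k.y7 + v.2.2.1 * k.y3 + v.2.2.2 * k.x2) := by
  obtain ⟨y1, x1, x2, y3, x3, x4, y5, x5, x6, y7, x7, x8⟩ := k
  obtain ⟨rfl, rfl⟩ : y1 = 0 ∧ x1 = 0 := hk
  ext <;> simp only [eA, Prod.fst_zero, Prod.snd_zero] <;> usimp <;> grind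

theorem map_eA (hσ : σ ∈ autStab QS) (v : K × K × K × K) (z : K) :
    σ (eA v z) = eA (ζ (σ (eA v z))) (σ (eA v z)).x5 :=
  cenS (RO.mem hσ (eA_mem v z)) fun k hk => by
    rw [(C2.map (Q := QS) (fun k hk => cm_eA v z hk ▸ c1_eA _) hσ (eA_mem v z) k hk).S
      (cm_mem (RO.mem hσ (eA_mem v z)) hk)]
    rfl

theorem ζ_map (hσ : σ ∈ autStab QS) (v : K × K × K × K) (z w : K) : ζ (σ (eA v z)) = ζ (σ (eA v w)) := by
  rw [show eA v z = eA v w * eA 0 (z + w) by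
      ext <;> simp only [eA, Prod.fst_zero, Prod.snd_zero] <;> usimp <;> grind,
    hσ.1.map_mul (eA_mem ..) (eA_mem ..), ((c1_eA _).map hσ (eA_mem ..)).S (RO.mem hσ (eA_mem ..))]
  simp only [eA, Prod.fst_zero, Prod.snd_zero, ζ]
  usimp

theorem map_Y5 (hσ : σ ∈ autStab QS) (u : K) : πS (σ (Y5 u)) = 0 := by
  have hm : Y5 u ∈ QS := ⟨rfl, rfl⟩
  have h : ∀ v : K × K × K × K,
      v.1 * (σ (Y5 u)).x8 + v.2.1 * (σ (Y5 u)).y7 + v.2.2.1 * (σ (Y5 u)).y3 + v.2.2.2 * (σ (Y5 u)).x2 = 0 := fun v => by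
    have e := cm_eA v 0 (RO.mem hσ hm)
    rw [← app_inv σ (eA v 0), ← map_cm hσ (RO.mem (inv_mem hσ) (eA_mem ..)) hm, map_eA (inv_mem hσ), cm_eA _ _ hm] at e
    simp only [Y5, mul_zero, add_zero] at e
    exact (congrArg U.x5 (hσ.1.map_one.symm.trans e)).symm
  have h1 := h (1, 0, 0, 0)
  have h2 := h (0, 1, 0, 0)
  have h3 := h (0, 0, 1, 0)
  have h4 := h (0, 0, 0, 1)
  simp only [mul_zero, zero_mul, add_zero, zero_add, one_mul] at h1 h2 h3 h4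
  simp [πS, h1, h2, h3, h4]

theorem cm_S {x c : U K} (hx : x ∈ QS) (hc : c ∈ QS) (h : πS c = 0) :
    x * c * x⁻¹ * c⁻¹ = eA (c.y5 • πS x) (x * c * x⁻¹ * c⁻¹).x5 := by
  obtain ⟨y1, x1, x2, y3, x3, x4, y5, x5, x6, y7, x7, x8⟩ := x
  obtain ⟨rfl, rfl⟩ : y1 = 0 ∧ x1 = 0 := hx
  obtain ⟨y1', x1', x2', y3', x3', x4', y5', x5', x6', y7', x7', x8'⟩ := c
  obtain ⟨rfl, rfl⟩ : y1' = 0 ∧ x1' = 0 := hc
  obtain ⟨rfl, rfl, rfl, rfl⟩ : x2' = 0 ∧ y3' = 0 ∧ y7' = 0 ∧ x8' = 0 := by simpa [πS] using h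
  ext <;> simp only [eA, πS, Prod.smul_mk, smul_eq_mul] <;> usimp <;> grind

theorem pair (hσ : σ ∈ autStab QS) {x : U K} (hx : x ∈ QS) (u z : K) :
    ζ (σ (eA (u • πS x) z)) = (σ (Y5 u)).y5 • πS (σ x) := by
  have hm : Y5 u ∈ QS := ⟨rfl, rfl⟩
  rw [ζ_map hσ _ z, ← show _ = eA (u • πS x) _ from cm_S hx hm rfl, map_cm hσ hx hm,
    cm_S (RO.mem hσ hx) (RO.mem hσ hm) (map_Y5 hσ u)]
  rfl

theorem homS (x : U K) (_ : x ∈ QS) (y : U K) (hy : y ∈ QS) : πS (x * y) = πS x + πS y := by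
  simp only [πS, Prod.mk_add_mk]
  usimp
  simp [hy.1, hy.2]

theorem y5_mul (x : U K) {y : U K} (hy : y ∈ QS) : (x * y).y5 = x.y5 + y.y5 := by
  usimp
  simp [hy.1, hy.2]

theorem surjS (v : K × K × K × K) : ∃ x ∈ QS, πS x = v :=
  ⟨⟨0, 0, v.1, v.2.1, 0, 0, 0, 0, 0, v.2.2.1, 0, v.2.2.2⟩, ⟨rfl, rfl⟩, rfl⟩

theorem pair_ne (hσ : σ ∈ autStab QS) : (σ (Y5 1)).y5 • πS (σ (X8 1)) ≠ 0 := fun e => by
  have h := map_eA hσ ((1 : K) • πS (X8 1)) 0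
  rw [pair hσ ⟨rfl, rfl⟩, e] at h
  have := (h ▸ c1_eA _ : C1 QS _).map (inv_mem hσ) (RO.mem hσ (eA_mem ..))
  rw [inv_app] at this
  simpa [πS, eA, X8] using congrArg U.x7 (this.S (eA_mem ..))

theorem semiS (σ : Perm (U K)) (hσ : σ ∈ autStab QS) : ∃ γ, Sem QS πS σ γ := by
  refine exists_sem surjS (fun u => (σ (Y5 u)).y5) (fun s t => ?_) (left_ne_zero_of_smul (pair_ne hσ)) (x0 := X8 1)
    ⟨rfl, rfl⟩ (right_ne_zero_of_smul (pair_ne hσ)) fun x hx y hy u w e => ?_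
  · rw [show Y5 (s + t) = Y5 s * (Y5 t * eA 0 (s * φ t)) by
        ext <;> simp only [eA, Prod.fst_zero, Prod.snd_zero] <;> usimp <;> grind,
      hσ.1.map_mul ⟨rfl, rfl⟩ (mul_mem ⟨rfl, rfl⟩ (eA_mem ..)), hσ.1.map_mul ⟨rfl, rfl⟩ (eA_mem ..),
      y5_mul _ (mul_mem (RO.mem hσ ⟨rfl, rfl⟩) (RO.mem hσ (eA_mem ..))), y5_mul _ (RO.mem hσ (eA_mem ..)), map_eA hσ]
    simp [eA]
  · exact (pair hσ hx u 0).symm.trans (e ▸ pair hσ hy w 0)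

theorem inv0 {w : U K} (hw : w ∈ QS) (h : w * w = 1) (h8 : w.x8 = 0) : w.y3 = 0 ∧ w.y7 = 0 ∧ w.y5 * w.x2 = 0 := by
  obtain ⟨y1, x1, x2, y3, x3, x4, y5, x5, x6, y7, x7, x8⟩ := w
  obtain ⟨rfl, rfl⟩ : y1 = 0 ∧ x1 = 0 := hw
  obtain rfl : x8 = 0 := h8
  obtain rfl : y7 = 0 := nm_inj (by have := congrArg U.x7 h; revert this; usimp; grind)
  have h3 := congrArg U.x3 h
  have h4 := congrArg U.x4 h
  revert h3 h4
  usimp
  intro h3 h4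
  have : y3 = 0 := by
    by_contra e
    have := φ_ne_zero e
    grind
  grind

theorem inv1 {w : U K} (hw : w ∈ QS) (h : w * w = 1) (h8 : w.x8 ≠ 0) (h3 : w.y3 = 0) (h7 : w.y7 = 0) :
    w.x2 = 0 ∧ w.y5 = 0 := by
  obtain ⟨y1, x1, x2, y3, x3, x4, y5, x5, x6, y7, x7, x8⟩ := w
  obtain ⟨rfl, rfl⟩ : y1 = 0 ∧ x1 = 0 := hw
  obtain rfl : y3 = 0 := h3
  obtain rfl : y7 = 0 := h7
  have := φ_ne_zero h8
  have h6 := congrArg U.x6 h
  have h7 := congrArg U.x7 h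
  revert h6 h7
  usimp
  grind

theorem map_sq (hσ : σ ∈ autStab QS) {g : U K} (hg : g ∈ QS) (h : g * g = 1) : σ g * σ g = 1 := by
  rw [← hσ.1.map_mul hg hg, h, hσ.1.map_one]

theorem X2_sq (t : K) : X2 t * X2 t = 1 := by ext <;> usimp <;> grind
theorem X8_sq (t : K) : X8 t * X8 t = 1 := by ext <;> usimp <;> grind

theorem nrmS (s x : U K) (hx : x ∈ QS) : s * x * s⁻¹ ∈ QS := by
  refine ⟨(cj_y1 s x).trans hx.1, ?_⟩
  usimp
  simp only [hx.1, hx.2, map_zero]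
  grind

theorem formS (hσ : σ ∈ autStab QS) {γ : K ≃+* K} (h : Sem QS πS σ γ) {x : U K} (hx : x ∈ QS) :
    πS (σ x) = γ x.x2 • πS (σ (X2 1)) + γ x.y3 • πS (σ (Y3 1)) + γ x.y7 • πS (σ (Y7 1)) + γ x.x8 • πS (σ (X8 1)) := by
  have m2 : X2 x.x2 ∈ QS := ⟨rfl, rfl⟩
  have m3 : Y3 x.y3 ∈ QS := ⟨rfl, rfl⟩
  have m7 : Y7 x.y7 ∈ QS := ⟨rfl, rfl⟩
  have m8 : X8 x.x8 ∈ QS := ⟨rfl, rfl⟩
  rw [h.add homS hσ (mul_mem (mul_mem m2 m3) m7) m8 hx (by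
      rw [homS _ (mul_mem m2 m3) _ m7, homS _ m2 _ m3]; simp [πS, X2, Y3, Y7, X8]),
    h.add homS hσ (mul_mem m2 m3) m7 (mul_mem (mul_mem m2 m3) m7) (homS _ (mul_mem m2 m3) _ m7),
    h.add homS hσ m2 m3 (mul_mem m2 m3) (homS _ m2 _ m3),
    h (X2 1) ⟨rfl, rfl⟩ _ m2 x.x2 (by simp [πS, X2]), h (Y3 1) ⟨rfl, rfl⟩ _ m3 x.y3 (by simp [πS, Y3]),
    h (Y7 1) ⟨rfl, rfl⟩ _ m7 x.y7 (by simp [πS, Y7]), h (X8 1) ⟨rfl, rfl⟩ _ m8 x.x8 (by simp [πS, X8])]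

theorem cm82 {x y : U K} (hx : x ∈ QS) (hy : y ∈ QS) {s t : K} (h1 : πS x = (0, 0, 0, s)) (h2 : πS y = (t, 0, 0, 0))
    (h3 : x.y5 = 0) (h4 : y.y5 = 0) :
    x * y * x⁻¹ * y⁻¹ = eA (0, φ t * s, t * φ s, 0) (x * y * x⁻¹ * y⁻¹).x5 := by
  obtain ⟨y1, x1, x2, y3, x3, x4, y5, x5, x6, y7, x7, x8⟩ := x
  obtain ⟨rfl, rfl⟩ : y1 = 0 ∧ x1 = 0 := hx
  obtain ⟨y1', x1', x2', y3', x3', x4', y5', x5', x6', y7', x7', x8'⟩ := y
  obtain ⟨rfl, rfl⟩ : y1' = 0 ∧ x1' = 0 := hy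
  obtain ⟨rfl, rfl, rfl, rfl⟩ : x2 = 0 ∧ y3 = 0 ∧ y7 = 0 ∧ x8 = s := by simpa [πS] using h1
  obtain ⟨rfl, rfl, rfl, rfl⟩ : x2' = t ∧ y3' = 0 ∧ y7' = 0 ∧ x8' = 0 := by simpa [πS] using h2
  obtain rfl : y5 = 0 := h3
  obtain rfl : y5' = 0 := h4
  ext <;> simp only [eA] <;> usimp <;> grind

theorem kappa (hσ : σ ∈ autStab QS) {r d : K} (h7 : πS (σ (Y7 1)) = (0, 0, r, 0)) (h8 : (σ (X8 1)).x8 = d) :
    (σ (Y5 1)).y5 * d = r * φ r := by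
  have e := congrArg (fun v : K × K × K × K => v.2.2.2) (pair hσ (x := X8 1) ⟨rfl, rfl⟩ 1 0)
  rw [show eA ((1 : K) • πS (X8 (1 : K))) 0 = Y7 1 * Y7 1 by rw [Y7_sq]; simp [eA, πS, X8, X7],
    hσ.1.map_mul ⟨rfl, rfl⟩ ⟨rfl, rfl⟩] at e
  simp only [πS, Prod.mk.injEq] at h7
  simp only [ζ, πS, Prod.smul_mk, smul_eq_mul, h8, mul_x7, mx7, h7] at e
  grind

theorem flS (hq : ∃ c : K, c ≠ 0 ∧ c ≠ 1) (hσ : σ ∈ autStab QS) (h0 : Mv πS σ (X2 1) (X2 1))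
    (h1 : Mv πS σ (X8 1) (X8 1)) : ∃ a b γ, ∀ x ∈ QS, πS (σ x) = πS (aup a b γ x) := by
  obtain ⟨γ, hγ⟩ := semiS σ hσ
  obtain ⟨c, h0⟩ := h0
  obtain ⟨d, h1⟩ := h1
  have hc : c ≠ 0 := fun e => ne_of_sem semiS hσ (x := X2 1) ⟨rfl, rfl⟩ (by simp [πS, X2]) (by rw [h0, e, zero_smul])
  have hd : d ≠ 0 := fun e => ne_of_sem semiS hσ (x := X8 1) ⟨rfl, rfl⟩ (by simp [πS, X8]) (by rw [h1, e, zero_smul])
  have hk := left_ne_zero_of_smul (pair_ne hσ)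
  have m2 : X2 (1 : K) ∈ QS := ⟨rfl, rfl⟩
  have h0' : πS (σ (X2 1)) = (c, 0, 0, 0) := by rw [h0]; simp [πS, X2]
  have h1' : πS (σ (X8 1)) = (0, 0, 0, d) := by rw [h1]; simp [πS, X8]
  have y2 : (σ (X2 1)).y5 = 0 := by
    have := (inv0 (RO.mem hσ m2) (map_sq hσ m2 (X2_sq 1)) (congrArg (fun v => v.2.2.2) h0')).2.2
    rw [show (σ (X2 1)).x2 = c from congrArg Prod.fst h0'] at this
    exact (mul_eq_zero.1 this).resolve_right hc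
  have key : ∀ u : K, u ≠ 0 → (σ (Y5 1)).y5 • (γ u • πS (σ (Y3 1)) + φ (γ u) • πS (σ (Y7 1))) =
      (0, φ c * (γ u * d), c * φ (γ u * d), 0) := fun u hu => by
    have m8 : X8 u ∈ QS := ⟨rfl, rfl⟩
    have e8 : πS (σ (X8 u)) = (0, 0, 0, γ u * d) := by
      rw [hγ (X8 1) ⟨rfl, rfl⟩ _ m8 u (by simp [πS, X8]), h1']; simp
    have y8 := (inv1 (RO.mem hσ m8) (map_sq hσ m8 (X8_sq u))
      (by rw [show (σ (X8 u)).x8 = γ u * d from congrArg (fun v => v.2.2.2) e8]; simp [hu, hd])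
      (congrArg (fun v => v.2.1) e8) (congrArg (fun v => v.2.2.1) e8)).2
    have e := map_cm hσ m8 m2
    rw [cm82 m8 m2 (s := u) (t := 1) rfl rfl rfl rfl, cm82 (RO.mem hσ m8) (RO.mem hσ m2) e8 h0' y8 y2] at e
    have e1 := pair hσ (x := ⟨0, 0, 0, u, 0, 0, 0, 0, 0, φ u, 0, 0⟩) ⟨rfl, rfl⟩ 1 (X8 u * X2 1 * (X8 u)⁻¹ * (X2 1)⁻¹).x5
    rw [formS hσ hγ ⟨rfl, rfl⟩] at e1
    simp only [one_smul, map_zero, zero_smul, zero_add, add_zero, gal_comm γ φ] at e1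
    rw [map_one, one_mul, one_mul] at e
    exact e1.symm.trans (congrArg ζ e)
  obtain ⟨v, v0, v1⟩ := hq
  have k1 := key 1 one_ne_zero
  have k2 := key (γ.symm v) (by simpa using v0)
  have hv := φ_ne v0 v1
  have k3 := fun r => kappa hσ (r := r) (d := d)
  have hf := fun x => formS hσ hγ (x := x)
  generalize πS (σ (Y3 1)) = p at *
  generalize πS (σ (Y7 1)) = r at *
  generalize (σ (Y5 1)).y5 = κ at *
  obtain ⟨p1, p2, p3, p4⟩ := p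
  obtain ⟨r1, r2, r3, r4⟩ := r
  simp only [map_one, one_smul, RingEquiv.apply_symm_apply, Prod.smul_mk, Prod.mk_add_mk, smul_eq_mul, Prod.mk.injEq,
    map_mul, one_mul] at k1 k2
  obtain rfl : r1 = 0 := by grind
  obtain rfl : r2 = 0 := by grind
  obtain rfl : r4 = 0 := by grind
  have e7 : κ * r3 = c * φ d := by grind
  obtain rfl : p1 = 0 := by grind
  obtain rfl : p3 = 0 := by grind
  obtain rfl : p4 = 0 := by grind
  have e3 : κ * p2 = φ c * d := by grind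
  have e4 := k3 r3 rfl (congrArg (fun v => v.2.2.2) h1')
  have hd' := φ_ne_zero hd
  have hr : r3 ≠ 0 := fun e => by simp [e, hc, hd'] at e7
  have e5 := congrArg φ e7
  rw [map_mul, map_mul, φφ] at e5
  have e6 : φ κ = c * d := nm_inj (by rw [φφ, map_mul]; grind)
  have e8 := congrArg φ e6
  rw [φφ, map_mul] at e8
  refine ⟨Units.mk0 r3 hr / Units.mk0 d hd, Units.mk0 d hd, γ, fun x hx => ?_⟩
  rw [hf x hx, h0', h1']
  simp only [πS, aup_apply, au, Units.val_div_eq_div_val, Units.val_mk0, map_div₀, Prod.smul_mk, Prod.mk_add_mk,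
    smul_eq_mul, Prod.mk.injEq]
  refine ⟨?_, ?_, ?_, ?_⟩ <;> field_simp <;> grind

theorem Fr.S {D : Subgroup (U K)} (h : Fr QS D) {x : U K} (hx : x ∈ QS) (h1 : πS x = 0) (h2 : x.y5 = 0) : x ∈ D := by
  have hA := h.A (fun _ => ⟨rfl, rfl⟩) (fun _ => ⟨rfl, rfl⟩) fun _ => ⟨rfl, rfl⟩
  simp only [πS, Prod.mk_eq_zero] at h1
  exact mem_of_dec (hx.1 ▸ D.one_mem) (hx.2 ▸ D.one_mem) (h1.1 ▸ D.one_mem) (h1.2.1 ▸ D.one_mem) (hA _).1
    (hA _).2.1 (h2 ▸ D.one_mem) (hA _).2.2.1 (hA _).2.2.2.1 (h1.2.2.1 ▸ D.one_mem) (hA _).2.2.2.2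
    (h1.2.2.2 ▸ D.one_mem)

theorem fixy5 (hσ : σ ∈ autStab QS) (h : ∀ x ∈ QS, πS (σ x) = πS x) (u : K) : (σ (Y5 u)).y5 = u := by
  have h1 := kappa hσ (h (Y7 1) ⟨rfl, rfl⟩) (congrArg (fun v => v.2.2.2) (h (X8 1) ⟨rfl, rfl⟩))
  have h2 := pair hσ (x := X8 1) ⟨rfl, rfl⟩ u 0
  have h3 := pair hσ (x := X8 u) ⟨rfl, rfl⟩ 1 0
  rw [show u • πS (X8 1) = (1 : K) • πS (X8 u) by simp [πS, X8], h3, h _ ⟨rfl, rfl⟩, h _ ⟨rfl, rfl⟩] at h2
  simp only [πS, X8, Y7, map_one, mul_one] at h1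
  simpa [πS, X8, h1, eq_comm] using h2

theorem πS_inv {x : U K} (hx : x ∈ QS) {y : U K} (hy : y ∈ QS) (h : πS y = πS x) : πS (x⁻¹ * y) = 0 := by
  have := homS x hx _ (mul_mem (inv_mem hx) hy)
  rw [mul_inv_cancel_left, h] at this
  simpa using this

theorem twoS (hσ : σ ∈ autStab QS) (h : ∀ x ∈ QS, πS (σ x) = πS x) : ∃ k, σ ^ 2 ^ k ∈ fixP QS := by
  have h5 : ∀ m ∈ QS, πS m = 0 → (σ m).y5 = m.y5 := fun m hm e => by
    have m5 : Y5 m.y5 ∈ QS := ⟨rfl, rfl⟩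
    have : m = Y5 m.y5 * eA (ζ m) m.x5 := by
      simp only [πS, Prod.mk_eq_zero] at e
      ext <;> simp only [eA, ζ] <;> usimp <;> simp [e, hm.1, hm.2]
    rw [this, hσ.1.map_mul m5 (eA_mem ..), y5_mul _ (RO.mem hσ (eA_mem ..)), y5_mul _ (eA_mem ..), fixy5 hσ h,
      map_eA hσ]
    rfl
  obtain ⟨k, hk⟩ := two_of (mul_mem hσ hσ) fun D hD x hx => by
    have h1 := RO.mem hσ hx
    have h2 := mul_mem (inv_mem hx) h1
    refine hD.S (mul_mem (inv_mem hx) (RO.mem hσ h1)) (πS_inv hx (RO.mem hσ h1) ((h _ h1).trans (h x hx))) ?_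
    have e := h5 _ h2 (πS_inv hx h1 (h x hx))
    rw [show x⁻¹ * (σ * σ) x = x⁻¹ * σ x * σ (x⁻¹ * σ x) by
      rw [hσ.1.map_mul (inv_mem hx) h1, hσ.1.map_inv hx]; simp [mul_assoc], y5_mul _ (RO.mem hσ h2), e]
    exact CharTwo.add_self_eq_zero _
  exact ⟨k + 1, by rwa [pow_succ', pow_mul, pow_two]⟩

section Fix
variable (hq : ∃ c : K, c ≠ 0 ∧ c ≠ 1) (hσ : σ ∈ autStab QS) (h : ∀ x ∈ QS, πS (σ x) = πS x)
  (H : ∀ a b : Kˣ, ∀ x ∈ QS, σ (aup a b 1 x) = aup a b 1 (σ x))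
include hq h H

theorem fixX8 (t : K) : σ (X8 t) = X8 t := by
  obtain ⟨c, c0, c1⟩ := hq
  have hw := wts c0 c1
  have e := H (Units.mk0 c c0) 1 (X8 t) ⟨rfl, rfl⟩
  rw [show aup (Units.mk0 c c0) 1 1 (X8 t) = X8 t by ext <;> simp [aup_apply, au, X8]] at e
  simp only [U.ext_iff, aup_apply, au, Units.val_one, Units.val_mk0, RingAut.one_apply, map_one, one_pow,
    mul_one] at e
  obtain ⟨e0, e1, e2, e3, e4, e5, e6, e7, e8, e9, e10, -⟩ := e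
  refine U.ext (van e0 ?_) (van e1 ?_) (van e2 ?_) (van e3 ?_) (van e4 ?_) (van e5 ?_) (van e6 ?_) (van e7 ?_)
    (van e8 ?_) (van e9 ?_) (van e10 ?_) (congrArg (fun v => v.2.2.2) (h _ ⟨rfl, rfl⟩)) <;> grind

theorem fixX2 (t : K) : σ (X2 t) = X2 t := by
  obtain ⟨c, c0, c1⟩ := hq
  have hw := wts c0 c1
  have := hw.1
  have hb : c ^ 2 * φ c ≠ 0 := by simp [c0, this]
  have e := H (Units.mk0 c c0) (Units.mk0 _ hb)⁻¹ (X2 t) ⟨rfl, rfl⟩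
  rw [show aup (Units.mk0 c c0) (Units.mk0 _ hb)⁻¹ 1 (X2 t) = X2 t by
    ext <;> simp [aup_apply, au, X2]; field_simp] at e
  simp only [U.ext_iff, aup_apply, au, Units.val_inv_eq_inv_val, Units.val_mk0, RingAut.one_apply, map_inv₀,
    map_mul, map_pow, φφ] at e
  obtain ⟨e0, e1, -, e3, e4, e5, e6, e7, e8, e9, e10, e11⟩ := e
  refine U.ext (van e0 ?_) (van e1 ?_) (congrArg Prod.fst (h _ ⟨rfl, rfl⟩)) (van e3 ?_) (van e4 ?_) (van e5 ?_)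
    (van e6 ?_) (van e7 ?_) (van e8 ?_) (van e9 ?_) (van e10 ?_) (van e11 ?_) <;> intro h <;>
    (try field_simp at h) <;> grind

include hσ

theorem fixY3 (t : K) : σ (Y3 t) = Y3 t := by
  obtain ⟨c, c0, c1⟩ := id hq
  have hw := wts c0 c1
  have := hw.1
  have hb : c * φ c ≠ 0 := by simp [c0, this]
  have hm : ∀ t : K, Y3 t ∈ QS := fun _ => ⟨rfl, rfl⟩
  have h2 : ∀ t, σ (Y3 t) = ⟨0, 0, 0, t, (σ (Y3 t)).x3, 0, 0, 0, 0, 0, 0, 0⟩ := fun t => by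
    have e := H (Units.mk0 c c0) (Units.mk0 _ hb)⁻¹ _ (hm t)
    rw [show aup (Units.mk0 c c0) (Units.mk0 _ hb)⁻¹ 1 (Y3 t) = Y3 t by
      ext <;> simp [aup_apply, au, Y3]; field_simp] at e
    simp only [U.ext_iff, aup_apply, au, Units.val_inv_eq_inv_val, Units.val_mk0, RingAut.one_apply, map_inv₀,
      map_mul, φφ] at e
    obtain ⟨e0, e1, e2, -, -, e5, e6, e7, e8, e9, e10, e11⟩ := e
    refine U.ext (van e0 ?_) (van e1 ?_) (van e2 ?_) (congrArg (fun v => v.2.1) (h _ (hm t))) rfl (van e5 ?_)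
      (van e6 ?_) (van e7 ?_) (van e8 ?_) (van e9 ?_) (van e10 ?_) (van e11 ?_) <;> intro h <;>
      (try field_simp at h) <;> grind
  have h3 : ∀ t, σ (X3 t) = X3 t := fun t => by
    obtain ⟨s, rfl⟩ := nm_surj t
    rw [← Y3_sq, hσ.1.map_mul (hm s) (hm s), h2]
    ext <;> usimp <;> grind
  have h4 := f_zero hq (fun t => (σ (Y3 t)).x3) (fun s t => by
    have e := hσ.1.map_mul (hm s) (hm t)
    rw [show Y3 s * Y3 t = Y3 (s + t) * X3 (s * φ t) by ext <;> usimp, hσ.1.map_mul (hm _) ⟨rfl, rfl⟩, h3, h2 s, h2 t,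
      h2 (s + t)] at e
    have := congrArg U.x3 e
    revert this
    simp only [mul_x3, mx3, X3, map_zero, mul_zero, zero_mul, add_zero]
    grind) fun a ha => by
      have e := congrArg U.x3 (H 1 (Units.mk0 a ha) _ (hm 1))
      rw [show aup 1 (Units.mk0 a ha) 1 (Y3 1) = Y3 a by ext <;> simp [aup_apply, au, Y3]] at e
      simpa [aup_apply, au] using e
  rw [h2, h4]
  rfl

theorem fixY5 (t : K) : σ (Y5 t) = Y5 t := by
  obtain ⟨c, c0, c1⟩ := id hq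
  have hw := wts c0 c1
  have := hw.1
  have hb : c * φ c ≠ 0 := by simp [c0, this]
  have hm : ∀ t : K, Y5 t ∈ QS := fun _ => ⟨rfl, rfl⟩
  have h2 : ∀ t, σ (Y5 t) = ⟨0, 0, 0, 0, 0, 0, t, (σ (Y5 t)).x5, 0, 0, 0, 0⟩ := fun t => by
    have e := H (Units.mk0 _ this) (Units.mk0 _ hb)⁻¹ _ (hm t)
    rw [show aup (Units.mk0 _ this) (Units.mk0 _ hb)⁻¹ 1 (Y5 t) = Y5 t by
      ext <;> simp [aup_apply, au, Y5, φφ]; field_simp] at e
    simp only [U.ext_iff, aup_apply, au, Units.val_inv_eq_inv_val, Units.val_mk0, RingAut.one_apply, map_inv₀,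
      map_mul, φφ] at e
    obtain ⟨e0, e1, e2, e3, e4, e5, -, -, e8, e9, e10, e11⟩ := e
    refine U.ext (van e0 ?_) (van e1 ?_) (van e2 ?_) (van e3 ?_) (van e4 ?_) (van e5 ?_) (fixy5 hσ h t) rfl
      (van e8 ?_) (van e9 ?_) (van e10 ?_) (van e11 ?_) <;> intro h <;> (try field_simp at h) <;> grind
  have h3 : ∀ t, σ (X5 t) = X5 t := fun t => by
    obtain ⟨s, rfl⟩ := nm_surj t
    rw [← Y5_sq, hσ.1.map_mul (hm s) (hm s), h2]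
    ext <;> usimp <;> grind
  have h4 := f_zero hq (fun t => (σ (Y5 t)).x5) (fun s t => by
    have e := hσ.1.map_mul (hm s) (hm t)
    rw [show Y5 s * Y5 t = Y5 (s + t) * X5 (s * φ t) by ext <;> usimp, hσ.1.map_mul (hm _) ⟨rfl, rfl⟩, h3, h2 s, h2 t,
      h2 (s + t)] at e
    have := congrArg U.x5 e
    revert this
    simp only [mul_x5, mx5, X5, map_zero, mul_zero, zero_mul, add_zero]
    grind) fun a ha => by
      have hb : φ.symm a ≠ 0 := by simpa using ha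
      have h5 := φφ (φ.symm a)
      have e := congrArg U.x5 (H 1 (Units.mk0 _ hb) _ (hm 1))
      rw [show aup 1 (Units.mk0 _ hb) 1 (Y5 1) = Y5 a by ext <;> simp [aup_apply, au, Y5]] at e
      rw [RingEquiv.apply_symm_apply] at h5
      simpa [aup_apply, au, ← h5, mul_comm] using e
  rw [h2, h4]
  rfl

theorem cenS' : σ ∈ fixP QS := fix_of hσ fun D hD x hx => by
  have m2 : X2 x.x2 ∈ QS := ⟨rfl, rfl⟩
  have m3 : Y3 x.y3 ∈ QS := ⟨rfl, rfl⟩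
  have m5 : Y5 x.y5 ∈ QS := ⟨rfl, rfl⟩
  have m7 : Y7 x.y7 ∈ QS := ⟨rfl, rfl⟩
  have m8 : X8 x.x8 ∈ QS := ⟨rfl, rfl⟩
  have a := mul_mem m7 m8
  have b := mul_mem m5 a
  have c := mul_mem m3 b
  have d := mul_mem m2 c
  refine ⟨_, d, ?_, hD.S (mul_mem (inv_mem d) hx) (πS_inv d hx ?_) ?_⟩
  · rw [hσ.1.map_mul m2 c, hσ.1.map_mul m3 b, hσ.1.map_mul m5 a, hσ.1.map_mul m7 m8, fixX2 hq h H, fixX8 hq h H,
      fixY3 hq hσ h H, fixY5 hq hσ h H,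
      fixY7 hq hσ (fun _ => ⟨rfl, rfl⟩) (fun t => congrArg (fun v => v.2.2.1) (h _ ⟨rfl, rfl⟩)) H]
  · simp only [πS]
    usimp
  · rw [y5_mul _ hx]
    usimp
    exact CharTwo.add_self_eq_zero _

end Fix

instance instRS : RS := ⟨fun {K} _ _ _ hq =>
  { nrm := nrmS
    hom := homS
    surj := surjS
    m0 := ⟨rfl, rfl⟩
    m1 := ⟨rfl, rfl⟩
    ind := fun c d e => by simpa [πS, X2, X8, eq_comm] using e
    cj0 := fun s => by
      simp only [πS, Prod.mk.injEq]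
      refine ⟨?_, ?_, ?_, ?_⟩ <;> usimp <;> grind
    cjS := fun s x hx y hy c e => by
      simp only [πS, Prod.smul_mk, smul_eq_mul, Prod.mk.injEq, cj_apply, RingAut.one_apply] at e ⊢
      refine ⟨?_, ?_, ?_, ?_⟩ <;> usimp <;> simp only [hx.1, hx.2, hy.1, hy.2, e, map_zero] <;> grind
    auQ := fun a b γ x hx => ⟨show _ * γ x.y1 = 0 by simp [hx.1], show _ * γ x.x1 = 0 by simp [hx.2]⟩
    auS := fun a b γ x _ y _ c e => by
      simp only [πS, Prod.smul_mk, smul_eq_mul, Prod.mk.injEq, aup_apply, au] at e ⊢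
      simp only [e, map_mul]
      refine ⟨?_, ?_, ?_, ?_⟩ <;> ring
    au0 := fun a b γ => ⟨a ^ 2 * φ (a : K) * b, by simp [πS, aup_apply, au, X2]⟩
    au1 := fun a b γ => ⟨b, by simp [πS, aup_apply, au, X8]⟩
    semi := semiS
    pt := fun σ hσ g hg => by
      have hg' : g ∈ QS ∧ g * g = 1 := by
        rcases hg with rfl | rfl
        exacts [⟨⟨rfl, rfl⟩, X2_sq 1⟩, ⟨⟨rfl, rfl⟩, X8_sq 1⟩]
      have hm := RO.mem hσ hg'.1
      have h2 := map_sq hσ hg'.1 hg'.2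
      simp only [Mv, Perm.mul_apply, cj_apply]
      generalize σ g = w at hm h2
      by_cases h : w.x8 = 0
      · exact Or.inl ⟨w.x2, by simp [πS, X2, h, inv0 hm h2 h]⟩
      · obtain ⟨s, h3, h7⟩ : ∃ s : U K, (s * w * s⁻¹).y3 = 0 ∧ (s * w * s⁻¹).y7 = 0 := by
          obtain ⟨s, hs⟩ : ∃ s, s * w.x8 = w.y7 := ⟨_, div_mul_cancel₀ _ h⟩
          obtain ⟨r, hr⟩ : ∃ r, r * w.x8 = (Y1 s * w * (Y1 s)⁻¹).y3 := ⟨_, div_mul_cancel₀ _ h⟩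
          refine ⟨X1 r * Y1 s, ?_, ?_⟩ <;> revert hr <;> usimp <;> have := hm.1 <;> have := hm.2 <;> grind
        have := inv1 (nrmS s w hm) (by rw [conj_mul, h2]; simp) (by rwa [cj_x8]) h3 h7
        exact Or.inr ⟨s, w.x8, by simp [πS, X8, h3, h7, this, cj_x8]⟩
    fl := fun σ hσ => flS hq hσ
    two := fun σ => twoS
    cen := fun σ hσ h H => cenS' hq hσ h H }⟩

end Cfsg.Agent.Rf
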