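import Cfsg.Agent.Rf.C2
import Cfsg.Agent.L.Transport2

/-! Assembly of `S5262` from the slices. -/

set_option autoImplicit false
set_option linter.unusedSectionVars false

open Equiv

namespace Cfsg.Agent.Rf

open Cfsg.Fus Cfsg.FusionSystem U

variable {K : Type} [Field K] [Finite K] [TF K]
variable {F : FusionSystem (⊤ : Subgroup (U K))}

theorem ess_cases [ESS] (hF : F.IsSaturated 2) : (F.IsEssential 2 QL ∧ F.IsEssential 2 QS) ∨
    ∃ Q, (Q = QL ∨ Q = QS ∨ Q = ⊤) ∧ F.IsNormal Q ∧ F.IsCentric Q := by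
  haveI : Fact (Nat.Prime 2) := ⟨Nat.prime_two⟩
  have key : ∀ Q, F.IsEssential 2 Q → (∀ E, F.IsEssential 2 E → E = Q) → F.IsNormal Q := fun Q hQ H =>
    hF.isNormal_of_essential (isP _) fun R hR => by
      rcases hR with rfl | hR
      · exact ⟨le_top, fun τ hτ x hx => (stab_ess hF hQ hτ x).2 hx⟩
      · exact H R hR ▸ ⟨le_rfl, fun τ hτ x hx => hτ.mem hx⟩
  by_cases hL : F.IsEssential 2 QL <;> by_cases hS : F.IsEssential 2 QS
  · exact Or.inl ⟨hL, hS⟩
  · exact Or.inr ⟨_, Or.inl rfl, key _ hL fun E hE => (ESS.out hF E hE).resolve_right fun e => hS (e ▸ hE),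
      hL.isCentric⟩
  · exact Or.inr ⟨_, Or.inr (Or.inl rfl),
      key _ hS fun E hE => (ESS.out hF E hE).resolve_left fun e => hL (e ▸ hE), hS.isCentric⟩
  · refine Or.inr ⟨_, Or.inr (Or.inr rfl), hF.isNormal_of_essential (isP _) fun R hR => ?_, F.isCentric_top⟩
    rcases hR with rfl | hR
    · exact ⟨le_rfl, fun _ _ _ _ => trivial⟩
    · exact ((ESS.out hF R hR).elim (fun e => hL (e ▸ hR)) fun e => hS (e ▸ hR)).elim

theorem exists_std [ESS] [LieS.{0}] (Γ : Subgroup (K ≃+* K)) : ∃ F : FusionSystem (⊤ : Subgroup (U K)),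
    Nrm Γ F ∧ F.IsEssential 2 QL ∧ F.IsEssential 2 QS ∧ F.IsRealizable 2 := by
  haveI : Fact (Nat.Prime 2) := ⟨Nat.prime_two⟩
  obtain ⟨G, _, _, J, nL, nS, h⟩ := LieS.grp.{0} K Γ
  let ι : (⊤ : Subgroup (U K)) →* G := J.comp (Subgroup.subtype ⊤)
  have hι : ∀ x : U K, extFun ι x = J x := fun x => by rw [extFun_of_mem ι (Subgroup.mem_top x)]; rfl
  have hinj : Function.Injective ι := fun a b e => Subtype.ext (h.inj e)
  obtain ⟨θ, t⟩ := L.exists_pIso_of_injective ι hinj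
  obtain ⟨F, t'⟩ := t.symm.exists_transp le_rfl (groupFusionSystem ι.range) t.symm.img_self
  have hG := (L.realized_of_transp t'.symm (ι := ι) fun x => (extFun_coe ι x).symm).1
  have hT : ∃ T : Sylow 2 G, (T : Subgroup G) = ι.range := h.syl.imp fun T e => by
    rw [e, MonoidHom.range_comp, Subgroup.range_subtype, MonoidHom.range_eq_map]
  have key : ∀ P f, F.IsMap P f ↔ ∃ g : G, ∀ x ∈ P, J (f x) = g * J x * g⁻¹ := fun P f =>
    ⟨fun hf => by simpa [hι] using L.realized_exists_conj hG hf, fun ⟨g, e⟩ =>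
      L.realized_isMap hG le_top (fun _ _ => trivial) (g := g) fun x hx => by simpa [hι] using e x hx⟩
  have hF := L.isSaturated_of_realized hG hT
  have fuse : ∀ (g : G) (x y : U K), g * J x * g⁻¹ = J y → ∀ Q, F.IsNormal Q → (∀ z ∈ Q, z * x = x * z) →
      ∀ z ∈ Q, z * y = y * z := fun g x y e Q hQ hx => by
    have h1 : ∀ w ∈ Subgroup.zpowers x, J (Function.invFun J (g * J w * g⁻¹)) = g * J w * g⁻¹ := by
      rintro _ ⟨k, rfl⟩
      exact Function.invFun_eq ⟨y ^ k, by rw [map_zpow, ← e, conj_zpow, map_zpow]⟩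
    have := hQ.stronglyClosed_centralizerIn.mem ((key _ _).2 ⟨g, h1⟩) (Subgroup.mem_zpowers x) ⟨trivial, hx⟩
    rw [h.inj ((h1 x (Subgroup.mem_zpowers x)).trans e)] at this
    exact this.2
  have hE : F.IsEssential 2 QL ∧ F.IsEssential 2 QS := (ess_cases hF).resolve_right fun ⟨Q, h1, h2, _⟩ => by
    have a : X8 1 ∈ Q → False := fun hm => by
      have := congrArg U.x5 (fuse nL⁻¹ (X5 1) (X3 1) (by rw [← (h.wL 1).2.2.2.2.1]; group) Q h2
        (fun z _ => by ext <;> usimp <;> ring) _ hm)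
      revert this
      usimp
      simp
    rcases h1 with rfl | rfl | rfl
    · have := congrArg U.x6 (fuse nS (X3 1) (X7 1) (h.wS 1).2.2.1 _ h2
        (fun z (hz : z.x8 = 0) => by ext <;> usimp <;> simp [hz, add_comm]) (Y1 1) rfl)
      revert this
      usimp
      simp
    · exact a ⟨rfl, rfl⟩
    · exact a trivial
  refine ⟨F, ⟨hF, fun σ hσ => ?_, fun γ hγ => ?_⟩, hE.1, hE.2, G, _, inferInstance, ι, hG, hT⟩
  · obtain ⟨g, e⟩ := (key _ _).1 hσ.isMap
    obtain ⟨s, a, b, γ, h1, ha, hb, e'⟩ := h.nrm g (mem_normalizer_of_finite (by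
      rintro _ ⟨x, rfl⟩
      exact ⟨_, e x trivial⟩))
    exact ⟨s, Units.mk0 a ha, Units.mk0 b hb, γ, h1, Equiv.ext fun x => h.inj ((e x trivial).trans (e' x))⟩
  · obtain ⟨g, e⟩ := h.tor 1 1 one_ne_zero one_ne_zero γ hγ
    exact ⟨1, 1, IsMap.iso_self ((key _ _).2 ⟨g, fun x _ => (e x).symm⟩) fun _ _ => trivial⟩

theorem realizable [ESS] [LieS.{0}] [RL] [RS] [RT] [D2] (hF : F.IsSaturated 2) : F.IsRealizable 2 := by
  haveI : Fact (Nat.Prime 2) := ⟨Nat.prime_two⟩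
  rcases ess_cases hF with ⟨hL, hS⟩ | ⟨Q, -, h⟩
  · by_cases hq : ∃ c : K, c ≠ 0 ∧ c ≠ 1
    · obtain ⟨θ, θ', Γ, F', t, h1, h2, h3⟩ := exists_nrm hq hF hL hS
      obtain ⟨F0, h4, h5, h6, h7⟩ := exists_std Γ
      rw [← eq_of_le_of_ge (h1.le hq h4 h2 h3 h5 h6) (h4.le hq h1 h5 h6 h2 h3)] at h7
      exact t.symm.isRealizable' h7
    · obtain ⟨F0, h4, h5, h6, h7⟩ := exists_std (K := K) ⊥
      obtain ⟨θ, θ', t⟩ := D2.out (fun c => by by_contra! H; exact hq ⟨c, H⟩) F F0 hF h4.sat hL hS h5 h6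
      exact t.symm.isRealizable' h7
  · exact H4.Sp.isRealizable_of_constrained (isP _) ⟨hF, Q, h⟩

theorem final.{u} [ESS] [LieS.{0}] [LieS.{u}] [RL] [RS] [RT] [D2] {Ω : Type*} [Group Ω] {S : Subgroup Ω}
    [Finite S] (F : FusionSystem S) (hF : F.IsSaturated 2) {K : Type u} [Field K] [Fintype K] (m : ℕ)
    (hK : Fintype.card K = 2 ^ (2 * m + 1)) (T : Sylow 2 (Cfsg.Lie.twistedF4 K (2 ^ m)))
    (e : S ≃* (T : Subgroup (Cfsg.Lie.twistedF4 K (2 ^ m)))) : F.IsRealizable 2 := by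
  obtain ⟨K', _, _, _, -, ⟨f⟩⟩ := LieS.syl m hK T
  obtain ⟨θ, θ', F', t⟩ := H6.exists_transp_of_equiv ((e.trans f).trans Subgroup.topEquiv.symm) F
  exact t.symm.isRealizable' (realizable (t.isSaturated hF))

end Cfsg.Agent.Rf
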